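import Cfsg.Agent.M22Order.Eleven
import Cfsg.Agent.Small.DegreeGraph.BlockThree
import Cfsg.Agent.Chars.Sums

/-!
The principal 11-block of a simple group of order 443520.
-/

set_option autoImplicit false
set_option linter.unusedSectionVars false
set_option linter.style.haveILetI false

namespace Cfsg.Lib.M22Order

open Cfsg.Lib.Chars Cfsg.Lib.Blocks Cfsg.Lib.Blocks.SmallOrder Cfsg.Lib.Blocks.SylowCount
  Cfsg.Lib.Blocks.DegreeEquation
open Cfsg.Lib.Small.DegreeGraph (sdeg)
open scoped ComplexConjugate _root_.Classical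

universe u

variable {G : Type u} [Group G] [Fintype G] [IsSimpleGroup G] [Fact (Nat.Prime 11)]

/-- the quadruple of a function -/
def v4 (f : Fin 4 → ℤ) : V4 := (f 0, f 1, f 2, f 3)

/-- The principal block with its characters other than the exceptional ones labelled by increasing degree. -/
structure Blk (G : Type u) [Group G] [Fintype G] [IsSimpleGroup G] [Fact (Nat.Prime 11)] where
  /-- the modular system -/
  M : Ideal AlgInt
  modular : IsPModular 11 M
  /-- the Sylow subgroup -/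
  C : Cyc G 11
  core : Core C
  /-- the exceptional family -/
  ν : (ZMod 11)ˣ → IrrCharacter G
  /-- its sign -/
  δ : ℤ
  data : C.OrbitData C.oneV ν δ
  /-- the other characters -/
  c : Fin 4 → IrrCharacter G
  c_inj : Function.Injective c
  ne_one : ∀ i, c i ≠ oneG G
  not_one : oneG G ∉ Set.range ν
  ord_eq : ordSet C ν = insert (oneG G) (Finset.univ.image c)
  card : Nat.card G = 443520
  idx_eq : idx C = 8064
  index : eC C = 5
  trivial_V : Nat.card C.V = 1
  z_mem : v4 (fun i => sdeg C (c i)) ∈ zOpts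

namespace Blk

variable (B : Blk G)

/-- the element of order eleven -/
noncomputable def x : G := B.C.y

/-- the signed degrees -/
noncomputable def z (i : Fin 4) : ℤ := sdeg B.C (B.c i)

/-- the characters outside the block -/
noncomputable def rest : Finset (IrrCharacter G) :=
  Finset.univ \ (insert (oneG G) (Finset.univ.image B.c) ∪ Finset.univ.image B.ν)

theorem oneG_apply (g : G) : (oneG G : G → ℂ) g = 1 := rfl

theorem c_mem (i : Fin 4) : B.c i ∈ ordSet B.C B.ν := by
  rw [B.ord_eq]; exact Finset.mem_insert_of_mem (Finset.mem_image_of_mem _ (Finset.mem_univ _))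

theorem sign_c (i : Fin 4) : B.C.bI (B.c i) B.C.oneV 1 = 1 ∨ B.C.bI (B.c i) B.C.oneV 1 = -1 :=
  B.data.sign_diff (χ := B.c i) (mem_ordSet.1 (B.c_mem i))

theorem sign_eq (i : Fin 4) : B.C.bI (B.c i) B.C.oneV 1 = sgn (B.z i) ∧
    (B.z i).natAbs = deg (B.c i : G → ℂ) := by
  have h0 := deg_irr_pos (B.c i)
  rcases B.sign_c i with e | e <;> simp only [z, sdeg, e, sgn]
  · rw [if_pos (by omega)]; omega
  · rw [if_neg (by omega)]; omega

theorem z_ne (i : Fin 4) : B.z i ≠ 0 := fun e => by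
  have := (B.sign_eq i).2
  rw [e] at this
  have := deg_irr_pos (B.c i)
  simp at *
  omega

theorem sum_split {R : Type*} [AddCommMonoid R] (f : IrrCharacter G → R) :
    ∑ η, f η = f (oneG G) + ∑ i, f (B.c i) + ∑ η ∈ Finset.univ.image B.ν, f η + ∑ η ∈ B.rest, f η := by
  have hdisj : Disjoint (insert (oneG G) (Finset.univ.image B.c)) (Finset.univ.image B.ν) := by
    rw [← B.ord_eq]; exact Finset.disjoint_left.2 fun χ h1 h2 => by
      obtain ⟨u, -, rfl⟩ := Finset.mem_image.1 h2
      exact (mem_ordSet.1 h1).2 ⟨u, rfl⟩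
  rw [rest, ← Finset.sum_sdiff (Finset.subset_univ (insert (oneG G) (Finset.univ.image B.c) ∪ Finset.univ.image B.ν)),
    Finset.sum_union hdisj, Finset.sum_insert (by
      rw [Finset.mem_image]; rintro ⟨i, -, hi⟩; exact B.ne_one i hi),
    Finset.sum_image fun a _ b _ e => B.c_inj e]
  abel

theorem mem_rest {η : IrrCharacter G} (hη : η ∈ B.rest) : ¬ B.C.Lies η B.C.oneV := fun hl => by
  rw [rest, Finset.mem_sdiff, ← B.ord_eq, Finset.mem_union] at hη
  refine hη.2 ?_
  by_cases hn : η ∈ Set.range B.ν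
  · obtain ⟨u, rfl⟩ := hn
    exact Or.inr (Finset.mem_image_of_mem _ (Finset.mem_univ _))
  · exact Or.inl (mem_ordSet.2 ⟨hl, hn⟩)

theorem rest_apply_x {η : IrrCharacter G} (hη : η ∈ B.rest) : (η : G → ℂ) B.x = 0 := by
  obtain ⟨P, hP⟩ := B.core.sylow
  have hv : ∀ v : B.C.V, v = 1 := fun v => (Nat.card_eq_one_iff_unique.1 B.trivial_V).1.elim v 1
  have hone : ∀ θ : IrrCharacter B.C.V, θ = B.C.oneV := fun θ => by
    refine Subtype.ext (funext fun v => ?_)
    rw [hv v, irr_deg_one_of_comm (fun a b => by rw [hv a, hv b]) θ.2]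
    rfl
  exact B.C.apply_singular_of_forall_not_lies (fun θ => hone θ ▸ B.mem_rest hη) P hP (dvd_of_eq B.C.order.symm)

theorem rest_dvd_deg {η : IrrCharacter G} (hη : η ∈ B.rest) : 11 ∣ deg (η : G → ℂ) := by
  have h1 := small_apply_mul_sub B.modular (isCharacter_of_irr η.2) (x := B.C.y) (y := 1)
    (Commute.one_right _) ⟨1, by rw [pow_one, B.C.order]⟩
    (by rw [orderOf_one]; norm_num)
  rw [mul_one, show (η : G → ℂ) B.C.y = 0 from B.rest_apply_x hη, irr_apply_one_eq_deg] at h1
  refine Int.natCast_dvd_natCast.1 (dvd_neg.1 ((small_intCast_iff B.modular _).1 ?_))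
  push_cast
  simpa using h1

theorem apply_x (i : Fin 4) : (B.c i : G → ℂ) B.x = (sgn (B.z i) : ℂ) := by
  rw [x, ← B.C.yP_one, ← (B.sign_eq i).1]
  exact apply_yP_ord B.modular B.data (mem_ordSet.1 (B.c_mem i)).2 (mem_ordSet.1 (B.c_mem i)).1 one_ne_zero

theorem card_exc : (Finset.univ.image B.ν).card = 2 := by
  have h := index_mul_eC (C := B.C)
  rw [← card_image B.data, B.index] at h
  omega

theorem apply_exc {η : IrrCharacter G} (hη : η ∈ Finset.univ.image B.ν) {g : G} (hg : ¬ 11 ∣ orderOf g) :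
    (η : G → ℂ) g = (B.ν 1 : G → ℂ) g := by
  obtain ⟨u, -, rfl⟩ := Finset.mem_image.1 hη
  exact apply_exc_regular B.data u hg

theorem deg_exc_eq {η : IrrCharacter G} (hη : η ∈ Finset.univ.image B.ν) :
    deg (η : G → ℂ) = deg (B.ν 1 : G → ℂ) := by
  obtain ⟨u, -, rfl⟩ := Finset.mem_image.1 hη
  exact deg_exc B.data u

theorem sum_exc_x : ∑ η ∈ Finset.univ.image B.ν, (η : G → ℂ) B.x = -(B.δ : ℂ) := by
  have := sum_exc B.modular B.data (i := (1 : ZMod 11)) one_ne_zero
  rwa [B.C.yP_one] at this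

/-- The element is not inverted. -/
theorem not_real : ¬ IsConj B.x B.x⁻¹ := fun h => by
  obtain ⟨g, hg⟩ := isConj_iff.1 h
  have hn : g ∈ Subgroup.normalizer (Subgroup.zpowers B.C.y : Set G) := by
    have := B.C.norm_of_mem (x := g⁻¹) (i := 1) (j := -1) one_ne_zero
      (by rw [inv_inv, B.C.yP_neg, B.C.yP_one]; exact hg)
    simpa using inv_mem this
  have hcard : Nat.card ↥(Subgroup.normalizer (Subgroup.zpowers B.C.y : Set G)) = 55 := by
    rw [Cfsg.Lib.Blocks.HalfDegree.card_normalizer_eq, card_H B.C, B.index, B.trivial_V]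
  have h55 : g ^ 55 = 1 := by
    have := congrArg Subtype.val (pow_card_eq_one' (x := (⟨g, hn⟩ : ↥(Subgroup.normalizer (Subgroup.zpowers B.C.y : Set G)))))
    rwa [hcard] at this
  have h2 : g * g * B.x * (g * g)⁻¹ = B.x := by
    calc g * g * B.x * (g * g)⁻¹ = g * (g * B.x * g⁻¹) * g⁻¹ := by group
      _ = (g * B.x * g⁻¹)⁻¹ := by conv_lhs => rw [hg]
                                  group
      _ = B.x := by rw [hg, inv_inv]
  have hpow : ∀ n : ℕ, (g * g) ^ n * B.x * ((g * g) ^ n)⁻¹ = B.x := fun n => by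
    induction n with
    | zero => simp
    | succ n ih =>
      rw [pow_succ, show (g * g) ^ n * (g * g) * B.x * ((g * g) ^ n * (g * g))⁻¹ =
        (g * g) ^ n * (g * g * B.x * (g * g)⁻¹) * ((g * g) ^ n)⁻¹ by group, h2, ih]
  have h1 := hpow 28
  rw [show (g * g) ^ 28 = g by rw [← pow_two, ← pow_mul, show 2 * 28 = 55 + 1 by norm_num, pow_add, h55, one_mul, pow_one],
    hg, inv_eq_iff_mul_eq_one] at h1
  have h3 := orderOf_dvd_of_pow_eq_one (show B.x ^ 2 = 1 by rw [pow_two, h1])
  rw [x, B.C.order] at h3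
  norm_num at h3

theorem card_class_x : Nat.card {a : G // IsConj B.x a} = 40320 := by
  rw [x, card_class_y, B.idx_eq, B.index]

theorem card_x : Nat.card ↥(Subgroup.centralizer ({B.x} : Set G)) = 11 :=
  Cfsg.Lib.Small.DegreeGraph.card_centralizer_y B.C B.trivial_V

theorem sgn_sq (v : ℤ) : (sgn v : ℂ) * (sgn v : ℂ) = 1 := by
  rw [sgn]; split_ifs <;> simp

/-- The moduli of the exceptional values. -/
theorem sum_exc_norm : ∑ η ∈ Finset.univ.image B.ν, (η : G → ℂ) B.x * conj ((η : G → ℂ) B.x) = 6 := by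
  have h1 := second_orthogonality B.x B.x
  rw [if_pos (IsConj.refl _), B.card_x, B.sum_split, oneG_apply,
    Finset.sum_congr rfl (g := fun i : Fin 4 => (1 : ℂ)) (fun i _ => by rw [B.apply_x, map_intCast, sgn_sq]),
    Finset.sum_eq_zero (s := B.rest) (fun η hη => by rw [B.rest_apply_x hη, zero_mul]),
    Finset.sum_const, Finset.card_univ, Fintype.card_fin, map_one] at h1
  simp only [nsmul_eq_mul, mul_one, add_zero] at h1
  push_cast at h1
  linear_combination h1

/-- The squares of the exceptional values. -/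
theorem sum_exc_sq : ∑ η ∈ Finset.univ.image B.ν, (η : G → ℂ) B.x * (η : G → ℂ) B.x = -5 := by
  have h1 := second_orthogonality B.x B.x⁻¹
  have hc : ∀ η : IrrCharacter G, conj ((η : G → ℂ) B.x⁻¹) = (η : G → ℂ) B.x := fun η => by
    rw [IsCharacter.conj_inv (isCharacter_of_irr η.2), Complex.conj_conj]
  rw [if_neg B.not_real, Finset.sum_congr rfl fun η _ => by rw [hc η], B.sum_split, oneG_apply,
    Finset.sum_congr rfl (g := fun i : Fin 4 => (1 : ℂ)) (fun i _ => by rw [B.apply_x, sgn_sq]),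
    Finset.sum_eq_zero (s := B.rest) (fun η hη => by rw [B.rest_apply_x hη, zero_mul]),
    Finset.sum_const, Finset.card_univ, Fintype.card_fin] at h1
  simp only [nsmul_eq_mul, mul_one, add_zero] at h1
  push_cast at h1
  linear_combination h1

theorem exc_rel : 1 + ∑ i, B.z i = B.δ * (deg (B.ν 1 : G → ℂ) : ℤ) := by
  have h := relation B.data
  rw [B.ord_eq, Finset.sum_insert (by rw [Finset.mem_image]; rintro ⟨i, -, hi⟩; exact B.ne_one i hi),
    Finset.sum_image fun a _ b _ e => B.c_inj e, bI_oneG' B.modular B.data B.not_one, deg_oneG] at h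
  simpa [z, sdeg] using h

theorem exc_sign : B.δ = sgn (aOf (v4 B.z)) ∧ (aOf (v4 B.z)).natAbs = deg (B.ν 1 : G → ℂ) := by
  have h := B.exc_rel
  rw [Fin.sum_univ_four] at h
  have hd := deg_irr_pos (B.ν 1)
  have ha : aOf (v4 B.z) = B.δ * (deg (B.ν 1 : G → ℂ) : ℤ) := h
  rw [ha, sgn]
  rcases B.data.sign with e | e <;> rw [e]
  · rw [if_pos (by omega)]; omega
  · rw [if_neg (by omega)]; omega

theorem zv_mem : v4 B.z ∈ zOpts := B.z_mem

/-- The sum of the squares of the degrees. -/
theorem sum_deg : 443520 = 1 + ∑ i, deg (B.c i : G → ℂ) ^ 2 + 2 * deg (B.ν 1 : G → ℂ) ^ 2 +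
    ∑ η ∈ B.rest, deg (η : G → ℂ) ^ 2 := by
  rw [← B.card, ← sum_deg_sq_nat (G := G), B.sum_split,
    Finset.sum_congr rfl (g := fun _ : IrrCharacter G => deg (B.ν 1 : G → ℂ) ^ 2)
      (fun η hη => by rw [B.deg_exc_eq hη]),
    Finset.sum_const, smul_eq_mul, B.card_exc, deg_oneG, one_pow]

end Blk

/-- The block exists. -/
theorem exists_blk (hG : Nat.card G = 443520) : Nonempty (Blk G) := by
  have hnc := not_comm hG
  obtain ⟨P⟩ : Nonempty (Sylow 11 G) := inferInstance
  obtain ⟨C, hC, hy, hidx, hm, he2⟩ := Cfsg.Lib.Small.DegreeGraph.exists_core hnc (m := 40320) (by rw [hG])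
    (by norm_num) P
  rw [hidx, card_sylow_eleven hG] at hm
  have hev : eC C * Nat.card C.V = 5 := by omega
  have he : eC C = 5 := by
    rcases (Nat.dvd_prime (by norm_num : Nat.Prime 5)).1 ⟨_, hev.symm⟩ with e | e
    · omega
    · exact e
  have hV : Nat.card C.V = 1 := by rw [he] at hev; omega
  have hi : idx C = 8064 := hidx.trans (card_sylow_eleven hG)
  obtain ⟨M, hM⟩ := exists_isPModular (Fact.out : Nat.Prime 11)
  obtain ⟨ν, δ, hD⟩ := C.exists_orbitData hM C.oneV
  have hr : oneG G ∉ Set.range ν := by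
    rintro ⟨u, hu⟩
    have hx0 : deg (ν 1 : G → ℂ) = 1 := by rw [← deg_exc hD u, hu, deg_oneG]
    have hcong := congr_exc hM hD
    rw [hx0, he] at hcong
    rcases hD.sign with e | e <;> rw [e] at hcong <;> norm_num at hcong
  have hm1 : oneG G ∈ ordSet C ν := mem_ordSet.2 ⟨lies_oneG, hr⟩
  set s := (ordSet C ν).erase (oneG G)
  have hs : s.card = 4 := by rw [Finset.card_erase_of_mem hm1, card_ordSet hD, he]
  let e0 : Fin 4 ≃ s := (s.equivFinOfCardEq hs).symm
  let σ := Tuple.sort fun i => sdeg C (e0 i : IrrCharacter G)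
  let c : Fin 4 → IrrCharacter G := fun i => (e0 (σ i) : IrrCharacter G)
  have hmono : Monotone fun i => sdeg C (c i) := Tuple.monotone_sort fun i => sdeg C (e0 i : IrrCharacter G)
  have hinj : Function.Injective c := fun i j h => σ.injective (e0.injective (Subtype.ext h))
  have hc : ∀ i, c i ∈ s := fun i => (e0 (σ i)).2
  have himg : Finset.univ.image c = s := by
    refine Finset.eq_of_subset_of_card_le (fun x hx => ?_) ?_
    · obtain ⟨i, -, rfl⟩ := Finset.mem_image.1 hx; exact hc i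
    · rw [Finset.card_image_of_injective _ hinj, hs, Finset.card_univ, Fintype.card_fin]
  have hord : ordSet C ν = insert (oneG G) (Finset.univ.image c) := by rw [himg, Finset.insert_erase hm1]
  have hne : ∀ i, c i ≠ oneG G := fun i => Finset.ne_of_mem_erase (hc i)
  have hterm : ∀ i, sdeg C (c i) ∈ degL := fun i => by
    have h1 := Finset.mem_of_mem_erase (hc i)
    have ha := isTerm_ord hC hM hD h1 (hne i)
    have hb := allowed_of_lies hC hM (by norm_num) (mem_ordSet.1 h1).1 (hne i)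
    rw [hG, hi, he] at ha
    rw [hG, hV] at hb
    refine mem_terms (by norm_num) ha ?_
    rw [sdeg]
    rcases hD.sign_diff (χ := c i) (mem_ordSet.1 h1) with e | e <;>
      (rw [show (C.bI (c i) C.oneV 1 * (deg (c i : G → ℂ) : ℤ)).natAbs = deg (c i : G → ℂ) by simp [e]]; exact hb)
  have hrel := relation hD
  rw [hord, Finset.sum_insert (by rw [Finset.mem_image]; rintro ⟨i, -, hi⟩; exact hne i hi),
    Finset.sum_image (fun a _ b _ e => hinj e), bI_oneG' hM hD hr, deg_oneG, Fin.sum_univ_four] at hrel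
  push_cast at hrel
  have hexc : δ * (deg (ν 1 : G → ℂ) : ℤ) ∈ excL := by
    have ha := isTerm_exc hC hM hD hr
    have hb := allowed_of_lies hC hM (by norm_num) (lies_exc hD 1) (fun e => hr ⟨1, e⟩)
    rw [hG, hi, he] at ha
    rw [hG, hV] at hb
    refine mem_terms (by norm_num) (by exact_mod_cast ha) ?_
    rcases hD.sign with e | e <;>
      (rw [show (δ * (deg (ν 1 : G → ℂ) : ℤ)).natAbs = deg (ν 1 : G → ℂ) by simp [e]]; exact hb)
  refine ⟨⟨M, hM, C, hC, ν, δ, hD, c, hinj, hne, hr, hord, hG, hi, he, hV, ?_⟩⟩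
  have h := zOpts_num
  simp only [List.all_eq_true, Bool.or_eq_true, Bool.not_eq_true', decide_eq_false_iff_not, decide_eq_true_eq,
    List.contains_iff_mem] at h
  have h01 := hmono (show (0 : Fin 4) ≤ 1 by decide)
  have h12 := hmono (show (1 : Fin 4) ≤ 2 by decide)
  have h23 := hmono (show (2 : Fin 4) ≤ 3 by decide)
  simp only at h01 h12 h23
  have := (((h _ (hterm 0) _ (hterm 1)).resolve_left (not_not.2 h01) _ (hterm 2)).resolve_left (not_not.2 h12)
    _ (hterm 3)).resolve_left ?_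
  · exact this
  rintro ((h3 | h3) | h3)
  · exact h3 h23
  · rw [show 1 + (sdeg C (c 0) + sdeg C (c 1) + sdeg C (c 2) + sdeg C (c 3)) = δ * (deg (ν 1 : G → ℂ) : ℤ) by
      simp only [sdeg]; linarith] at h3
    rw [← Bool.not_eq_true, List.contains_iff_mem] at h3
    exact h3 hexc
  · have hsum : 1 + ∑ i, deg (c i : G → ℂ) ^ 2 + ∑ η ∈ Finset.univ.image ν, deg (η : G → ℂ) ^ 2 ≤ Nat.card G := by
      rw [← sum_deg_sq_nat (G := G)]
      refine le_trans (le_of_eq ?_) (Finset.sum_le_sum_of_subset (f := fun η : IrrCharacter G => deg (η : G → ℂ) ^ 2)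
        (Finset.subset_univ (ordSet C ν ∪ Finset.univ.image ν)))
      rw [Finset.sum_union (Finset.disjoint_left.2 fun χ h1 h2 => by
          obtain ⟨u, -, rfl⟩ := Finset.mem_image.1 h2
          exact (mem_ordSet.1 h1).2 ⟨u, rfl⟩), hord,
        Finset.sum_insert (by rw [Finset.mem_image]; rintro ⟨i, -, hi⟩; exact hne i hi),
        Finset.sum_image (fun a _ b _ e => hinj e), deg_oneG, one_pow]
    have hsq : ∀ i, sdeg C (c i) * sdeg C (c i) = (deg (c i : G → ℂ) : ℤ) ^ 2 := fun i => by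
      rcases hD.sign_diff (χ := c i) (mem_ordSet.1 (Finset.mem_of_mem_erase (hc i))) with e | e <;>
        rw [sdeg, e] <;> ring
    have hcard : (Finset.univ.image ν).card = 2 := by
      have h := index_mul_eC (C := C)
      rw [← card_image hD, he] at h
      omega
    rw [Finset.sum_congr rfl (g := fun _ : IrrCharacter G => deg (ν 1 : G → ℂ) ^ 2) (fun η hη => by
      obtain ⟨u, -, rfl⟩ := Finset.mem_image.1 hη; rw [deg_exc hD]), Finset.sum_const, hcard, smul_eq_mul,
      Fin.sum_univ_four, hG] at hsum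
    -- the remaining characters are needed
    have ha : (1 + (sdeg C (c 0) + sdeg C (c 1) + sdeg C (c 2) + sdeg C (c 3))) ^ 2 = (deg (ν 1 : G → ℂ) : ℤ) ^ 2 := by
      rw [show 1 + (sdeg C (c 0) + sdeg C (c 1) + sdeg C (c 2) + sdeg C (c 3)) = δ * (deg (ν 1 : G → ℂ) : ℤ) by
        simp only [sdeg]; linarith]
      rcases hD.sign with e | e <;> rw [e] <;> ring
    rw [hsq, hsq, hsq, hsq, ← pow_two, ha] at h3
    have hz : ((1 + (deg (c 0 : G → ℂ) ^ 2 + deg (c 1 : G → ℂ) ^ 2 + deg (c 2 : G → ℂ) ^ 2 + deg (c 3 : G → ℂ) ^ 2) +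
        2 * deg (ν 1 : G → ℂ) ^ 2 : ℕ) : ℤ) ≤ 443520 := by exact_mod_cast hsum
    push_cast at hz
    linarith

end Cfsg.Lib.M22Order
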