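import Cfsg.Agent.M22Order.Tables

/-!
Membership in the lists of possible values of an involution.
-/

set_option autoImplicit false

namespace Cfsg.Lib.M22Order

theorem mem_rs {C z : ℕ} {r : ℤ} (h1 : r * r < (C : ℤ)) (h4 : (4 : ℤ) ∣ (z : ℤ) - r) (hlt : r.natAbs < z)
    (hd : (z : ℤ) ∣ ((443520 / C : ℕ) : ℤ) * r) : r ∈ rs C z := by
  have hr := lt_rbd h1
  refine List.mem_filter.2 ⟨List.mem_map.2 ?_, ?_⟩
  · refine ⟨((r + (min z (rbd C) : ℕ)).toNat - ((z + 4 * min z (rbd C)) - (4 * min z (rbd C) - min z (rbd C))) % 4) / 4,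
      List.mem_range.2 ?_, ?_⟩ <;> omega
  · simp only [Bool.and_eq_true, decide_eq_true_eq, beq_iff_eq]
    exact ⟨⟨⟨h1, Int.emod_eq_zero_of_dvd h4⟩, hlt⟩, Int.emod_eq_zero_of_dvd hd⟩

theorem mem_invSols_of {z r : V4} {C : ℕ} (hC : blockSq z 1 r ≤ (C : ℤ)) (h : invOK z C r = true)
    (h1 : r.1 ∈ rs C z.1.natAbs) (h2 : r.2.1 ∈ rs C z.2.1.natAbs) (h3 : r.2.2.1 ∈ rs C z.2.2.1.natAbs)
    (h4 : r.2.2.2 ∈ rs C z.2.2.2.natAbs) : r ∈ invSols z C := by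
  have hw : sgn (aOf z) * (1 + (sgn z.1 * r.1 + sgn z.2.1 * r.2.1 + sgn z.2.2.1 * r.2.2.1 +
      sgn z.2.2.2 * r.2.2.2)) = lin z 1 r := rfl
  have hs : sgn (aOf z) * sgn (aOf z) = 1 := by rw [sgn]; split_ifs <;> norm_num
  have hinv := h
  simp only [invOK, Bool.and_eq_true, decide_eq_true_eq, beq_iff_eq] at hinv
  obtain ⟨⟨⟨⟨⟨hlt, hmod⟩, -⟩, -⟩, -⟩, -⟩ := hinv
  refine mem_search h1 h2 h3 h4 ?_ ?_
  · simp only [blockSq] at hC
    nlinarith [mul_self_nonneg (lin z 1 r)]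
  · simp only [Bool.and_eq_true, decide_eq_true_eq, beq_iff_eq, hw, h, and_true]
    refine ⟨?_, hmod⟩
    rw [← hw, Int.natAbs_mul, show (sgn (aOf z)).natAbs = 1 by rw [sgn]; split_ifs <;> rfl, one_mul] at hlt
    exact hlt

end Cfsg.Lib.M22Order
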