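import Cfsg.Agent.M22Order.Engine
import Cfsg.Agent.M22Order.Search

/-!
The values on involutions.
-/

set_option autoImplicit false
set_option linter.unusedSectionVars false
set_option linter.style.haveILetI false

namespace Cfsg.Lib.M22Order

open Cfsg.Lib.Chars Cfsg.Lib.Blocks Cfsg.Lib.Blocks.SmallOrder Cfsg.Lib.Blocks.DegreeEquation
open scoped ComplexConjugate _root_.Classical

universe u

variable {G : Type u} [Group G] [Fintype G]

/-- An integer value gives a divisibility by the degree. -/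
theorem dvd_class_mul {χ : IrrCharacter G} {g : G} {r : ℤ} (hr : (χ : G → ℂ) g = (r : ℂ)) :
    (deg (χ : G → ℂ) : ℤ) ∣ (Nat.card {a : G // IsConj g a} : ℤ) * r := by
  have h := isIntegral_centralChar_irr χ.2 g
  rw [hr, irr_apply_one_eq_deg] at h
  have hd : (deg (χ : G → ℂ) : ℤ) ≠ 0 := by exact_mod_cast (deg_irr_pos χ).ne'
  set n := (Nat.card {a : G // IsConj g a} : ℤ) * r
  have e : ((Nat.card {a : G // IsConj g a} : ℕ) : ℂ) * (r : ℂ) / ((deg (χ : G → ℂ) : ℕ) : ℂ) =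
      (((n : ℚ) / (deg (χ : G → ℂ) : ℚ) : ℚ) : ℂ) := by
    simp only [n]; push_cast; rfl
  rw [e] at h
  obtain ⟨m, hm⟩ := int_of_isIntegral_rat h
  refine ⟨m, ?_⟩
  rw [div_eq_iff (by exact_mod_cast hd)] at hm
  have : ((n : ℤ) : ℚ) = (((deg (χ : G → ℂ) : ℤ) * m : ℤ) : ℚ) := by push_cast; rw [hm]; ring
  exact_mod_cast this

theorem card_class_eq (g : G) : Nat.card {a : G // IsConj g a} =
    Nat.card G / Nat.card ↥(Subgroup.centralizer ({g} : Set G)) := by
  rw [← Cfsg.Lib.M12Nse.card_isConj_mul g, Nat.mul_div_cancel _ Nat.card_pos]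

variable [IsSimpleGroup G] [Fact (Nat.Prime 11)]

theorem center_trivial (hG : Nat.card G = 443520) {g : G} (hg : g ≠ 1) : g ∉ Subgroup.center G := fun h =>
  hg (by rwa [Cfsg.Lib.Small.center_eq_bot_of_not_comm (not_comm hG), Subgroup.mem_bot] at h)

namespace Blk

variable (B : Blk G)

theorem regular_of_invol {t : G} (ht : t * t = 1) : ¬ 11 ∣ orderOf t := fun hd => by
  have := hd.trans (orderOf_dvd_of_pow_eq_one (show t ^ 2 = 1 by rw [pow_two, ht]))
  norm_num at this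

/-- The value of an irreducible character on an involution. -/
theorem invol_value (B : Blk G) (χ : IrrCharacter G) {t : G} (ht : t * t = 1) (ht1 : t ≠ 1) :
    ∃ r : ℤ, (χ : G → ℂ) t = (r : ℂ) ∧ (4 : ℤ) ∣ (deg (χ : G → ℂ) : ℤ) - r ∧
      (χ ≠ oneG G → r.natAbs < deg (χ : G → ℂ)) := by
  obtain ⟨r, hr, h4, hle⟩ := value_involution B.core χ ht
  refine ⟨r, hr, h4, fun hne => lt_of_le_of_ne hle fun e => hne ?_⟩
  refine (Cfsg.Lib.Chars.ThreePrimes.eq_principal_of_norm (center_trivial B.card ht1) χ ?_).trans (Subtype.ext rfl)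
  rw [hr, irr_apply_one_eq_deg, Complex.natCast_re, Complex.norm_intCast, ← e, Nat.cast_natAbs]
  push_cast
  rfl

theorem no_invol_pairs {t : G} (ht : t * t = 1) :
    Nat.card {w : G × G // IsConj t w.1 ∧ IsConj t w.2 ∧ w.1 * w.2 = B.x} = 0 := by
  have hsq : ∀ {a : G}, IsConj t a → a * a = 1 := fun {a} ha => by
    obtain ⟨c, rfl⟩ := isConj_iff.1 ha
    rw [show c * t * c⁻¹ * (c * t * c⁻¹) = c * (t * t) * c⁻¹ by group, ht]
    group
  refine Nat.card_eq_zero.2 (Or.inl ⟨fun ⟨⟨u, w⟩, hu, hw, huw⟩ => B.not_real (isConj_iff.2 ⟨u, ?_⟩)⟩)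
  rw [← show u * w = B.x from huw, mul_inv_rev, inv_eq_of_mul_eq_one_left (hsq hw),
    inv_eq_of_mul_eq_one_left (hsq hu), ← mul_assoc, hsq hu, one_mul]

variable {B}

theorem quad_eq {t : G} (ht : t * t = 1) {r : Fin 4 → ℤ} (hr : ∀ i, (B.c i : G → ℂ) t = (r i : ℂ)) :
    quad (v4 B.z) (v4 r) = 0 := by
  have hreg := regular_of_invol ht
  have hV : B.Vals {t} r := ⟨fun h hh => by rw [Finset.mem_singleton.1 hh]; exact hreg,
    fun i => by rw [Finset.sum_singleton, hr i]⟩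
  have hw : (B.ν 1 : G → ℂ) t = (lin (v4 B.z) 1 (v4 r) : ℂ) := by
    have := hV.exc
    rwa [Finset.sum_singleton, Finset.card_singleton, Nat.cast_one] at this
  have h1 := class_mult_formula t t B.x
  rw [B.no_invol_pairs ht, Nat.cast_zero, B.sum_split,
    Finset.sum_congr rfl (g := fun i : Fin 4 => ((r i : ℂ) * (r i : ℂ)) / ((B.z i : ℤ) : ℂ))
      (fun i _ => by
        rw [irr_apply_one_eq_deg, B.apply_x, map_intCast, hr i, ← (B.sign_eq i).2]
        have hz := B.z_ne i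
        rw [sgn]
        split_ifs with hp
        · rw [show ((B.z i : ℤ) : ℂ) = (((B.z i).natAbs : ℕ) : ℂ) by
            exact (congrArg (Int.cast (R := ℂ)) (show B.z i = ((B.z i).natAbs : ℤ) by omega)).trans (Int.cast_natCast _)]
          push_cast; ring
        · rw [show ((B.z i : ℤ) : ℂ) = -(((B.z i).natAbs : ℕ) : ℂ) by
            exact (congrArg (Int.cast (R := ℂ)) (show B.z i = -((B.z i).natAbs : ℤ) by omega)).trans
              (by rw [Int.cast_neg, Int.cast_natCast])]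
          push_cast; rw [div_neg]; ring),
    Finset.sum_congr rfl (g := fun η : IrrCharacter G =>
      (B.ν 1 : G → ℂ) t * (B.ν 1 : G → ℂ) t / (deg (B.ν 1 : G → ℂ) : ℂ) * conj ((η : G → ℂ) B.x))
      (fun η hη => by rw [B.apply_exc hη hreg, irr_apply_one_eq_deg, B.deg_exc_eq hη]; ring),
    Finset.sum_eq_zero (s := B.rest) (fun η hη => by rw [B.rest_apply_x hη, map_zero, mul_zero, zero_div]),
    ← Finset.mul_sum, ← map_sum, B.sum_exc_x, oneG_apply, oneG_apply, oneG_apply] at h1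
  simp only [map_neg, map_intCast, map_one, mul_one, div_one, add_zero] at h1
  have hne : (Nat.card {a : G // IsConj t a} : ℂ) * (Nat.card {a : G // IsConj t a} : ℂ) / (Nat.card G : ℂ) ≠ 0 :=
    div_ne_zero (mul_ne_zero (Nat.cast_ne_zero.2 (card_isConj_pos t).ne') (Nat.cast_ne_zero.2 (card_isConj_pos t).ne'))
      (Nat.cast_ne_zero.2 Nat.card_pos.ne')
  have h2 := (mul_eq_zero.1 h1.symm).resolve_left hne
  have ha : ((aOf (v4 B.z) : ℤ) : ℂ) = (B.δ : ℂ) * (deg (B.ν 1 : G → ℂ) : ℂ) := by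
    have h := B.exc_rel
    rw [Fin.sum_univ_four] at h
    exact_mod_cast congrArg (Int.cast (R := ℂ)) (show aOf (v4 B.z) = _ from h)
  have hd : (deg (B.ν 1 : G → ℂ) : ℂ) ≠ 0 := by exact_mod_cast (deg_irr_pos _).ne'
  have hδ : (B.δ : ℂ) * (B.δ : ℂ) = 1 := by rcases B.data.sign with e | e <;> simp [e]
  have ha0 : (aOf (v4 B.z) : ℤ) ≠ 0 := fun e => by
    rw [e, Int.cast_zero] at ha
    exact mul_ne_zero (fun e => by rw [e, zero_mul] at hδ; exact zero_ne_one hδ) hd ha.symm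
  set P := aOf (v4 B.z) * (B.z 0 * (B.z 1 * (B.z 2 * B.z 3))) with hP
  have hdiv : ∀ (v : ℤ), v ≠ 0 → v ∣ P → (((P / v : ℤ)) : ℂ) = (P : ℂ) / (v : ℂ) := fun v hv hvd => by
    rw [Int.cast_div hvd (by exact_mod_cast hv)]
  apply Int.cast_injective (α := ℂ)
  simp only [quad, v4] at hP ⊢
  rw [← hP]
  simp only [Fin.sum_univ_four, hw] at h2
  push_cast
  rw [hdiv _ (B.z_ne 0) (dvd_mul_of_dvd_right (dvd_mul_right _ _) _),
    hdiv _ (B.z_ne 1) (dvd_mul_of_dvd_right (dvd_mul_of_dvd_right (dvd_mul_right _ _) _) _),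
    hdiv _ (B.z_ne 2) (dvd_mul_of_dvd_right (dvd_mul_of_dvd_right (dvd_mul_of_dvd_right (dvd_mul_right _ _) _) _) _),
    hdiv _ (B.z_ne 3) (dvd_mul_of_dvd_right (dvd_mul_of_dvd_right (dvd_mul_of_dvd_right (dvd_mul_left _ _) _) _) _),
    hdiv (aOf (B.z 0, B.z 1, B.z 2, B.z 3)) ha0 (dvd_mul_right _ _)]
  simp only [v4] at ha h2
  rw [ha]
  have hdd : (lin (B.z 0, B.z 1, B.z 2, B.z 3) 1 (r 0, r 1, r 2, r 3) : ℂ) *
      (lin (B.z 0, B.z 1, B.z 2, B.z 3) 1 (r 0, r 1, r 2, r 3) : ℂ) * ((P : ℂ) / ((B.δ : ℂ) * (deg (B.ν 1 : G → ℂ) : ℂ))) =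
      (P : ℂ) * ((B.δ : ℂ) * ((lin (B.z 0, B.z 1, B.z 2, B.z 3) 1 (r 0, r 1, r 2, r 3) : ℂ) *
        (lin (B.z 0, B.z 1, B.z 2, B.z 3) 1 (r 0, r 1, r 2, r 3) : ℂ) / (deg (B.ν 1 : G → ℂ) : ℂ))) := by
    have hinv : (B.δ : ℂ)⁻¹ = (B.δ : ℂ) := inv_eq_of_mul_eq_one_right hδ
    rw [div_eq_mul_inv (P : ℂ), mul_inv, hinv]
    ring
  rw [hdd]
  linear_combination (P : ℂ) * h2

/-- The values of an involution are in the table. -/
theorem mem_invSols {t : G} (ht : t * t = 1) (ht1 : t ≠ 1) :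
    ∃ r : Fin 4 → ℤ, (∀ i, (B.c i : G → ℂ) t = (r i : ℂ)) ∧
      (B.ν 1 : G → ℂ) t = (lin (v4 B.z) 1 (v4 r) : ℂ) ∧
      Nat.card ↥(Subgroup.centralizer ({t} : Set G)) ∈ evenDvs ∧
      v4 r ∈ invSols (v4 B.z) (Nat.card ↥(Subgroup.centralizer ({t} : Set G))) := by
  choose r hr h4 hlt using fun i => B.invol_value (B.c i) ht ht1
  have hreg := regular_of_invol ht
  have hV : B.Vals {t} r := ⟨fun h hh => by rw [Finset.mem_singleton.1 hh]; exact hreg,
    fun i => by rw [Finset.sum_singleton, hr i]⟩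
  have hw : (B.ν 1 : G → ℂ) t = (lin (v4 B.z) 1 (v4 r) : ℂ) := by
    have := hV.exc
    rwa [Finset.sum_singleton, Finset.card_singleton, Nat.cast_one] at this
  set C := Nat.card ↥(Subgroup.centralizer ({t} : Set G)) with hC
  have hC0 : 0 < C := Nat.card_pos
  have hC8 : C ∣ 40320 := centralizer_dvd B.card ht1 hreg
  have h2 : 2 ∣ C := by
    have := Subgroup.orderOf_dvd_natCard (Subgroup.centralizer ({t} : Set G))
      (Subgroup.mem_centralizer_singleton_iff.2 (rfl : t * t = t * t))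
    rwa [orderOf_eq_prime (p := 2) (by rw [pow_two, ht]) ht1] at this
  have hcls : Nat.card {a : G // IsConj t a} = 443520 / C := by rw [card_class_eq, B.card]
  have hsing : ∀ h ∈ ({t} : Finset G), ∀ h' ∈ ({t} : Finset G), IsConj h h' → h = h' := fun h hh h' hh' _ => by
    rw [Finset.mem_singleton.1 hh, Finset.mem_singleton.1 hh']
  have hblock := hV.blockSq_le hsing (C := C) (fun h hh => by rw [Finset.mem_singleton.1 hh])
  have hmult := hV.multOK (fun h hh => by rw [Finset.mem_singleton.1 hh]; exact ht1) (d := C)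
    (fun h hh => by rw [Finset.mem_singleton.1 hh])
  rw [Finset.card_singleton, Nat.cast_one] at hblock hmult
  rw [one_mul] at hblock
  have ho : orderOf t = 2 := orderOf_eq_prime (p := 2) (by rw [pow_two, ht]) ht1
  refine ⟨r, hr, hw, even_centralizer_mem B.card ho, ?_⟩
  -- each value
  have hsq : ∀ i, r i * r i < (C : ℤ) := fun i => by
    have hle : r i * r i ≤ ∑ j, r j * r j := Finset.single_le_sum (f := fun j => r j * r j)
      (fun j _ => mul_self_nonneg _) (Finset.mem_univ i)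
    simp only [blockSq, v4] at hblock
    rw [Fin.sum_univ_four] at hle
    have := mul_self_nonneg (lin (B.z 0, B.z 1, B.z 2, B.z 3) 1 (r 0, r 1, r 2, r 3))
    omega
  have hmem : ∀ i, r i ∈ rs C (B.z i).natAbs := fun i => by
    have hd := (B.sign_eq i).2
    have hl := hlt i (B.ne_one i)
    refine mem_rs (hsq i) ?_ (by rw [hd]; exact hl) ?_
    · rw [hd]; exact h4 i
    · have := dvd_class_mul (hr i)
      rw [hcls] at this
      rw [hd]; exact this
  obtain ⟨w, hw', hw4, hwlt⟩ := B.invol_value (B.ν 1) ht ht1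
  obtain rfl : w = lin (v4 B.z) 1 (v4 r) := Int.cast_injective (hw'.symm.trans hw)
  have hA := B.exc_sign.2
  have hinv : invOK (v4 B.z) C (v4 r) = true := by
    simp only [invOK, Bool.and_eq_true, decide_eq_true_eq, beq_iff_eq]
    refine ⟨⟨⟨⟨⟨?_, ?_⟩, hblock⟩, ?_⟩, quad_eq ht hr⟩, hmult⟩
    · rw [hA]; exact hwlt fun e => B.not_one ⟨1, e⟩
    · rw [hA]; exact Int.emod_eq_zero_of_dvd hw4
    · have := dvd_class_mul hw
      rw [hcls] at this
      rw [hA]; exact Int.emod_eq_zero_of_dvd this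
  exact mem_invSols_of hblock hinv (hmem 0) (hmem 1) (hmem 2) (hmem 3)

end Blk

end Cfsg.Lib.M22Order
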