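import Cfsg.Agent.M22Order.TablesEven

/-!
A central involution: the finite searches with the blocks at five and at seven.
-/

set_option autoImplicit false
set_option maxRecDepth 100000

namespace Cfsg.Lib.M22Order

/-- what is left for the characters of degree a multiple of fifty-five -/
def qFive (z : V4) (c : List ℤ) : ℤ :=
  443520 - ((L11 z).map fun d => ((d : ℤ) * d)).sum -
    (((slotsOf c).filter fun s => s.natAbs % 11 == 0).map fun s => s * s).sum

/-- the candidates at five -/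
def stageFive (z : V4) : List (List ℤ) :=
  (bopts z 5 o5last).filter fun c => decide (0 ≤ qFive z c) && (qFive z c % 3025 == 0)

/-- the candidates at seven -/
def stageSeven (z : V4) (c : List ℤ) : List (Opt × List ℤ) :=
  opts7.flatMap fun o =>
    ((bopts z 7 o).filter fun c7 => sub 5 (Lp 7 o.e c7) (Lp 5 4 c) &&
      (o.v != 1 || sub 7 (Lp 5 4 c) (Lp 7 o.e c7))).map fun c7 => (o, c7)

/-- possible values of an involution on a character of the block at five -/
def vals5 (z r : V4) (C : ℕ) (s : ℤ) : List ℤ :=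
  if s.natAbs % 11 = 0 then rs C s.natAbs
  else (((colPairs z r).filter fun p => p.1 == s.natAbs).map Prod.snd).dedup

/-- exchange a position with the last -/
def rot {α : Type} (j : ℕ) (x : α × α × α × α) : α × α × α × α :=
  match j with
  | 0 => (x.2.2.2, x.2.1, x.2.2.1, x.1)
  | 1 => (x.1, x.2.2.2, x.2.2.1, x.2.1)
  | 2 => (x.1, x.2.1, x.2.2.2, x.2.2.1)
  | _ => x

/-- the square of a value counted outside the block at eleven -/
def exSq (s x : ℤ) : ℤ := if s.natAbs % 11 = 0 then x * x else 0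

/-- solutions of the linear relation -/
def quads' (room : ℤ) (S : V4) (L : List ℤ × List ℤ × List ℤ × List ℤ) : List V4 :=
  L.1.flatMap fun a => if room < exSq S.1 a then [] else L.2.1.flatMap fun b =>
    if room < exSq S.1 a + exSq S.2.1 b then [] else L.2.2.1.flatMap fun c =>
      if room < exSq S.1 a + exSq S.2.1 b + exSq S.2.2.1 c then [] else
        let d := -(sgn S.2.2.2) * (1 + (sgn S.1 * a + sgn S.2.1 * b + sgn S.2.2.1 * c))
        if L.2.2.2.contains d then [(a, b, c, d)] else []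

theorem mem_quads' {room : ℤ} {S x : V4} {L : List ℤ × List ℤ × List ℤ × List ℤ} (h1 : x.1 ∈ L.1)
    (h2 : x.2.1 ∈ L.2.1) (h3 : x.2.2.1 ∈ L.2.2.1) (h4 : x.2.2.2 ∈ L.2.2.2)
    (hroom : exSq S.1 x.1 + exSq S.2.1 x.2.1 + exSq S.2.2.1 x.2.2.1 + exSq S.2.2.2 x.2.2.2 ≤ room)
    (hlin : 1 + (sgn S.1 * x.1 + sgn S.2.1 * x.2.1 + sgn S.2.2.1 * x.2.2.1 + sgn S.2.2.2 * x.2.2.2) = 0) :
    x ∈ quads' room S L := by
  obtain ⟨a, b, c, d⟩ := x
  simp only at h1 h2 h3 h4 hroom hlin
  have hnn : ∀ s y, 0 ≤ exSq s y := fun s y => by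
    rw [exSq]; split_ifs
    · exact mul_self_nonneg y
    · exact le_refl 0
  have := hnn S.1 a
  have := hnn S.2.1 b
  have := hnn S.2.2.1 c
  have := hnn S.2.2.2 d
  have hd : -(sgn S.2.2.2) * (1 + (sgn S.1 * a + sgn S.2.1 * b + sgn S.2.2.1 * c)) = d := by
    have : sgn S.2.2.2 * sgn S.2.2.2 = 1 := by rw [sgn]; split_ifs <;> norm_num
    linear_combination -(sgn S.2.2.2) * hlin + d * this
  simp only [quads', List.mem_flatMap]
  refine ⟨a, h1, ?_⟩
  rw [if_neg (by omega), List.mem_flatMap]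
  refine ⟨b, h2, ?_⟩
  rw [if_neg (by omega), List.mem_flatMap]
  refine ⟨c, h3, ?_⟩
  rw [if_neg (by omega)]
  simp [hd, h4]

/-- the position with most choices -/
def bigPos (L : List ℤ × List ℤ × List ℤ × List ℤ) : ℕ :=
  let n0 := L.1.length
  let n1 := L.2.1.length
  let n2 := L.2.2.1.length
  let n3 := L.2.2.2.length
  if n1 ≤ n0 && n2 ≤ n0 && n3 ≤ n0 then 0 else if n2 ≤ n1 && n3 ≤ n1 then 1 else if n3 ≤ n2 then 2 else 3

/-- solutions, the largest list last -/
def quads (room : ℤ) (S : V4) (L : List ℤ × List ℤ × List ℤ × List ℤ) : List V4 :=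
  (quads' room (rot (bigPos L) S) (rot (bigPos L) L)).map (rot (bigPos L))

theorem mem_quads {room : ℤ} {S x : V4} {L : List ℤ × List ℤ × List ℤ × List ℤ} (h1 : x.1 ∈ L.1)
    (h2 : x.2.1 ∈ L.2.1) (h3 : x.2.2.1 ∈ L.2.2.1) (h4 : x.2.2.2 ∈ L.2.2.2)
    (hroom : exSq S.1 x.1 + exSq S.2.1 x.2.1 + exSq S.2.2.1 x.2.2.1 + exSq S.2.2.2 x.2.2.2 ≤ room)
    (hlin : 1 + (sgn S.1 * x.1 + sgn S.2.1 * x.2.1 + sgn S.2.2.1 * x.2.2.1 + sgn S.2.2.2 * x.2.2.2) = 0) :
    x ∈ quads room S L := by
  refine List.mem_map.2 ⟨rot (bigPos L) x, ?_, ?_⟩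
  · rcases bigPos L with _ | _ | _ | n <;> simp only [rot] <;>
      apply mem_quads' <;> first | assumption | linarith
  · rcases bigPos L with _ | _ | _ | n <;> rfl

/-- the slots as a quadruple -/
def slot4 : List ℤ → V4
  | [a, b, c, d] => (a, b, c, d)
  | _ => (0, 0, 0, 0)

/-- the squares of the values outside the block at eleven -/
def exSum (S x : V4) : ℤ :=
  exSq S.1 x.1 + exSq S.2.1 x.2.1 + exSq S.2.2.1 x.2.2.1 + exSq S.2.2.2 x.2.2.2

/-- a product with a degree outside the block at eleven -/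
def exDot (s x : ℤ) : ℤ := if s.natAbs % 11 = 0 then (s.natAbs : ℤ) * x else 0

/-- the known part of the orthogonality with the identity -/
def dotK (z r S x : V4) : ℤ :=
  1 + ((z.1.natAbs : ℤ) * r.1 + (z.2.1.natAbs : ℤ) * r.2.1 + (z.2.2.1.natAbs : ℤ) * r.2.2.1 +
    (z.2.2.2.natAbs : ℤ) * r.2.2.2) + 2 * ((aOf z).natAbs : ℤ) * lin z 1 r +
    (exDot S.1 x.1 + exDot S.2.1 x.2.1 + exDot S.2.2.1 x.2.2.1 + exDot S.2.2.2 x.2.2.2)

/-- the conditions on the values in the block at five -/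
def good5 (z r : V4) (C : ℕ) (q : ℤ) (S x : V4) : Bool :=
  let D : ℤ := (S.1.natAbs : ℤ) * (S.2.1.natAbs * (S.2.2.1.natAbs * S.2.2.2.natAbs))
  let K : ℤ := ((443520 / C : ℕ) : ℤ)
  let v := K * K * (D + (x.1 * x.1 * (D / S.1) + x.2.1 * x.2.1 * (D / S.2.1) +
    x.2.2.1 * x.2.2.1 * (D / S.2.2.1) + x.2.2.2 * x.2.2.2 * (D / S.2.2.2)))
  let R : ℤ := (C : ℤ) - blockSq z 1 r - exSum S x
  (v == 0 || v == 5 * 443520 * D) && decide (0 ≤ R) && (dotK z r S x % 55 == 0) &&
    decide ((dotK z r S x / 55) * (dotK z r S x / 55) ≤ q / 3025 * R)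

/-- the values known on degrees not divisible by fifty-five -/
def pairs55 (z r S x : V4) : List (ℕ × ℤ) :=
  colPairs z r ++ ([(S.1, x.1), (S.2.1, x.2.1), (S.2.2.1, x.2.2.1), (S.2.2.2, x.2.2.2)].filter
    fun p => p.1.natAbs % 11 == 0).map fun p => (p.1.natAbs, p.2)

/-- possible values of an involution on a character of the block at seven -/
def vals7 (z r S x : V4) (C : ℕ) (s : ℤ) : List ℤ :=
  if s.natAbs % 55 = 0 then rs C s.natAbs
  else (((pairs55 z r S x).filter fun p => p.1 == s.natAbs).map Prod.snd).dedup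

/-- no values in the block at seven with inertial index three -/
def sevenNone (z r S x : V4) (C : ℕ) : List ℤ → Bool
  | [s0, s1, s2] =>
    (vals7 z r S x C s0).all fun a => (vals7 z r S x C s1).all fun b =>
      let c := -(sgn s2) * (1 + (sgn s0 * a + sgn s1 * b))
      let D : ℤ := s0 * s1 * s2
      !(vals7 z r S x C s2).contains c || D + (a * a * (D / s0) + b * b * (D / s1) + c * c * (D / s2)) != 0
  | _ => false

/-- the four possibilities at five in the surviving case -/
def fiveSp : List (List ℤ) := [[-154, -99, 21], [-154, -99, 231], [-154, 21, 231], [-99, 21, 231]]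

/-- the case that survives -/
def survives (z : V4) (C : ℕ) (c : List ℤ) (o : Opt) (c7 : List ℤ) : Bool :=
  (z == zSp) && (C == 384) && fiveSp.contains c && (o.e == 3) && (c7 == [-55, 99])

/-- all possibilities for a solution are excluded or special -/
def stageRow (z : V4) : Bool :=
  (stageFive z).all fun c =>
    let S := slot4 (slotsOf c)
    let q := qFive z c
    let sev := stageSeven z c
    sev.isEmpty || ((rowsOf z).filter fun p => p.1 % 128 == 0 && p.1 % 5 != 0).all fun p =>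
      ((quads ((p.1 : ℤ) - blockSq z 1 p.2) S
          (vals5 z p.2 p.1 S.1, vals5 z p.2 p.1 S.2.1, vals5 z p.2 p.1 S.2.2.1, vals5 z p.2 p.1 S.2.2.2)).filter
        (good5 z p.2 p.1 q S)).all fun x =>
        sev.all fun oc =>
          (oc.1.N == 2640 && oc.1.e == 6 && p.1 % 7 == 0) || survives z p.1 c oc.1 oc.2 ||
            (oc.1.e == 3 && sevenNone z p.2 S x p.1 (slotsOf oc.2))

end Cfsg.Lib.M22Order
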