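import Cfsg.Agent.M22Order.PBlk
import Cfsg.Agent.M22Order.Invol
import Cfsg.Agent.M22Order.TablesStage
import Cfsg.Agent.Chars.Indicator

/-!
The surviving case: one class of involutions and the number of their square roots.
-/

set_option autoImplicit false
set_option linter.unusedSectionVars false
set_option linter.style.haveILetI false
set_option maxRecDepth 100000

namespace Cfsg.Lib.M22Order

open Subgroup Cfsg.Lib.Chars Cfsg.Lib.Blocks Cfsg.Lib.Blocks.SmallOrder Cfsg.Lib.Blocks.SylowCount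
  Cfsg.Lib.Blocks.DegreeEquation
open Cfsg.Lib.Small.DegreeGraph (sdeg)
open scoped ComplexConjugate _root_.Classical

universe u

variable {G : Type u} [Group G] [Fintype G]

/-- the sum of the values of the characters of a degree -/
noncomputable def valDeg (d : ℕ) (g : G) : ℂ :=
  ∑ χ ∈ Finset.univ.filter (fun χ : IrrCharacter G => deg (χ : G → ℂ) = d), (χ : G → ℂ) g

theorem eq_of_cnt {d : ℕ} (h : cnt G d = 1) {χ η : IrrCharacter G} (hχ : deg (χ : G → ℂ) = d)
    (hη : deg (η : G → ℂ) = d) : χ = η :=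
  Finset.card_le_one.1 (le_of_eq h) χ (Finset.mem_filter.2 ⟨Finset.mem_univ _, hχ⟩) η
    (Finset.mem_filter.2 ⟨Finset.mem_univ _, hη⟩)

theorem exists_of_cnt {d : ℕ} (h : cnt G d = 1) : ∃ χ : IrrCharacter G, deg (χ : G → ℂ) = d := by
  obtain ⟨χ, hχ⟩ := Finset.card_pos.1 (show 0 < cnt G d by rw [h]; exact Nat.one_pos)
  exact ⟨χ, (Finset.mem_filter.1 hχ).2⟩

theorem valDeg_of_cnt {d : ℕ} (h : cnt G d = 1) {χ : IrrCharacter G} (hχ : deg (χ : G → ℂ) = d) (g : G) :
    valDeg d g = (χ : G → ℂ) g :=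
  Finset.sum_eq_single χ (fun η hη hne => absurd (eq_of_cnt h (Finset.mem_filter.1 hη).2 hχ) hne)
    fun hn => (hn (Finset.mem_filter.2 ⟨Finset.mem_univ χ, hχ⟩)).elim

/-- A character alone in its degree is real. -/
theorem real_of_cnt {χ : IrrCharacter G} (h : cnt G (deg (χ : G → ℂ)) = 1) (g : G) :
    ((χ : G → ℂ) g).im = 0 := by
  let χ' : IrrCharacter G := ⟨fun s => conj ((χ : G → ℂ) s), IsIrrCharacter.conjugate χ.2⟩
  have hd : deg (χ' : G → ℂ) = deg (χ : G → ℂ) := Nat.cast_injective (R := ℂ) (by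
    rw [← irr_apply_one_eq_deg, ← irr_apply_one_eq_deg]
    show conj ((χ : G → ℂ) 1) = _
    rw [irr_apply_one_eq_deg, map_natCast])
  exact Complex.conj_eq_iff_im.1 (congrFun (congrArg Subtype.val (eq_of_cnt h hd rfl)) g)

/-- the indicator -/
noncomputable def ind (χ : IrrCharacter G) : ℂ := (Nat.card G : ℂ)⁻¹ * ∑ s : G, (χ : G → ℂ) (s * s)

theorem ind_zero {χ : IrrCharacter G} (h : ∃ s, ((χ : G → ℂ) s).im ≠ 0) : ind χ = 0 := by
  rcases indicator_irr χ.2 with ⟨-, e⟩ | ⟨hre, -⟩
  · exact e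
  · obtain ⟨s, hs⟩ := h
    exact absurd (hre s) hs

theorem ind_pm {χ : IrrCharacter G} (h : cnt G (deg (χ : G → ℂ)) = 1) : ind χ = 1 ∨ ind χ = -1 := by
  rcases indicator_irr χ.2 with ⟨⟨s, hs⟩, -⟩ | ⟨-, e | ⟨e, -⟩⟩
  · exact absurd (real_of_cnt h s) hs
  · exact Or.inl e
  · exact Or.inr e

theorem ind_odd {χ : IrrCharacter G} (h : cnt G (deg (χ : G → ℂ)) = 1) (ho : deg (χ : G → ℂ) % 2 = 1) :
    ind χ = 1 := by
  rcases indicator_irr χ.2 with ⟨⟨s, hs⟩, -⟩ | ⟨-, e | ⟨-, hev⟩⟩
  · exact absurd (real_of_cnt h s) hs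
  · exact e
  · obtain ⟨k, hk⟩ := hev _ (irr_apply_one_eq_deg χ)
    omega

theorem ind_oneG : ind (oneG G) = 1 := by
  rw [ind, Finset.sum_congr rfl (g := fun _ => (1 : ℂ)) fun s _ => show (oneG G : G → ℂ) (s * s) = 1 from rfl,
    Finset.sum_const, Finset.card_univ, nsmul_eq_mul, mul_one, ← Nat.card_eq_fintype_card,
    inv_mul_cancel₀ (Nat.cast_ne_zero.2 Nat.card_pos.ne')]

/-- The number of square roots. -/
theorem sum_ind (g : G) :
    ∑ χ : IrrCharacter G, ind χ * conj ((χ : G → ℂ) g) = (Nat.card {s : G // s * s = g} : ℂ) := by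
  have hG : (Nat.card G : ℂ) ≠ 0 := Nat.cast_ne_zero.2 Nat.card_pos.ne'
  simp only [ind, Finset.mul_sum, Finset.sum_mul, mul_assoc]
  rw [Finset.sum_comm, Finset.sum_congr rfl (g := fun s : G => (Nat.card G : ℂ)⁻¹ *
      if IsConj (s * s) g then (Nat.card ↥(centralizer ({g} : Set G)) : ℂ) else 0) (fun s _ => by
    rw [← Finset.mul_sum, second_orthogonality]
    split_ifs with h
    · rw [Cfsg.Lib.M12Nse.conj_card_centralizer h]
    · rfl), ← Finset.mul_sum, ← Finset.sum_filter, Finset.sum_const, nsmul_eq_mul]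
  have hcount : (Finset.univ.filter fun s : G => IsConj (s * s) g).card =
      Nat.card {x : G // IsConj g x} * Nat.card {s : G // s * s = g} := by
    rw [← Fintype.card_subtype, ← Nat.card_eq_fintype_card]
    let f : {s : G // IsConj (s * s) g} → {x : G // IsConj g x} := fun s => ⟨s.1 * s.1, s.2.symm⟩
    have hfib : ∀ x, Nat.card {s // f s = x} = Nat.card {s : G // s * s = g} := by
      rintro ⟨x, hx⟩
      obtain ⟨c, hc⟩ := isConj_iff.1 hx
      have e1 : {s // f s = ⟨x, hx⟩} ≃ {s : G // s * s = x} :=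
        { toFun := fun s => ⟨s.1.1, congrArg Subtype.val s.2⟩
          invFun := fun s => ⟨⟨s.1, by rw [s.2]; exact hx.symm⟩, Subtype.ext s.2⟩
          left_inv := fun _ => rfl
          right_inv := fun _ => rfl }
      rw [Nat.card_congr e1]
      refine Nat.card_congr (((MulAut.conj c).toEquiv.subtypeEquiv fun s => ?_)).symm
      show s * s = g ↔ c * s * c⁻¹ * (c * s * c⁻¹) = x
      rw [show c * s * c⁻¹ * (c * s * c⁻¹) = c * (s * s) * c⁻¹ by group, ← hc]
      exact ⟨fun h => by rw [h], fun h => mul_left_cancel (mul_right_cancel h)⟩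
    rw [← Nat.card_congr (Equiv.sigmaFiberEquiv f), Nat.card_sigma, Finset.sum_congr rfl fun x _ => hfib x,
      Finset.sum_const, Finset.card_univ, smul_eq_mul, ← Nat.card_eq_fintype_card]
  rw [hcount]
  have hmul := congrArg (Nat.cast (R := ℂ)) (Cfsg.Lib.M12Nse.card_isConj_mul g)
  push_cast at hmul ⊢
  field_simp
  linear_combination (Nat.card {s : G // s * s = g} : ℂ) * hmul

theorem card_roots_conj {a b : G} (h : IsConj a b) :
    Nat.card {s : G // s * s = a} = Nat.card {s : G // s * s = b} := by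
  obtain ⟨c, rfl⟩ := isConj_iff.1 h
  refine Nat.card_congr ((MulAut.conj c).toEquiv.subtypeEquiv fun s => ?_)
  show s * s = a ↔ c * s * c⁻¹ * (c * s * c⁻¹) = c * a * c⁻¹
  rw [show c * s * c⁻¹ * (c * s * c⁻¹) = c * (s * s) * c⁻¹ by group]
  exact ⟨fun h => by rw [h], fun h => mul_left_cancel (mul_right_cancel h)⟩

variable [IsSimpleGroup G] [Fact (Nat.Prime 11)]

namespace PBlk

variable {p : ℕ} [Fact p.Prime] {o : Opt} (P : PBlk G p o)

theorem rest_apply_y (hv : o.v = 1) {η : IrrCharacter G} (hη : η ∈ P.rest) :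
    (η : G → ℂ) P.L.C.y = 0 := by
  obtain ⟨Q, hQ⟩ := P.L.core.sylow
  have hc := P.L.card_V.trans hv
  have h1 : ∀ v : P.L.C.V, v = 1 := fun v => (Nat.card_eq_one_iff_unique.1 hc).1.elim v 1
  have hone : ∀ θ : IrrCharacter P.L.C.V, θ = P.L.C.oneV := fun θ => by
    refine Subtype.ext (funext fun v => ?_)
    rw [h1 v, irr_deg_one_of_comm (fun a b => by rw [h1 a, h1 b]) θ.2]
    rfl
  exact P.L.C.apply_singular_of_forall_not_lies (fun θ => hone θ ▸ P.mem_rest hη) Q hQ
    (dvd_of_eq P.L.C.order.symm)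

/-- The relation of the signed degrees on the regular elements. -/
theorem rel {g : G} (hg : ¬ p ∣ orderOf g) :
    1 + (P.cs.map fun χ : IrrCharacter G => (sgn (sdeg P.L.C χ) : ℂ) * (χ : G → ℂ) g).sum =
      (P.δ : ℂ) * (P.ν 1 : G → ℂ) g := by
  have h := Cfsg.Lib.M23Order.regular_relation P.data hg
  rw [P.ord_eq, Finset.sum_insert (by rw [List.mem_toFinset]; exact P.ne_one), P.bI_one,
    List.sum_toFinset _ P.nodup] at h
  rw [← h, List.map_congr_left (g := fun χ : IrrCharacter G => (P.L.C.bI χ P.L.C.oneV 1 : ℂ) * (χ : G → ℂ) g)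
    fun χ hχ => by rw [(P.sign_eq hχ).1]]
  rw [show (oneG G : G → ℂ) g = 1 from rfl]
  push_cast
  ring

end PBlk

section Seven

variable [Fact (Nat.Prime 7)] (P : PBlk G 7 o7last)

theorem seven_not_real : ¬ IsConj P.L.C.y P.L.C.y⁻¹ := fun h => by
  set y := P.L.C.y
  obtain ⟨g, hg⟩ := isConj_iff.1 h
  have hn : g ∈ Subgroup.normalizer (Subgroup.zpowers y : Set G) := by
    have := P.L.C.norm_of_mem (x := g⁻¹) (i := 1) (j := -1) one_ne_zero
      (by rw [inv_inv, P.L.C.yP_neg, P.L.C.yP_one]; exact hg)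
    simpa using inv_mem this
  have hcard : Nat.card ↥(Subgroup.normalizer (Subgroup.zpowers y : Set G)) = 21 := by
    rw [Cfsg.Lib.Blocks.HalfDegree.card_normalizer_eq, card_H, P.L.index, P.L.card_V]
    rfl
  have h21 : g ^ 21 = 1 := by
    have := congrArg Subtype.val (pow_card_eq_one' (x := (⟨g, hn⟩ : ↥(Subgroup.normalizer (Subgroup.zpowers y : Set G)))))
    rwa [hcard] at this
  have h2 : g * g * y * (g * g)⁻¹ = y := by
    calc g * g * y * (g * g)⁻¹ = g * (g * y * g⁻¹) * g⁻¹ := by group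
      _ = (g * y * g⁻¹)⁻¹ := by conv_lhs => rw [hg]
                                group
      _ = y := by rw [hg, inv_inv]
  have hpow : ∀ n : ℕ, (g * g) ^ n * y * ((g * g) ^ n)⁻¹ = y := fun n => by
    induction n with
    | zero => simp
    | succ n ih =>
      rw [pow_succ, show (g * g) ^ n * (g * g) * y * ((g * g) ^ n * (g * g))⁻¹ =
        (g * g) ^ n * (g * g * y * (g * g)⁻¹) * ((g * g) ^ n)⁻¹ by group, h2, ih]
  have h1 := hpow 11
  rw [show (g * g) ^ 11 = g by rw [← pow_two, ← pow_mul, show 2 * 11 = 21 + 1 by norm_num, pow_add, h21, one_mul, pow_one],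
    hg, inv_eq_iff_mul_eq_one] at h1
  have h3 := orderOf_dvd_of_pow_eq_one (show y ^ 2 = 1 by rw [pow_two, h1])
  rw [P.L.C.order] at h3
  norm_num at h3

/-- The exceptional characters at seven are not real. -/
theorem seven_exc_not_real (hz7 : P.zs = [-55, 99]) {η : IrrCharacter G} (hη : η ∈ Finset.univ.image P.ν) :
    ∃ s, ((η : G → ℂ) s).im ≠ 0 := by
  refine ⟨P.L.C.y, fun him => ?_⟩
  have hδ : P.δ = 1 := by rw [P.exc_sign.1, hz7]; rfl
  have h2e : (Finset.univ.image P.ν).card = 2 := by rw [P.card_exc]; rfl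
  have h1 := sum_exc P.modular P.data (i := (1 : ZMod 7)) one_ne_zero
  rw [P.L.C.yP_one, hδ] at h1
  have h2 := second_orthogonality P.L.C.y P.L.C.y⁻¹
  rw [if_neg (seven_not_real P), Finset.sum_congr rfl (g := fun χ : IrrCharacter G => (χ : G → ℂ) P.L.C.y * (χ : G → ℂ) P.L.C.y)
      (fun χ _ => by rw [IsCharacter.conj_inv (isCharacter_of_irr χ.2), Complex.conj_conj]),
    P.sum_split, Finset.sum_eq_zero (s := P.rest) (fun χ hχ => by rw [P.rest_apply_y rfl hχ, zero_mul]),
    List.map_congr_left (g := fun _ : IrrCharacter G => (1 : ℂ)) (fun χ hχ => by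
      rw [← P.L.C.yP_one, apply_yP_ord P.modular P.data (mem_ordSet.1 (P.cs_mem hχ)).2
        (mem_ordSet.1 (P.cs_mem hχ)).1 one_ne_zero, (P.sign_eq hχ).1, Blk.sgn_sq]),
    List.map_const', List.sum_replicate, show P.cs.length = 2 by simpa [PBlk.zs] using congrArg List.length hz7,
    show (oneG G : G → ℂ) P.L.C.y = 1 from rfl, nsmul_eq_mul, mul_one, mul_one, add_zero, Nat.cast_ofNat] at h2
  obtain ⟨η', hne, hset⟩ : ∃ η', η' ≠ η ∧ Finset.univ.image P.ν = {η, η'} := by
    obtain ⟨a, b, hab, hs⟩ := Finset.card_eq_two.1 h2e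
    rw [hs] at hη
    rcases Finset.mem_insert.1 hη with rfl | h
    · exact ⟨b, hab.symm, hs⟩
    · rw [Finset.mem_singleton.1 h]
      exact ⟨a, hab, by rw [hs, Finset.pair_comm]⟩
  rw [hset, Finset.sum_pair hne.symm] at h1 h2
  have him' : ((η' : G → ℂ) P.L.C.y).im = 0 := by
    have := congrArg Complex.im h1
    simp only [Complex.add_im, Complex.neg_im, Int.cast_one, Complex.one_im, neg_zero] at this
    linarith
  have hre := congrArg Complex.re h2
  simp only [Complex.add_re, Complex.mul_re, him, him', mul_zero, sub_zero, Complex.one_re, Complex.zero_re,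
    Complex.re_ofNat] at hre
  linarith [mul_self_nonneg ((η : G → ℂ) P.L.C.y).re, mul_self_nonneg ((η' : G → ℂ) P.L.C.y).re]

end Seven

namespace Blk

variable (B : Blk G)

theorem exc_not_real {η : IrrCharacter G} (hη : η ∈ Finset.univ.image B.ν) :
    ∃ s, ((η : G → ℂ) s).im ≠ 0 := by
  refine ⟨B.x, fun him => ?_⟩
  obtain ⟨η', hne, hset⟩ : ∃ η', η' ≠ η ∧ Finset.univ.image B.ν = {η, η'} := by
    obtain ⟨a, b, hab, hs⟩ := Finset.card_eq_two.1 B.card_exc
    rw [hs] at hη
    rcases Finset.mem_insert.1 hη with rfl | h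
    · exact ⟨b, hab.symm, hs⟩
    · rw [Finset.mem_singleton.1 h]
      exact ⟨a, hab, by rw [hs, Finset.pair_comm]⟩
  have h1 := B.sum_exc_x
  have h3 := B.sum_exc_sq
  rw [hset, Finset.sum_pair hne.symm] at h1 h3
  have him' : ((η' : G → ℂ) B.x).im = 0 := by
    have := congrArg Complex.im h1
    simp only [Complex.add_im, Complex.neg_im, Complex.intCast_im, neg_zero] at this
    linarith
  have hre := congrArg Complex.re h3
  simp [Complex.mul_re, him, him'] at hre
  linarith [mul_self_nonneg ((η : G → ℂ) B.x).re, mul_self_nonneg ((η' : G → ℂ) B.x).re]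

theorem cases_all (η : IrrCharacter G) :
    η = oneG G ∨ (∃ i, η = B.c i) ∨ η ∈ Finset.univ.image B.ν ∨ η ∈ B.rest := by
  by_cases h : η ∈ insert (oneG G) (Finset.univ.image B.c) ∪ Finset.univ.image B.ν
  · rcases Finset.mem_union.1 h with h | h
    · rcases Finset.mem_insert.1 h with h | h
      · exact Or.inl h
      · obtain ⟨i, -, hi⟩ := Finset.mem_image.1 h
        exact Or.inr (Or.inl ⟨i, hi.symm⟩)
    · exact Or.inr (Or.inr (Or.inl h))
  · exact Or.inr (Or.inr (Or.inr (Finset.mem_sdiff.2 ⟨Finset.mem_univ _, h⟩)))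

variable [Fact (Nat.Prime 5)] [Fact (Nat.Prime 7)]

/-- The census of the surviving case. -/
theorem census_invol (hz : v4 B.z = zSp) (P5 : PBlk G 5 o5last) (h5 : P5.zs ∈ fiveSp)
    (P7 : PBlk G 7 o7last) (h7 : P7.zs = [-55, 99]) {t : G} (ht : t * t = 1) (ht1 : t ≠ 1)
    (hCt : Nat.card ↥(centralizer ({t} : Set G)) = 384) {r : Fin 4 → ℤ}
    (hr : ∀ i, (B.c i : G → ℂ) t = (r i : ℂ)) (hr4 : v4 r = (5, -3, -3, 2)) :
    (∀ u : G, orderOf u = 2 → Nat.card ↥(centralizer ({u} : Set G)) = 384) ∧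
      (∀ u v : G, orderOf u = 2 → orderOf v = 2 → IsConj u v) ∧
      ∀ u : G, orderOf u = 2 → 3 ∣ Nat.card {s : G // s * s = u} := by
  -- the block at eleven
  have hzi : B.z 0 = -21 ∧ B.z 1 = 45 ∧ B.z 2 = 45 ∧ B.z 3 = 210 := by
    simpa [v4, zSp, Prod.mk.injEq] using hz
  have hri : r 0 = 5 ∧ r 1 = -3 ∧ r 2 = -3 ∧ r 3 = 2 := by
    simpa [v4, Prod.mk.injEq] using hr4
  have d0 : deg (B.c 0 : G → ℂ) = 21 := by rw [← (B.sign_eq 0).2, hzi.1]; rfl
  have d1 : deg (B.c 1 : G → ℂ) = 45 := by rw [← (B.sign_eq 1).2, hzi.2.1]; rfl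
  have d2 : deg (B.c 2 : G → ℂ) = 45 := by rw [← (B.sign_eq 2).2, hzi.2.2.1]; rfl
  have d3 : deg (B.c 3 : G → ℂ) = 210 := by rw [← (B.sign_eq 3).2, hzi.2.2.2]; rfl
  have dν : deg (B.ν 1 : G → ℂ) = 280 := by rw [← B.exc_sign.2, hz]; rfl
  have hout : ∀ η : IrrCharacter G, η ∉ B.rest → deg (η : G → ℂ) ∈ ([1, 21, 45, 210, 280] : List ℕ) := by
    intro η hn
    rcases B.cases_all η with rfl | ⟨i, rfl⟩ | h | h
    · rw [deg_oneG]; simp
    · fin_cases i <;> simp [d0, d1, d2, d3]
    · rw [B.deg_exc_eq h, dν]; simp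
    · exact absurd h hn
  have hin : ∀ {η : IrrCharacter G} {d : ℕ}, deg (η : G → ℂ) = d → d ∉ ([1, 21, 45, 210, 280] : List ℕ) →
      η ∈ B.rest := fun {η d} hd hnd => by_contra fun hn => hnd (hd ▸ hout η hn)
  -- the degrees
  have hslot : (slotsOf P5.zs).Perm [-154, -99, 21, 231] ∧ P5.degs.Perm [1, 154, 99, 21, 231] := by
    simp only [fiveSp, List.mem_cons, List.not_mem_nil, or_false] at h5
    rcases h5 with h | h | h | h <;> rw [PBlk.degs, h] <;> exact ⟨by decide, by decide⟩
  have hd7 : P7.degs = [1, 55, 99, 45, 45] := by rw [PBlk.degs, h7]; rfl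
  have k21 : cnt G 21 = 1 := by rw [B.cnt_eq (by norm_num), hz]; decide
  have k45 : cnt G 45 = 2 := by rw [B.cnt_eq (by norm_num), hz]; decide
  have k210 : cnt G 210 = 1 := by rw [B.cnt_eq (by norm_num), hz]; decide
  have k55 : cnt G 55 = 1 := by rw [P7.count_eq rfl (by norm_num), hd7]; decide
  have k99 : cnt G 99 = 1 := by rw [P7.count_eq rfl (by norm_num), hd7]; decide
  have k154 : cnt G 154 = 1 := by rw [P5.count_eq rfl (by norm_num), hslot.2.count_eq]; decide
  have k231 : cnt G 231 = 1 := by rw [P5.count_eq rfl (by norm_num), hslot.2.count_eq]; decide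
  obtain ⟨xa, ha⟩ := exists_of_cnt k55
  obtain ⟨xb, hb⟩ := exists_of_cnt k99
  obtain ⟨xc, hc⟩ := exists_of_cnt k154
  obtain ⟨xd, hd⟩ := exists_of_cnt k231
  have hne : ∀ {η θ : IrrCharacter G}, deg (η : G → ℂ) ≠ deg (θ : G → ℂ) → η ≠ θ :=
    fun h e => h (e ▸ rfl)
  set S : Finset (IrrCharacter G) := {xa, xb, xc, xd} with hS
  have hSrest : S ⊆ B.rest := by
    intro η hη
    simp only [hS, Finset.mem_insert, Finset.mem_singleton] at hη
    rcases hη with rfl | rfl | rfl | rfl
    · exact hin ha (by decide)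
    · exact hin hb (by decide)
    · exact hin hc (by decide)
    · exact hin hd (by decide)
  have hSsum : ∀ {R : Type} [AddCommMonoid R] (f : IrrCharacter G → R),
      ∑ η ∈ S, f η = f xa + (f xb + (f xc + f xd)) := by
    intro R _ f
    rw [hS, Finset.sum_insert (by simp [hne, ha, hb, hc, hd]), Finset.sum_insert (by simp [hne, hb, hc, hd]),
      Finset.sum_insert (by simp [hne, hc, hd]), Finset.sum_singleton]
  have hbig : ∀ η ∈ B.rest \ S, 385 ∣ deg (η : G → ℂ) := by
    intro η hη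
    obtain ⟨hη, hnS⟩ := Finset.mem_sdiff.1 hη
    have h11 := B.rest_dvd_deg hη
    simp only [hS, Finset.mem_insert, Finset.mem_singleton, not_or] at hnS
    have hpos : 0 < cnt G (deg (η : G → ℂ)) :=
      Finset.card_pos.2 ⟨η, Finset.mem_filter.2 ⟨Finset.mem_univ _, rfl⟩⟩
    have h5d : 5 ∣ deg (η : G → ℂ) := by
      by_contra h
      rw [P5.count_eq rfl h, hslot.2.count_eq, List.count_pos_iff] at hpos
      simp only [List.mem_cons, List.not_mem_nil, or_false] at hpos
      rcases hpos with e | e | e | e | e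
      · omega
      · exact hnS.2.2.1 (eq_of_cnt k154 e hc)
      · exact hnS.2.1 (eq_of_cnt k99 e hb)
      · omega
      · exact hnS.2.2.2 (eq_of_cnt k231 e hd)
    have h7d : 7 ∣ deg (η : G → ℂ) := by
      by_contra h
      rw [P7.count_eq rfl h, hd7, List.count_pos_iff] at hpos
      simp only [List.mem_cons, List.not_mem_nil, or_false] at hpos
      rcases hpos with e | e | e | e | e
      · omega
      · exact hnS.1 (eq_of_cnt k55 e ha)
      · exact hnS.2.1 (eq_of_cnt k99 e hb)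
      all_goals omega
    omega
  have hTsum : ∑ η ∈ B.rest \ S, deg (η : G → ℂ) ^ 2 = 148225 := by
    have h := B.sum_deg
    rw [Fin.sum_univ_four, d0, d1, d2, d3, dν, ← Finset.sum_sdiff hSrest, hSsum, ha, hb, hc, hd] at h
    omega
  obtain ⟨xe, hxe⟩ : ∃ xe, B.rest \ S = {xe} := by
    refine Finset.card_eq_one.1 (le_antisymm ?_ (Finset.card_pos.2 ?_))
    · have h := Finset.card_nsmul_le_sum (B.rest \ S) (fun η : IrrCharacter G => deg (η : G → ℂ) ^ 2) 148225
        fun η hη => by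
          have := Nat.le_of_dvd (deg_irr_pos η) (hbig η hη)
          calc 148225 = 385 ^ 2 := by norm_num
            _ ≤ _ := Nat.pow_le_pow_left this 2
      rw [hTsum, smul_eq_mul] at h
      omega
    · by_contra h
      rw [Finset.not_nonempty_iff_eq_empty] at h
      simp [h] at hTsum
  have he : deg (xe : G → ℂ) = 385 := by
    rw [hxe, Finset.sum_singleton] at hTsum
    exact Nat.pow_left_injective two_ne_zero (hTsum.trans (by norm_num))
  have hrest : ∀ f : IrrCharacter G → ℂ, ∑ η ∈ B.rest, f η = f xa + (f xb + (f xc + f xd)) + f xe := fun f => by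
    rw [← Finset.sum_sdiff hSrest, hxe, Finset.sum_singleton, hSsum, add_comm]
  have k385 : cnt G 385 = 1 := Finset.card_eq_one.2 ⟨xe, Finset.ext fun η => by
    rw [Finset.mem_filter, Finset.mem_singleton]
    refine ⟨fun h => ?_, fun h => ⟨Finset.mem_univ _, h ▸ he⟩⟩
    by_cases hη : η ∈ S
    · simp only [hS, Finset.mem_insert, Finset.mem_singleton] at hη
      rcases hη with rfl | rfl | rfl | rfl <;> omega
    · exact Finset.mem_singleton.1 (hxe ▸ Finset.mem_sdiff.2 ⟨hin h.2 (by decide), hη⟩)⟩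
  -- values at the involution
  have hreg : ¬ 11 ∣ orderOf t := regular_of_invol ht
  have hreg' : ∀ q, q = 5 ∨ q = 7 → ¬ q ∣ orderOf t := fun q hq hdv => by
    have := Nat.le_of_dvd (by norm_num) (hdv.trans (orderOf_dvd_of_pow_eq_one (show t ^ 2 = 1 by rw [pow_two, ht])))
    omega
  have hνt : (B.ν 1 : G → ℂ) t = -8 := by
    have hV : B.Vals {t} r := ⟨fun h hh => by rw [Finset.mem_singleton.1 hh]; exact hreg,
      fun i => by rw [Finset.sum_singleton, hr i]⟩
    have := hV.exc
    rw [Finset.sum_singleton, Finset.card_singleton, hz, hr4] at this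
    rw [this, show lin zSp ((1 : ℕ) : ℤ) (5, -3, -3, 2) = -8 by decide]
    push_cast; rfl
  have h45 : ∀ η : IrrCharacter G, deg (η : G → ℂ) = 45 → η = B.c 1 ∨ η = B.c 2 := by
    intro η h
    rcases B.cases_all η with rfl | ⟨i, rfl⟩ | h' | h'
    · rw [deg_oneG] at h; omega
    · fin_cases i <;> simp_all
    · rw [B.deg_exc_eq h', dν] at h; omega
    · have := B.rest_dvd_deg h'; omega
  have d7 : deg (P7.ν 1 : G → ℂ) = 45 := by rw [← P7.exc_sign.2, h7]; rfl
  have hν7 : (P7.ν 1 : G → ℂ) t = -3 := by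
    rcases h45 _ d7 with e | e <;> rw [e, hr] <;> simp [hri.2.1, hri.2.2.1]
  obtain ⟨va, hva, hva4, -⟩ := B.invol_value xa ht ht1
  obtain ⟨vb, hvb, -, -⟩ := B.invol_value xb ht ht1
  obtain ⟨vc, hvc, -, -⟩ := B.invol_value xc ht ht1
  obtain ⟨vd, hvd, -, -⟩ := B.invol_value xd ht ht1
  obtain ⟨ve, hve, -, -⟩ := B.invol_value xe ht ht1
  -- the relation at five
  have r5 : (1 : ℤ) - vc - vb + 5 + vd = 0 := by
    let W : ℤ → ℂ := fun s => (sgn s : ℂ) * valDeg s.natAbs t
    have hk : ∀ s ∈ slotsOf P5.zs, cnt G s.natAbs = 1 := fun s hs => by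
      have := hslot.1.mem_iff.1 hs
      simp only [List.mem_cons, List.not_mem_nil, or_false] at this
      rcases this with rfl | rfl | rfl | rfl
      exacts [k154, k99, k21, k231]
    have hp := (hslot.1.map W).sum_eq
    rw [slotsOf, List.map_append, List.sum_append, List.map_singleton, List.sum_singleton, PBlk.zs,
      List.map_map, List.map_congr_left (f := W ∘ sdeg P5.L.C)
        (g := fun χ : IrrCharacter G => (sgn (sdeg P5.L.C χ) : ℂ) * (χ : G → ℂ) t) (fun χ hχ => by
          show (sgn (sdeg P5.L.C χ) : ℂ) * valDeg _ t = _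
          rw [valDeg_of_cnt (hk _ (List.mem_append_left _ (List.mem_map_of_mem hχ))) (P5.sign_eq hχ).2.symm])] at hp
    have hlast : W (-(1 + P5.zs.sum)) = -((P5.δ : ℂ) * (P5.ν 1 : G → ℂ) t) := by
      have hn : (-(1 + P5.zs.sum)).natAbs = deg (P5.ν 1 : G → ℂ) := by rw [Int.natAbs_neg]; exact P5.exc_sign.2
      show (sgn (-(1 + P5.zs.sum)) : ℂ) * valDeg _ t = _
      rw [valDeg_of_cnt (hk _ (List.mem_append_right _ (List.mem_singleton_self _))) hn.symm]
      have hs : sgn (-(1 + P5.zs.sum)) = -P5.δ := by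
        have := P5.exc_sign.1
        have := deg_irr_pos (P5.ν 1)
        simp only [sgn] at *
        split_ifs at * <;> omega
      rw [hs]; push_cast; ring
    rw [show P5.cs.map (sdeg P5.L.C) = P5.zs from rfl] at hp
    rw [hlast] at hp
    have h := P5.rel (hreg' 5 (Or.inl rfl))
    simp only [List.map_cons, List.map_nil, List.sum_cons, List.sum_nil, W, sgn, Int.natAbs_neg, Int.reduceLT,
      if_true, if_false, Int.reduceAbs, Int.natAbs_natCast] at hp
    rw [valDeg_of_cnt k154 hc,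
      valDeg_of_cnt k99 hb, valDeg_of_cnt k21 d0, valDeg_of_cnt k231 hd, hvc, hvb, hr, hvd, hri.1] at hp
    simp only [sgn] at h
    apply Int.cast_injective (α := ℂ)
    push_cast at hp h ⊢
    linear_combination h - hp
  -- the relation at seven
  have r7 : (1 : ℤ) - va + vb + 3 = 0 := by
    let W : ℤ → ℂ := fun s => (sgn s : ℂ) * valDeg s.natAbs t
    have hk : ∀ s ∈ P7.zs, cnt G s.natAbs = 1 := fun s hs => by
      rw [h7] at hs
      simp only [List.mem_cons, List.not_mem_nil, or_false] at hs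
      rcases hs with rfl | rfl
      exacts [k55, k99]
    have hp := congrArg (fun l => (List.map W l).sum) h7
    simp only [PBlk.zs, List.map_map] at hp
    rw [List.map_congr_left (f := W ∘ sdeg P7.L.C)
        (g := fun χ : IrrCharacter G => (sgn (sdeg P7.L.C χ) : ℂ) * (χ : G → ℂ) t) (fun χ hχ => by
          show (sgn (sdeg P7.L.C χ) : ℂ) * valDeg _ t = _
          rw [valDeg_of_cnt (hk _ (List.mem_map_of_mem hχ)) (P7.sign_eq hχ).2.symm])] at hp
    have h := P7.rel (hreg' 7 (Or.inr rfl))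
    rw [hν7, show P7.δ = 1 by rw [P7.exc_sign.1, h7]; rfl] at h
    simp only [List.map_cons, List.map_nil, List.sum_cons, List.sum_nil, W, sgn, Int.reduceLT, Int.reduceNeg, Int.reduceAbs, Int.natAbs_neg, Int.natAbs_natCast, if_true, if_false] at hp
    rw [valDeg_of_cnt k55 ha,
      valDeg_of_cnt k99 hb, hva, hvb] at hp
    simp only [sgn] at h
    apply Int.cast_injective (α := ℂ)
    push_cast at hp h ⊢
    linear_combination h - hp
  -- orthogonality
  have hexc : ∀ η ∈ Finset.univ.image B.ν, (η : G → ℂ) t = -8 := fun η hη => (B.apply_exc hη hreg).trans hνt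
  have hsplit : ∀ (f : IrrCharacter G → ℂ) (w : ℂ), (∀ η ∈ Finset.univ.image B.ν, f η = w) →
      ∑ η, f η = f (oneG G) + (f (B.c 0) + f (B.c 1) + f (B.c 2) + f (B.c 3)) + 2 * w +
        (f xa + (f xb + (f xc + f xd)) + f xe) := fun f w hw => by
    rw [B.sum_split, hrest, Finset.sum_congr rfl hw, Finset.sum_const, B.card_exc, Fin.sum_univ_four, nsmul_eq_mul]
    push_cast; ring
  have hcons : (va : ℤ) + vc + ve = 18 := by
    have hn : ¬ IsConj t (1 : G) := fun e => ht1 (by simpa using isConj_one_left.1 e)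
    have h := second_orthogonality t (1 : G)
    rw [if_neg hn, hsplit _ ((-8 : ℂ) * (280 : ℂ)) (fun η hη => by
      rw [hexc η hη, irr_apply_one_eq_deg, map_natCast, B.deg_exc_eq hη, dν]; push_cast; rfl)] at h
    simp only [oneG_apply, hr, hva, hvb, hvc, hvd, hve, irr_apply_one_eq_deg, map_natCast, map_one, d0, d1, d2, d3,
      ha, hb, hc, hd, he, hri.1, hri.2.1, hri.2.2.1, hri.2.2.2] at h
    push_cast at h
    have h' : (1 : ℤ) + (105 - 135 - 135 + 420) - 4480 + (55 * va + (99 * vb + (154 * vc + 231 * vd)) + 385 * ve) = 0 :=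
      Int.cast_injective (α := ℂ) (by push_cast; linear_combination h)
    omega
  have hnorm : va * va + vb * vb + vc * vc + vd * vd + ve * ve = 208 := by
    have h := second_orthogonality t t
    rw [if_pos (IsConj.refl _), hCt, hsplit _ (64 : ℂ) (fun η hη => by
      rw [hexc η hη, map_neg, map_ofNat]; norm_num)] at h
    simp only [oneG_apply, hr, hva, hvb, hvc, hvd, hve, map_intCast, map_one, hri.1, hri.2.1, hri.2.2.1,
      hri.2.2.2] at h
    push_cast at h
    apply Int.cast_injective (α := ℂ)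
    push_cast
    linear_combination h
  have h3 : (3 : ℤ) ∣ vb := by
    have h := dvd_class_mul hvb
    rw [card_class_eq, B.card, hCt, hb] at h
    omega
  rw [ha] at hva4
  have hva14 : -14 ≤ va ∧ va ≤ 14 := ⟨by nlinarith, by nlinarith⟩
  have hcases : va = -5 ∨ va = 7 := by omega
  have hva7 : va = 7 := by
    refine hcases.resolve_left fun e => ?_
    subst e
    have e1 : vb = -9 := by omega
    have e2 : vd = vc - 15 := by omega
    have e3 : ve = 23 - vc := by omega
    rw [e1, e2, e3] at hnorm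
    nlinarith [mul_self_nonneg (3 * vc - 38)]
  subst hva7
  have hvb3 : vb = 3 := by omega
  have hvc10 : vc = 10 := by
    have e2 : vd = vc - 3 := by omega
    have e3 : ve = 11 - vc := by omega
    rw [hvb3, e2, e3] at hnorm
    have : (vc - 10) * (3 * vc + 2) = 0 := by linear_combination hnorm
    rcases mul_eq_zero.1 this with e | e <;> omega
  have hvd7 : vd = 7 := by omega
  have hve1 : ve = 1 := by omega
  -- indicators
  have i45 : ∀ η : IrrCharacter G, deg (η : G → ℂ) = 45 → ind η = 0 := fun η h => by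
    refine ind_zero (seven_exc_not_real P7 h7 ?_)
    have hsub : Finset.univ.image P7.ν ⊆ Finset.univ.filter fun χ : IrrCharacter G => deg (χ : G → ℂ) = 45 :=
      fun χ hχ => by
        obtain ⟨u, -, rfl⟩ := Finset.mem_image.1 hχ
        exact Finset.mem_filter.2 ⟨Finset.mem_univ _, (deg_exc P7.data u).trans d7⟩
    rw [Finset.eq_of_subset_of_card_le hsub (by rw [P7.card_exc]; exact k45.le)]
    exact Finset.mem_filter.2 ⟨Finset.mem_univ _, h⟩
  have i0 : ind (B.c 0) = 1 := ind_odd (d0 ▸ k21) (by omega)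
  have ia : ind xa = 1 := ind_odd (ha ▸ k55) (by omega)
  have ib : ind xb = 1 := ind_odd (hb ▸ k99) (by omega)
  have id' : ind xd = 1 := ind_odd (hd ▸ k231) (by omega)
  have ie : ind xe = 1 := ind_odd (he ▸ k385) (by omega)
  have roots : ∀ g : G, (Nat.card {s : G // s * s = g} : ℂ) = 1 + (conj ((B.c 0 : G → ℂ) g) +
      ind (B.c 3) * conj ((B.c 3 : G → ℂ) g)) + (conj ((xa : G → ℂ) g) + (conj ((xb : G → ℂ) g) +
      (ind xc * conj ((xc : G → ℂ) g) + conj ((xd : G → ℂ) g))) + conj ((xe : G → ℂ) g)) := fun g => by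
    rw [← sum_ind, hsplit _ 0 (fun η hη => by rw [ind_zero (B.exc_not_real hη), zero_mul]), ind_oneG, i0,
      i45 _ d1, i45 _ d2, ia, ib, id', ie, oneG_apply, map_one]
    ring
  set A : Finset G := Finset.univ.filter fun s => s * s = 1 with hA
  set K : Finset G := Finset.univ.filter fun s => IsConj t s with hKdef
  have hK : K.card = 1155 := by
    rw [hKdef, ← Fintype.card_subtype, ← Nat.card_eq_fintype_card, card_class_eq, B.card, hCt]
  have hsq : ∀ {s : G}, IsConj t s → s * s = 1 := fun {s} hs => by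
    obtain ⟨g, rfl⟩ := isConj_iff.1 hs
    rw [show g * t * g⁻¹ * (g * t * g⁻¹) = g * (t * t) * g⁻¹ by group, ht]
    group
  have hsub : insert 1 K ⊆ A := fun s hs => by
    refine Finset.mem_filter.2 ⟨Finset.mem_univ _, ?_⟩
    rcases Finset.mem_insert.1 hs with rfl | hs
    · rw [one_mul]
    · exact hsq (Finset.mem_filter.1 hs).2
  have h1K : (1 : G) ∉ K := fun h => ht1 (by simpa using isConj_one_left.1 (Finset.mem_filter.1 h).2)
  have hle := Finset.card_le_card hsub
  rw [Finset.card_insert_of_notMem h1K, hK] at hle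
  have hAc : (A.card : ℂ) = 792 + 154 * ind xc + 210 * ind (B.c 3) := by
    rw [hA, ← Fintype.card_subtype, ← Nat.card_eq_fintype_card, roots 1]
    simp only [irr_apply_one_eq_deg, map_natCast, d0, d3, ha, hb, hc, hd, he]
    push_cast; ring
  have hgood : ind xc = 1 ∧ ind (B.c 3) = 1 ∧ A.card = 1156 := by
    rcases ind_pm (hc ▸ k154) with ec | ec <;> rcases ind_pm (d3 ▸ k210) with e3 | e3 <;> rw [ec, e3] at hAc
    · exact ⟨ec, e3, Nat.cast_injective (R := ℂ) (hAc.trans (by norm_num))⟩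
    all_goals
      exfalso
      have hre := congrArg Complex.re hAc
      simp at hre
      have : (1156 : ℝ) ≤ A.card := by exact_mod_cast hle
      linarith
  obtain ⟨ec, e3, hA1156⟩ := hgood
  have heq := Finset.eq_of_subset_of_card_le hsub (by rw [Finset.card_insert_of_notMem h1K, hK, hA1156])
  have hconj : ∀ u : G, orderOf u = 2 → IsConj t u := fun u hu => by
    have hu1 : u ≠ 1 := fun e => by rw [e, orderOf_one] at hu; omega
    have hm : u ∈ A := Finset.mem_filter.2 ⟨Finset.mem_univ _, by rw [← pow_two, ← hu, pow_orderOf_eq_one]⟩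
    rw [← heq, Finset.mem_insert] at hm
    exact (Finset.mem_filter.1 (hm.resolve_left hu1)).2
  have hroots : Nat.card {s : G // s * s = t} = 36 := by
    refine Nat.cast_injective (R := ℂ) ?_
    rw [roots t, hr, hr, hva, hvb, hvc, hvd, hve, ec, e3, hri.1, hri.2.2.2, hvb3, hvc10, hvd7, hve1]
    simp only [map_intCast]
    push_cast; ring
  refine ⟨fun u hu => ?_, fun u v hu hv => (hconj u hu).symm.trans (hconj v hv), fun u hu => ?_⟩
  · rw [Cfsg.Lib.M12Nse.conj_card_centralizer (hconj u hu), hCt]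
  · rw [← card_roots_conj (hconj u hu), hroots]
    norm_num

end Blk

end Cfsg.Lib.M22Order
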