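import Cfsg.Agent.M22Order.TablesStage

/-!
A central involution: the finite searches, part C.
-/

set_option autoImplicit false
set_option maxRecDepth 100000

namespace Cfsg.Lib.M22Order

theorem stage_num_C : (((invTab.map Prod.fst).drop 17).take 13).all stageRow = true := by decide +kernel

end Cfsg.Lib.M22Order
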