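import Cfsg.Agent.M22Order.TablesStageA
import Cfsg.Agent.M22Order.TablesStageB
import Cfsg.Agent.M22Order.TablesStageC

/-!
A central involution: the finite searches collected.
-/

set_option autoImplicit false
set_option maxRecDepth 100000

namespace Cfsg.Lib.M22Order

theorem stage_num : (invTab.map Prod.fst).all stageRow = true := by
  have e : invTab.map Prod.fst = ((invTab.map Prod.fst).drop 0).take 12 ++
      ((invTab.map Prod.fst).drop 12).take 5 ++ ((invTab.map Prod.fst).drop 17).take 13 := rfl
  rw [e, List.all_append, List.all_append, stage_num_A, stage_num_B, stage_num_C]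
  rfl

end Cfsg.Lib.M22Order
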