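import Cfsg.Agent.M22Order.Slots
import Cfsg.Agent.M22Order.TablesStageAll

/-!
A central involution with the blocks at five, seven and eleven determines these blocks.
-/

set_option autoImplicit false
set_option linter.unusedSectionVars false
set_option linter.style.haveILetI false
set_option maxRecDepth 100000
set_option maxHeartbeats 1600000

namespace Cfsg.Lib.M22Order

open Subgroup Cfsg.Lib.Chars Cfsg.Lib.Blocks Cfsg.Lib.Blocks.SmallOrder Cfsg.Lib.Blocks.SylowCount
  Cfsg.Lib.Blocks.DegreeEquation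
open Cfsg.Lib.Small.DegreeGraph (sdeg)
open scoped _root_.Classical

universe u

theorem orbit_num : ∀ C ∈ evenDvs, C % 128 = 0 → C % 5 ≠ 0 → C % 7 = 0 → ∀ d ∈ ([168, 84, 56] : List ℕ),
    C % d = 0 → C / d % 7 ≠ 1 := by decide +kernel

theorem opts5_one : ∀ o ∈ opts5, o.v = 1 → o = o5last := by
  intro o ho
  simp only [opts5, List.mem_cons, List.not_mem_nil, or_false] at ho
  rcases ho with rfl | rfl | rfl | rfl | rfl | rfl | rfl | rfl | rfl | rfl <;> simp [o5last]

theorem opts7_six : ∀ o ∈ opts7, o.N = 2640 → o.e = 6 → o.v = 4 := by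
  intro o ho
  simp only [opts7, List.mem_cons, List.not_mem_nil, or_false] at ho
  rcases ho with rfl | rfl | rfl | rfl | rfl | rfl | rfl <;> simp

variable {G : Type u} [Group G] [Fintype G] [IsSimpleGroup G] [Fact (Nat.Prime 11)] [Fact (Nat.Prime 5)]
  [Fact (Nat.Prime 7)]

namespace Blk

variable (B : Blk G)

/-- An involution in the centraliser of an element of order seven with normaliser of order 168. -/
theorem orbit_false (B : Blk G) {o : Opt} (L : Local G 7 o) (hv : o.v = 4) (he : o.e = 6) {t : G}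
    (ht : orderOf t = 2) (hty : L.C.y * t = t * L.C.y) (h128 : Nat.card ↥(centralizer ({t} : Set G)) % 128 = 0)
    (h5 : Nat.card ↥(centralizer ({t} : Set G)) % 5 ≠ 0) : False := by
  set y := L.C.y with hy_def
  have hy : orderOf y = 7 := L.C.order
  set N := normalizer (zpowers y : Set G)
  set K := centralizer ({t} : Set G)
  have hyK : y ∈ K := mem_centralizer_singleton_iff.2 hty
  have hN : Nat.card ↥N = 168 := by
    rw [Cfsg.Lib.Blocks.HalfDegree.card_normalizer_eq, card_H, L.index, L.card_V, he, hv]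
  set T := {a : ↥(centralizer ({y} : Set G)) // a * a = 1 ∧ a ≠ 1}
  have hT : Nat.card T ≤ 3 := by
    let T1 := {a : ↥(centralizer ({y} : Set G)) // a * a = 1}
    have hy' : y ∈ centralizer ({y} : Set G) := mem_centralizer_singleton_iff.2 rfl
    let f : T1 × Fin 7 → ↥(centralizer ({y} : Set G)) := fun x => x.1.1 * ⟨y, hy'⟩ ^ (x.2 : ℕ)
    have hf : Function.Injective f := by
      rintro ⟨⟨a, ha⟩, i⟩ ⟨⟨b, hb⟩, j⟩ e
      simp only [f] at e
      have hc : ∀ (a : ↥(centralizer ({y} : Set G))) (n : ℕ), Commute a ((⟨y, hy'⟩ : ↥(centralizer ({y} : Set G))) ^ n) :=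
        fun a n => (show Commute a _ from Subtype.ext (mem_centralizer_singleton_iff.1 a.2)).pow_right n
      have h7 : ∀ (a : ↥(centralizer ({y} : Set G))) (n : ℕ), a * a = 1 → (a * ⟨y, hy'⟩ ^ n) ^ 7 = a := fun a n ha => by
        rw [(hc a n).mul_pow, ← pow_mul, mul_comm n, pow_mul,
          show (⟨y, hy'⟩ : ↥(centralizer ({y} : Set G))) ^ 7 = 1 from Subtype.ext (by
            rw [Subgroup.coe_pow]; exact hy ▸ pow_orderOf_eq_one y), one_pow, mul_one,
          show a ^ 7 = (a ^ 2) ^ 3 * a by rw [← pow_mul, ← pow_succ], pow_two, ha, one_pow, one_mul]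
      have hab : a = b := by rw [← h7 a i ha, e, h7 b j hb]
      subst hab
      have h2 := congrArg Subtype.val (mul_left_cancel e)
      simp only [Subgroup.coe_pow] at h2
      rw [pow_inj_mod, hy, Nat.mod_eq_of_lt i.2, Nat.mod_eq_of_lt j.2] at h2
      exact Prod.ext rfl (Fin.ext h2)
    have h1 := Nat.card_le_card_of_injective f hf
    rw [Nat.card_prod, Nat.card_fin, show Nat.card ↥(centralizer ({y} : Set G)) = 7 * 4 by
      rw [← hv, ← L.card_V]; exact L.C.card_Cs] at h1
    have h2 : Nat.card T + 1 ≤ Nat.card T1 := by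
      let g : Option T → T1 := fun x => match x with
        | none => ⟨1, one_mul 1⟩
        | some a => ⟨a.1, a.2.1⟩
      have hg : Function.Injective g := by
        rintro (_ | ⟨a, ha⟩) (_ | ⟨b, hb⟩) e
        · rfl
        · exact absurd (congrArg Subtype.val e).symm hb.2
        · exact absurd (congrArg Subtype.val e) ha.2
        · exact congrArg some (Subtype.ext (show a = b from congrArg (fun w : T1 => w.1) e))
      have := Nat.card_le_card_of_injective g hg
      rwa [Finite.card_option] at this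
    omega
  have hidx : ((K.subgroupOf N)).index ≤ 3 := by
    refine le_trans ?_ hT
    rw [Subgroup.index_eq_card]
    have hm : ∀ n : ↥N, (n : G) * t * (n : G)⁻¹ ∈ centralizer ({y} : Set G) := fun n => by
      obtain ⟨k, hk⟩ := mem_zpowers_iff.1 ((Subgroup.mem_normalizer_iff.1 (inv_mem n.2) y).1 (mem_zpowers y))
      rw [inv_inv] at hk
      refine mem_centralizer_singleton_iff.2 ?_
      have h1 : Commute t (((n : G))⁻¹ * y * (n : G)) := by
        rw [← hk]; exact (show Commute t y from hty.symm).zpow_right k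
      calc (n : G) * t * (n : G)⁻¹ * y = (n : G) * (t * ((n : G)⁻¹ * y * (n : G))) * (n : G)⁻¹ := by group
        _ = (n : G) * (((n : G)⁻¹ * y * (n : G)) * t) * (n : G)⁻¹ := by rw [h1.eq]
        _ = _ := by group
    have ht2 : t * t = 1 := by rw [← pow_two, ← ht, pow_orderOf_eq_one]
    let F : ↥N → T := fun n => ⟨⟨_, hm n⟩, Subtype.ext (by
        show (n : G) * t * (n : G)⁻¹ * ((n : G) * t * (n : G)⁻¹) = 1
        rw [show (n : G) * t * (n : G)⁻¹ * ((n : G) * t * (n : G)⁻¹) = (n : G) * (t * t) * (n : G)⁻¹ by group, ht2]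
        group), fun e => by
        have h := congrArg Subtype.val e
        simp only [Subgroup.coe_one, mul_inv_eq_one, mul_eq_left] at h
        rw [h, orderOf_one] at ht; norm_num at ht⟩
    refine Nat.card_le_card_of_injective (fun q => F q.out) fun q q' e => ?_
    have h := congrArg (fun a : T => (a.1 : G)) e
    simp only [F] at h
    rw [← QuotientGroup.out_eq' q, ← QuotientGroup.out_eq' q', QuotientGroup.eq, Subgroup.mem_subgroupOf]
    refine mem_centralizer_singleton_iff.2 ?_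
    simp only [Subgroup.coe_mul, Subgroup.coe_inv]
    calc ((q.out : ↥N) : G)⁻¹ * (q'.out : ↥N) * t
        = ((q.out : ↥N) : G)⁻¹ * (((q'.out : ↥N) : G) * t * ((q'.out : ↥N) : G)⁻¹) * (q'.out : ↥N) := by group
      _ = ((q.out : ↥N) : G)⁻¹ * (((q.out : ↥N) : G) * t * ((q.out : ↥N) : G)⁻¹) * (q'.out : ↥N) := by rw [h]
      _ = _ := by group
  have hmul := (K.subgroupOf N).card_mul_index
  rw [hN, ← Subgroup.inf_subgroupOf_right, Nat.card_congr (Subgroup.subgroupOfEquivOfLe inf_le_right).toEquiv,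
    Subgroup.inf_subgroupOf_right, inf_comm] at hmul
  have hd : Nat.card ↥(N ⊓ K) ∈ ([168, 84, 56] : List ℕ) := by
    have hpos : 0 < (K.subgroupOf N).index := Nat.pos_of_ne_zero Subgroup.index_ne_zero_of_finite
    simp only [List.mem_cons, List.not_mem_nil, or_false]
    rcases (show (K.subgroupOf N).index = 1 ∨ (K.subgroupOf N).index = 2 ∨ (K.subgroupOf N).index = 3 by omega)
      with e | e | e <;> rw [e] at hmul <;> omega
  refine orbit_num _ (even_centralizer_mem B.card ht) h128 h5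
    (Nat.mod_eq_zero_of_dvd (hy ▸ Subgroup.orderOf_dvd_natCard _ hyK)) _ hd
    (Nat.mod_eq_zero_of_dvd (Subgroup.card_dvd_of_le inf_le_right)) ?_
  exact sylow_index_in (p := 7) (m := 63360) (by rw [B.card]) (by norm_num) K hy hyK

/-- The blocks at five and seven with a central involution. -/
theorem central (B : Blk G) :
    v4 B.z = zSp ∧ (∃ P : PBlk G 5 o5last, P.zs ∈ fiveSp) ∧ ∃ P : PBlk G 7 o7last, P.zs = [-55, 99] := by
  have hG := B.card
  obtain ⟨t, ht, h128⟩ := exists_central hG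
  set C := Nat.card ↥(centralizer ({t} : Set G)) with hC_def
  have ht2 : t * t = 1 := by rw [← pow_two, ← ht, pow_orderOf_eq_one]
  have ht1 : t ≠ 1 := fun e => by rw [e, orderOf_one] at ht; norm_num at ht
  have hreg := regular_of_invol ht2
  have hC128 : C % 128 = 0 := Nat.mod_eq_zero_of_dvd h128
  have hC5 : C % 5 ≠ 0 := fun h => by
    obtain ⟨⟨g, hg⟩, hgo⟩ := exists_prime_orderOf_dvd_card' (G := ↥(centralizer ({t} : Set G))) 5
      (Nat.dvd_of_mod_eq_zero h)
    rw [Subgroup.orderOf_mk] at hgo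
    have h2 := Cfsg.Lib.M12Nse.dvd_centralizer_orderOf (v := g) (a := t)
      (mem_centralizer_singleton_iff.1 hg).symm
    rw [B.cent_five hgo, ht] at h2
    norm_num at h2
  obtain ⟨r, hr, hw, hrow⟩ := B.mem_rows ht2 ht1 (need128 hC128)
  -- the block at five
  obtain ⟨g5, hg5⟩ := exists_prime_orderOf_dvd_card' (G := G) 5 (by rw [hG]; norm_num)
  obtain ⟨o5, ho5, L5, hc5, -⟩ := exists_five hG hg5
  have hv5 : o5.v = 1 := by
    have := B.cent_five hg5
    rw [hc5] at this
    omega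
  obtain rfl := opts5_one o5 ho5 hv5
  obtain ⟨P, -⟩ := exists_pblk L5
  have hbopts := P.mem_bopts B (by norm_num) (opts_terms5 ho5).1 (opts_terms5 ho5).2
  -- the block at seven
  obtain ⟨g7, hg7, hg7t⟩ : ∃ g : G, orderOf g = 7 ∧ (C % 7 = 0 → g * t = t * g) := by
    by_cases h : C % 7 = 0
    · obtain ⟨⟨g, hg⟩, hgo⟩ := exists_prime_orderOf_dvd_card' (G := ↥(centralizer ({t} : Set G))) 7
        (Nat.dvd_of_mod_eq_zero h)
      rw [Subgroup.orderOf_mk] at hgo
      exact ⟨g, hgo, fun _ => mem_centralizer_singleton_iff.1 hg⟩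
    · obtain ⟨g, hg⟩ := exists_prime_orderOf_dvd_card' (G := G) 7 (by rw [hG]; norm_num)
      exact ⟨g, hg, fun e => absurd e h⟩
  obtain ⟨o7, ho7, L7, -, hzp⟩ := exists_seven hG hg7
  obtain ⟨P7, rfl⟩ := exists_pblk L7
  have hbopts7 := P7.mem_bopts B (by norm_num) (opts_terms7 ho7).1 (opts_terms7 ho7).2
  have hsev : (o7, P7.zs) ∈ stageSeven (v4 B.z) P.zs := by
    refine List.mem_flatMap.2 ⟨o7, ho7, List.mem_map.2 ⟨P7.zs, List.mem_filter.2 ⟨hbopts7, ?_⟩, rfl⟩⟩
    simp only [Bool.and_eq_true, Bool.or_eq_true, bne_iff_ne, ne_eq, sub, List.all_eq_true, beq_iff_eq,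
      decide_eq_true_eq]
    refine ⟨fun d _ => ?_, (em (o7.v = 1)).symm.imp id fun hv d _ => ?_⟩
    · by_cases h : 5 ∣ d
      · exact Or.inl (Nat.mod_eq_zero_of_dvd h)
      · exact Or.inr ((P7.count_le d).trans (P.count_eq rfl h).le)
    · by_cases h : 7 ∣ d
      · exact Or.inl (Nat.mod_eq_zero_of_dvd h)
      · exact Or.inr ((P.count_le d).trans (P7.count_eq hv h).le)
  -- the four slots
  have hlen : P.slots.length = 4 := P.slots_length
  obtain ⟨χ0, χ1, χ2, χ3, hL⟩ : ∃ a b c d, P.slots = [a, b, c, d] := by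
    rcases hs : P.slots with _ | ⟨a, _ | ⟨b, _ | ⟨c, _ | ⟨d, _ | ⟨e, l⟩⟩⟩⟩⟩ <;> rw [hs] at hlen <;>
      simp at hlen
    exact ⟨a, b, c, d, rfl⟩
  have hslots : slotsOf P.zs = [P.sd χ0, P.sd χ1, P.sd χ2, P.sd χ3] := by rw [P.slots_map, hL]; rfl
  choose val hval hval4 hvallt using fun η : IrrCharacter G => B.invol_value η ht2 ht1
  set S5 := P.slots.toFinset.filter fun η : IrrCharacter G => 11 ∣ deg (η : G → ℂ) with hS5
  have hblock11 : ∀ η : IrrCharacter G, 11 ∣ deg (η : G → ℂ) → η ∈ B.rest := fun η hd => by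
    rw [rest, Finset.mem_sdiff]
    refine ⟨Finset.mem_univ _, fun hu => ?_⟩
    have hm : deg (η : G → ℂ) ∈ L11 (v4 B.z) := by
      rcases Finset.mem_union.1 hu with h | h
      · rcases Finset.mem_insert.1 h with rfl | h
        · simp [L11, deg_oneG]
        · obtain ⟨i, -, rfl⟩ := Finset.mem_image.1 h
          rw [← (B.sign_eq i).2]
          fin_cases i <;> simp [L11, v4]
      · rw [B.deg_exc_eq h, ← B.exc_sign.2]
        simp [L11, v4]
    have := List.all_eq_true.1 (List.all_eq_true.1 L11_num _ B.zv_mem) _ hm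
    simp only [Nat.mod_eq_zero_of_dvd hd, bne_self_eq_false, Bool.false_eq_true] at this
  have hS5sub : S5 ⊆ B.rest := fun η hη => hblock11 η (Finset.mem_filter.1 hη).2
  set R := B.rest \ S5 with hR
  have hR55 : ∀ η ∈ R, 55 ∣ deg (η : G → ℂ) := fun η hη => by
    obtain ⟨h1, h2⟩ := Finset.mem_sdiff.1 hη
    have h11 := B.rest_dvd_deg h1
    have h5 : 5 ∣ deg (η : G → ℂ) := by
      by_contra h5
      refine h2 (Finset.mem_filter.2 ⟨List.mem_toFinset.2 (P.mem_slots rfl h5 (fun e => ?_) rfl), h11⟩)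
      rw [e, deg_oneG] at h11; norm_num at h11
    exact Nat.Coprime.mul_dvd_of_dvd_of_dvd (by norm_num : Nat.Coprime 5 11) h5 h11
  choose mu hmu using hR55
  set m : IrrCharacter G → ℤ := fun η => if h : η ∈ R then (mu η h : ℤ) else 0
  have hm55 : ∀ η ∈ R, (deg (η : G → ℂ) : ℤ) = 55 * m η := fun η hη => by
    simp only [m, dif_pos hη]; exact_mod_cast hmu η hη
  have hnd : List.Nodup [χ0, χ1, χ2, χ3] := hL ▸ P.slots_nodup
  have hsum5 : ∀ f : IrrCharacter G → ℤ, ∑ η ∈ S5, f η =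
      (if 11 ∣ deg (χ0 : G → ℂ) then f χ0 else 0) + (if 11 ∣ deg (χ1 : G → ℂ) then f χ1 else 0) +
      (if 11 ∣ deg (χ2 : G → ℂ) then f χ2 else 0) + (if 11 ∣ deg (χ3 : G → ℂ) then f χ3 else 0) := fun f => by
    rw [hS5, Finset.sum_filter, List.sum_toFinset _ P.slots_nodup, hL]
    simp only [List.map_cons, List.map_nil, List.sum_cons, List.sum_nil]
    ring
  have hfacts : ∀ η ∈ [χ0, χ1, χ2, χ3], (P.sd η).natAbs = deg (η : G → ℂ) ∧ η ≠ oneG G ∧ P.sd η ≠ 0 :=
    fun η h => P.slot_facts (hL ▸ h)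
  have hdvd11 : ∀ η ∈ [χ0, χ1, χ2, χ3], (11 ∣ deg (η : G → ℂ) ↔ (P.sd η).natAbs % 11 = 0) := fun η h => by
    rw [(hfacts η h).1, Nat.dvd_iff_mod_eq_zero]
  have hq : qFive (v4 B.z) P.zs = 3025 * ∑ η ∈ R, m η * m η := by
    have h := congrArg (Nat.cast (R := ℤ)) B.sum_deg
    rw [← Finset.sum_sdiff hS5sub, ← hR] at h
    push_cast at h
    rw [Finset.sum_congr rfl (g := fun η => 3025 * (m η * m η)) (fun η hη => by rw [hm55 η hη]; ring),
      ← Finset.mul_sum, hsum5, Fin.sum_univ_four] at h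
    have hsq : ∀ η ∈ [χ0, χ1, χ2, χ3], (if 11 ∣ deg (η : G → ℂ) then (deg (η : G → ℂ) : ℤ) ^ 2 else 0) =
        if ((P.sd η).natAbs % 11 == 0) = true then P.sd η * P.sd η else 0 := fun η hη => by
      rw [← (hfacts η hη).1, ← pow_two]
      simp only [beq_iff_eq, Nat.dvd_iff_mod_eq_zero, Int.natAbs_sq]
    rw [hsq χ0 (by simp), hsq χ1 (by simp), hsq χ2 (by simp), hsq χ3 (by simp)] at h
    have hfil : ∀ l : List ℤ, ((l.filter fun s => s.natAbs % 11 == 0).map fun s => s * s).sum =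
        (l.map fun s => if (s.natAbs % 11 == 0) = true then s * s else 0).sum := fun l => by
      induction l with
      | nil => rfl
      | cons a l ih => by_cases e : a.natAbs % 11 = 0 <;> simp [e, ih]
    rw [qFive, hslots, hfil, L11]
    simp only [List.map_cons, List.map_nil, List.sum_cons, List.sum_nil, List.bind_eq_flatMap, List.pure_def,
      List.flatMap_cons, List.flatMap_nil, List.cons_append, List.nil_append]
    rw [← (B.sign_eq 0).2, ← (B.sign_eq 1).2, ← (B.sign_eq 2).2, ← (B.sign_eq 3).2, ← B.exc_sign.2] at h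
    simp only [v4] at h ⊢
    push_cast at h ⊢
    simp only [pow_two, abs_mul_abs_self] at h ⊢
    linarith
  have hsum_m : 0 ≤ ∑ η ∈ R, m η * m η := Finset.sum_nonneg fun η _ => mul_self_nonneg _
  have hfive : P.zs ∈ stageFive (v4 B.z) := List.mem_filter.2 ⟨hbopts, by
    simp only [Bool.and_eq_true, decide_eq_true_eq, beq_iff_eq, hq]
    exact ⟨by positivity, Int.mul_emod_right _ _⟩⟩
  obtain ⟨rows, hrows, he⟩ := B.lookup_rows
  have hrow5 := List.all_eq_true.1 (List.all_eq_true.1 stage_num _ (List.mem_map.2 ⟨_, hrows, rfl⟩)) _ hfive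
  simp only [Bool.or_eq_true, List.isEmpty_iff] at hrow5
  have hst := List.all_eq_true.1 (hrow5.resolve_left fun e => by rw [e] at hsev; exact List.not_mem_nil hsev)
    (C, v4 r) (List.mem_filter.2 ⟨hrow, by simp [hC128, hC5]⟩)
  rw [hslots] at hst
  simp only [slot4] at hst
  -- the values on the slots
  set xs : V4 := (val χ0, val χ1, val χ2, val χ3)
  set S : V4 := (P.sd χ0, P.sd χ1, P.sd χ2, P.sd χ3)
  have hexs : exSum S xs = ∑ η ∈ S5, val η * val η := by
    rw [hsum5]
    simp only [exSum, exSq, S, xs, hdvd11 χ0 (by simp), hdvd11 χ1 (by simp), hdvd11 χ2 (by simp), hdvd11 χ3 (by simp)]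
  have hsplit : blockSq (v4 B.z) 1 (v4 r) + ∑ η ∈ S5, val η * val η + ∑ η ∈ R, val η * val η = (C : ℤ) := by
    have h := sq_split hreg hr
    rw [← Finset.sum_sdiff hS5sub, ← hR,
      Finset.sum_congr rfl (g := fun η => ((val η : ℝ) * (val η : ℝ))) (fun η _ => by
        rw [hval η]; exact Complex.normSq_intCast (val η)),
      Finset.sum_congr rfl (s₁ := S5) (g := fun η => ((val η : ℝ) * (val η : ℝ))) (fun η _ => by
        rw [hval η]; exact Complex.normSq_intCast (val η))] at h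
    apply Int.cast_injective (α := ℝ)
    push_cast
    linarith
  have hRnn : 0 ≤ ∑ η ∈ R, val η * val η := Finset.sum_nonneg fun η _ => mul_self_nonneg _
  have hsq_le : ∀ η ∈ B.rest, blockSq (v4 B.z) 1 (v4 r) + val η * val η ≤ (C : ℤ) := fun η hη => by
    have h := blockSq_add_le hreg hr {η} (Finset.singleton_subset_iff.2 hη) val fun a _ => hval a
    rw [Finset.sum_singleton] at h
    exact h
  have hblock1 : 1 ≤ blockSq (v4 B.z) 1 (v4 r) := by
    simp only [blockSq, v4]
    have := mul_self_nonneg (lin (B.z 0, B.z 1, B.z 2, B.z 3) 1 (r 0, r 1, r 2, r 3))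
    have := mul_self_nonneg (r 0)
    have := mul_self_nonneg (r 1)
    have := mul_self_nonneg (r 2)
    have := mul_self_nonneg (r 3)
    linarith
  have hrs : ∀ η : IrrCharacter G, 11 ∣ deg (η : G → ℂ) → val η ∈ rs C (deg (η : G → ℂ)) := fun η hd => by
    have h1 := hsq_le η (hblock11 η hd)
    refine mem_rs (by linarith) (hval4 η) (hvallt η fun e => ?_) ?_
    · rw [e, deg_oneG] at hd; norm_num at hd
    · have := dvd_class_mul (hval η)
      rwa [card_class_eq, B.card] at this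
  have hcol : ∀ η : IrrCharacter G, ¬ 11 ∣ deg (η : G → ℂ) → η ≠ oneG G →
      (deg (η : G → ℂ), val η) ∈ colPairs (v4 B.z) (v4 r) := fun η hd hne => mem_colPairs hreg hr hd hne (hval η)
  have hv5m : ∀ η ∈ [χ0, χ1, χ2, χ3], val η ∈ vals5 (v4 B.z) (v4 r) C (P.sd η) := fun η hη => by
    obtain ⟨h1, h2, -⟩ := hfacts η hη
    rw [vals5, h1]
    split_ifs with hd
    · exact hrs η (Nat.dvd_of_mod_eq_zero hd)
    · rw [List.mem_dedup]
      exact List.mem_map.2 ⟨_, List.mem_filter.2 ⟨hcol η (fun e => hd (Nat.mod_eq_zero_of_dvd e)) h2, beq_self_eq_true _⟩, rfl⟩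
  have hlin : 1 + (sgn (P.sd χ0) * val χ0 + sgn (P.sd χ1) * val χ1 + sgn (P.sd χ2) * val χ2 +
      sgn (P.sd χ3) * val χ3) = 0 := by
    have h := P.slots_linear (t := t) (by rw [ht]; norm_num)
    rw [hL] at h
    simp only [List.map_cons, List.map_nil, List.sum_cons, List.sum_nil, hval] at h
    apply Int.cast_injective (α := ℂ)
    push_cast
    linear_combination h
  have hroom : exSum S xs ≤ (C : ℤ) - blockSq (v4 B.z) 1 (v4 r) := by rw [hexs]; linarith
  have hx : xs ∈ quads ((C : ℤ) - blockSq (v4 B.z) 1 (v4 r)) S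
      (vals5 (v4 B.z) (v4 r) C S.1, vals5 (v4 B.z) (v4 r) C S.2.1, vals5 (v4 B.z) (v4 r) C S.2.2.1,
        vals5 (v4 B.z) (v4 r) C S.2.2.2) :=
    mem_quads (hv5m χ0 (by simp)) (hv5m χ1 (by simp)) (hv5m χ2 (by simp)) (hv5m χ3 (by simp)) hroom hlin
  -- the pairs with product of order five
  have hK : (Nat.card {a : G // IsConj t a} : ℕ) = 443520 / C := by rw [card_class_eq, B.card]
  have hn : Cfsg.Lib.M23Order.pairsY P.L.C t = 0 ∨ Cfsg.Lib.M23Order.pairsY P.L.C t = 5 := by
    have hle := Cfsg.Lib.M23Order.pairsY_le (C := P.L.C) ht2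
    rw [P.L.card_V] at hle
    have hdvd : 5 ∣ Cfsg.Lib.M23Order.pairsY P.L.C t := by
      refine Finset.dvd_sum fun v _ => ?_
      have hv1 : v = 1 := (Nat.card_eq_one_iff_unique.1 (P.L.card_V.trans rfl)).1.elim v 1
      rw [hv1, P.L.C.el_one_right, P.L.C.yP_one]
      have hcy : Nat.card ↥(centralizer ({P.L.C.y} : Set G)) = 5 :=
        P.L.C.card_Cs.trans (by rw [P.L.card_V]; rfl)
      refine (dvd_of_eq hcy.symm).trans (dvd_card_pairs (a := t) (b := t) fun g hg a ha hga => ?_)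
      by_contra hg1
      have ho : orderOf g = 5 := by
        have hd : orderOf g ∣ 5 := hcy ▸ Subgroup.orderOf_dvd_natCard _ (mem_centralizer_singleton_iff.2 hg)
        rcases (Nat.dvd_prime (by norm_num : Nat.Prime 5)).1 hd with e | e
        · exact absurd (orderOf_eq_one_iff.1 e) hg1
        · exact e
      have h5 := Cfsg.Lib.M12Nse.dvd_centralizer_orderOf hga
      rw [ho, Cfsg.Lib.M12Nse.conj_card_centralizer ha] at h5
      exact hC5 (Nat.mod_eq_zero_of_dvd h5)
    simp only [o5last] at hle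
    omega
  have hgood : good5 (v4 B.z) (v4 r) C (qFive (v4 B.z) P.zs) S xs = true := by
    have hquad := P.slots_quad (t := t) (by rw [ht]; norm_num)
    rw [hK, B.card, hL] at hquad
    simp only [List.map_cons, List.map_nil, List.sum_cons, List.sum_nil, hval, o5last, Nat.cast_one, mul_one] at hquad
    set D : ℤ := ((P.sd χ0).natAbs : ℤ) * ((P.sd χ1).natAbs * ((P.sd χ2).natAbs * (P.sd χ3).natAbs)) with hD
    have hdiv : ∀ s : ℤ, s ∈ [P.sd χ0, P.sd χ1, P.sd χ2, P.sd χ3] → s ≠ 0 →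
        ((D / s : ℤ) : ℂ) = (D : ℂ) / (s : ℂ) := fun s hs hs0 => by
      rw [Int.cast_div ?_ (by exact_mod_cast hs0)]
      rw [hD]
      simp only [List.mem_cons, List.not_mem_nil, or_false] at hs
      rcases hs with rfl | rfl | rfl | rfl
      · exact dvd_mul_of_dvd_left (Int.dvd_natAbs.2 dvd_rfl) _
      · exact dvd_mul_of_dvd_right (dvd_mul_of_dvd_left (Int.dvd_natAbs.2 dvd_rfl) _) _
      · exact dvd_mul_of_dvd_right (dvd_mul_of_dvd_right (dvd_mul_of_dvd_left (Int.dvd_natAbs.2 dvd_rfl) _) _) _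
      · exact dvd_mul_of_dvd_right (dvd_mul_of_dvd_right (dvd_mul_of_dvd_right (Int.dvd_natAbs.2 dvd_rfl) _) _) _
    have hv : (((443520 / C : ℕ) : ℤ) * ((443520 / C : ℕ) : ℤ) * (D + (val χ0 * val χ0 * (D / P.sd χ0) +
        val χ1 * val χ1 * (D / P.sd χ1) + val χ2 * val χ2 * (D / P.sd χ2) + val χ3 * val χ3 * (D / P.sd χ3)))) =
        (Cfsg.Lib.M23Order.pairsY P.L.C t : ℤ) * 443520 * D := by
      apply Int.cast_injective (α := ℂ)
      generalize 443520 / C = Kq at hquad ⊢
      push_cast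
      rw [hdiv _ (by simp) (hfacts χ0 (by simp)).2.2, hdiv _ (by simp) (hfacts χ1 (by simp)).2.2,
        hdiv _ (by simp) (hfacts χ2 (by simp)).2.2, hdiv _ (by simp) (hfacts χ3 (by simp)).2.2, hquad]
      simp only [Nat.cast_ofNat]
      ring!
    have horth := second_orthogonality t (1 : G)
    rw [if_neg (fun e => ht1 (by obtain ⟨c, hc⟩ := isConj_iff.1 e.symm; simpa using hc.symm)), B.sum_split,
      ← Finset.sum_sdiff hS5sub, ← hR,
      Finset.sum_congr rfl (g := fun i : Fin 4 => (((deg (B.c i : G → ℂ) : ℤ) * r i : ℤ) : ℂ))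
        (fun i _ => by rw [hr i, irr_apply_one_eq_deg, map_natCast]; push_cast; ring),
      Finset.sum_congr rfl (g := fun _ : IrrCharacter G =>
        (((deg (B.ν 1 : G → ℂ) : ℤ) * lin (v4 B.z) 1 (v4 r) : ℤ) : ℂ))
        (fun η hη => by
          rw [B.apply_exc hη hreg, hw, irr_apply_one_eq_deg, B.deg_exc_eq hη, map_natCast]; push_cast; ring),
      Finset.sum_congr rfl (s₁ := S5) (g := fun η : IrrCharacter G => (((deg (η : G → ℂ) : ℤ) * val η : ℤ) : ℂ))
        (fun η _ => by rw [hval η, irr_apply_one_eq_deg, map_natCast]; push_cast; ring),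
      Finset.sum_congr rfl (s₁ := R) (g := fun η : IrrCharacter G => ((55 * (m η * val η) : ℤ) : ℂ))
        (fun η hη => by
          rw [hval η, irr_apply_one_eq_deg, map_natCast, ← Int.cast_natCast (R := ℂ) (deg (η : G → ℂ)), hm55 η hη]
          push_cast; ring),
      Finset.sum_const, B.card_exc, oneG_apply, oneG_apply, map_one, mul_one] at horth
    rw [← Int.cast_sum, ← Int.cast_sum, ← Int.cast_sum, ← Finset.mul_sum, hsum5, Fin.sum_univ_four] at horth
    have horth' : 1 + ((deg (B.c 0 : G → ℂ) : ℤ) * r 0 + (deg (B.c 1 : G → ℂ) : ℤ) * r 1 +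
        (deg (B.c 2 : G → ℂ) : ℤ) * r 2 + (deg (B.c 3 : G → ℂ) : ℤ) * r 3) +
        2 * ((deg (B.ν 1 : G → ℂ) : ℤ) * lin (v4 B.z) 1 (v4 r)) + (55 * ∑ η ∈ R, m η * val η +
        ((if 11 ∣ deg (χ0 : G → ℂ) then (deg (χ0 : G → ℂ) : ℤ) * val χ0 else 0) +
        (if 11 ∣ deg (χ1 : G → ℂ) then (deg (χ1 : G → ℂ) : ℤ) * val χ1 else 0) +
        (if 11 ∣ deg (χ2 : G → ℂ) then (deg (χ2 : G → ℂ) : ℤ) * val χ2 else 0) +
        (if 11 ∣ deg (χ3 : G → ℂ) then (deg (χ3 : G → ℂ) : ℤ) * val χ3 else 0))) = 0 := by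
      apply Int.cast_injective (α := ℂ)
      rw [nsmul_eq_mul] at horth
      push_cast at horth ⊢
      exact horth
    have hdot : dotK (v4 B.z) (v4 r) S xs = -55 * ∑ η ∈ R, m η * val η := by
      rw [← (B.sign_eq 0).2, ← (B.sign_eq 1).2, ← (B.sign_eq 2).2, ← (B.sign_eq 3).2, ← B.exc_sign.2,
        ← (hfacts χ0 (by simp)).1, ← (hfacts χ1 (by simp)).1, ← (hfacts χ2 (by simp)).1,
        ← (hfacts χ3 (by simp)).1] at horth'
      simp only [Nat.dvd_iff_mod_eq_zero] at horth'
      simp only [dotK, exDot, S, xs, v4] at horth' ⊢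
      linarith
    have hCR : (C : ℤ) - blockSq (v4 B.z) 1 (v4 r) - exSum S xs = ∑ η ∈ R, val η * val η := by
      rw [hexs]; linarith
    simp only [good5, Bool.and_eq_true, Bool.or_eq_true, decide_eq_true_eq, beq_iff_eq, hCR]
    simp only [S, xs, ← hD]
    refine ⟨⟨⟨?_, hRnn⟩, by rw [hdot]; omega⟩, ?_⟩
    · rw [hv]
      rcases hn with e | e <;> rw [e] <;> simp
    · rw [hdot, show -55 * (∑ η ∈ R, m η * val η) / 55 = -(∑ η ∈ R, m η * val η) by omega, hq,
        Int.mul_ediv_cancel_left _ (by norm_num), neg_mul_neg, ← pow_two]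
      refine le_trans (Finset.sum_mul_sq_le_sq_mul_sq R m val) (le_of_eq ?_)
      congr 1 <;> exact Finset.sum_congr rfl fun η _ => pow_two _
  have hall := List.all_eq_true.1 (List.all_eq_true.1 hst xs (List.mem_filter.2 ⟨hx, hgood⟩)) _ hsev
  simp only [Bool.or_eq_true, Bool.and_eq_true, beq_iff_eq] at hall
  rcases hall with (⟨⟨hN, he6⟩, hC7⟩ | hsurv) | ⟨he3, hnone⟩
  · exfalso
    refine orbit_false B P7.L (opts7_six o7 ho7 hN he6) he6 ht ?_ hC128 hC5
    have : P7.L.C.y ∈ centralizer ({t} : Set G) := by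
      have h1 : g7 ∈ centralizer ({t} : Set G) := mem_centralizer_singleton_iff.2 (hg7t hC7)
      have h2 : P7.L.C.y ∈ zpowers g7 := hzp ▸ mem_zpowers _
      exact zpowers_le.2 h1 h2
    exact mem_centralizer_singleton_iff.1 this
  · simp only [survives, Bool.and_eq_true, beq_iff_eq, List.contains_iff_mem] at hsurv
    obtain ⟨⟨⟨⟨hz, -⟩, hc⟩, -⟩, hc7⟩ := hsurv
    rcases opts7_parity o7 ho7 with h | h
    · obtain ⟨u, hu2, huc⟩ := exists_invol_V P7.L.C (by rw [P7.L.card_V]; exact h)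
      exact absurd hz (B.bothZ_of_commute (Or.inr hz) P7.L.C.order hu2 huc).2
    subst h
    exact ⟨hz, ⟨P, hc⟩, P7, hc7⟩
  · exfalso
    have hlen7 : P7.slots.length = 3 := P7.slots_length.trans he3
    obtain ⟨ψ0, ψ1, ψ2, hL7⟩ : ∃ a b c, P7.slots = [a, b, c] := by
      rcases hs : P7.slots with _ | ⟨a, _ | ⟨b, _ | ⟨c, _ | ⟨d, l⟩⟩⟩⟩ <;> rw [hs] at hlen7 <;>
        simp at hlen7
      exact ⟨a, b, c, rfl⟩
    have hf7 : ∀ η ∈ [ψ0, ψ1, ψ2], (P7.sd η).natAbs = deg (η : G → ℂ) ∧ η ≠ oneG G ∧ P7.sd η ≠ 0 :=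
      fun η h => P7.slot_facts (hL7 ▸ h)
    rw [P7.slots_map, hL7] at hnone
    simp only [List.map_cons, List.map_nil, sevenNone, List.all_eq_true, Bool.or_eq_true, Bool.not_eq_true',
      bne_iff_ne, ne_eq] at hnone
    have hm7 : ∀ η ∈ [ψ0, ψ1, ψ2], val η ∈ vals7 (v4 B.z) (v4 r) S xs C (P7.sd η) := fun η hη => by
      obtain ⟨h1, h2, -⟩ := hf7 η hη
      rw [vals7, h1]
      split_ifs with hd
      · exact hrs η ((by norm_num : (11 : ℕ) ∣ 55).trans (Nat.dvd_of_mod_eq_zero hd))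
      · rw [List.mem_dedup]
        refine List.mem_map.2 ⟨(deg (η : G → ℂ), val η), List.mem_filter.2 ⟨?_, beq_self_eq_true _⟩, rfl⟩
        by_cases h11 : 11 ∣ deg (η : G → ℂ)
        · have h5 : ¬ 5 ∣ deg (η : G → ℂ) := fun h =>
            hd (Nat.mod_eq_zero_of_dvd (Nat.Coprime.mul_dvd_of_dvd_of_dvd (by norm_num : Nat.Coprime 5 11) h h11))
          have hmem := P.mem_slots rfl h5 h2 rfl
          rw [hL] at hmem
          refine List.mem_append.2 (Or.inr (List.mem_map.2 ⟨(P.sd η, val η), List.mem_filter.2 ⟨?_, ?_⟩, ?_⟩))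
          · simp only [S, xs, List.mem_cons, List.not_mem_nil, or_false] at hmem ⊢
            rcases hmem with rfl | rfl | rfl | rfl <;> simp
          · rw [beq_iff_eq, (hfacts η hmem).1]; exact Nat.mod_eq_zero_of_dvd h11
          · simp only [(hfacts η hmem).1]
        · exact List.mem_append.2 (Or.inl (hcol η h11 h2))
    have h := P7.slots_linear (t := t) (by rw [ht]; norm_num)
    rw [hL7] at h
    simp only [List.map_cons, List.map_nil, List.sum_cons, List.sum_nil, hval] at h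
    have hc : val ψ2 = -(sgn (P7.sd ψ2)) * (1 + (sgn (P7.sd ψ0) * val ψ0 + sgn (P7.sd ψ1) * val ψ1)) := by
      have hs : sgn (P7.sd ψ2) * sgn (P7.sd ψ2) = 1 := by rw [sgn]; split_ifs <;> norm_num
      have h' : 1 + (sgn (P7.sd ψ0) * val ψ0 + (sgn (P7.sd ψ1) * val ψ1 + (sgn (P7.sd ψ2) * val ψ2 + 0))) = 0 := by
        apply Int.cast_injective (α := ℂ)
        push_cast
        exact h
      linear_combination sgn (P7.sd ψ2) * h' - val ψ2 * hs
    have hkill := hnone _ (hm7 ψ0 (by simp)) _ (hm7 ψ1 (by simp))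
    rw [← hc] at hkill
    rcases hkill with hk | hk
    · rw [← Bool.not_eq_true, List.contains_iff_mem] at hk
      exact hk (hm7 ψ2 (by simp))
    · apply hk
      have hquad := P7.slots_quad (t := t) (by rw [ht]; norm_num)
      rw [Cfsg.Lib.M23Order.pairsY_eq_zero (by norm_num) (by rw [P7.L.index, he3]; norm_num) ht2, Nat.cast_zero,
        hL7] at hquad
      simp only [List.map_cons, List.map_nil, List.sum_cons, List.sum_nil, hval] at hquad
      have hne : (Nat.card {a : G // IsConj t a} : ℂ) * (Nat.card {a : G // IsConj t a} : ℂ) / (Nat.card G : ℂ) *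
          (o7.v : ℂ) ≠ 0 := by
        refine mul_ne_zero (div_ne_zero (mul_ne_zero ?_ ?_) (Nat.cast_ne_zero.2 Nat.card_pos.ne')) ?_ <;>
          refine Nat.cast_ne_zero.2 ?_
        · exact (card_isConj_pos t).ne'
        · exact (card_isConj_pos t).ne'
        · rw [← P7.L.card_V]; exact Nat.card_pos.ne'
      have h0 := (mul_eq_zero.1 hquad.symm).resolve_left hne
      have n0 := (hf7 ψ0 (by simp)).2.2
      have n1 := (hf7 ψ1 (by simp)).2.2
      have n2 := (hf7 ψ2 (by simp)).2.2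
      apply Int.cast_injective (α := ℂ)
      push_cast
      rw [Int.cast_div (by exact Dvd.intro (P7.sd ψ1 * P7.sd ψ2) (by ring)) (by exact_mod_cast n0),
        Int.cast_div (by exact Dvd.intro (P7.sd ψ0 * P7.sd ψ2) (by ring)) (by exact_mod_cast n1),
        Int.cast_div (by exact Dvd.intro_left (P7.sd ψ0 * P7.sd ψ1) rfl) (by exact_mod_cast n2)]
      push_cast
      linear_combination ((P7.sd ψ0 : ℂ) * (P7.sd ψ1 : ℂ) * (P7.sd ψ2 : ℂ)) * h0

end Blk

end Cfsg.Lib.M22Order
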