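import Cfsg.Agent.M22Order.TablesEven

/-!
The values of involutions and the indicators in the surviving case.
-/

set_option autoImplicit false
set_option maxRecDepth 100000

namespace Cfsg.Lib.M22Order

/-- a column of an involution is the known one -/
def invColOK (C : ℕ) (r : V4) : Bool :=
  [r.2.1, r.2.2.1].all fun v45 => (rs C 99).all fun v99 => (rs C 154).all fun v154 =>
    let v55 := 1 + v99 - v45
    let v231 := v154 + v99 - 1 - r.1
    let w := lin zSp 1 r
    let K : ℤ := ((443520 / C : ℕ) : ℤ)
    let n := K * K * (21 * 231 * 154 * 99 + r.1 * r.1 * (231 * 154 * 99) + v231 * v231 * (21 * 154 * 99) -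
      v154 * v154 * (21 * 231 * 99) - v99 * v99 * (21 * 231 * 154))
    let dot := 1 + 21 * r.1 + 45 * r.2.1 + 45 * r.2.2.1 + 210 * r.2.2.2 + 560 * w + 55 * v55 + 99 * v99 +
      154 * v154 + 231 * v231
    let v385 := -(dot / 385)
    !(rs C 55).contains v55 || !(rs C 231).contains v231 || !(n == 0 || n == 5 * 443520 * (21 * 231 * 154 * 99)) ||
      dot % 385 != 0 ||
      blockSq zSp 1 r + v55 * v55 + v99 * v99 + v154 * v154 + v231 * v231 + v385 * v385 != (C : ℤ) ||
      (C == 384 && r == (5, -3, -3, 2) && v55 == 7 && v99 == 3 && v154 == 10 && v231 == 7 && v385 == 1)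

theorem invCol_num : (rowsOf zSp).all (fun q => q.1 % 5 == 0 || invColOK q.1 q.2) = true := by decide +kernel

/-- the indicators give a number of roots divisible by three -/
def indOK : Bool :=
  let L : List ℤ := [-1, 0, 1]
  L.all fun a => L.all fun b => L.all fun c => L.all fun d => L.all fun f => L.all fun g => L.all fun h =>
    let s := 1 + 21 * a + 45 * b + 45 * c + 210 * d + 55 * f + 99 * g + 154 * h
    let v := 1 + 5 * a - 3 * b - 3 * c + 2 * d + 7 * f + 3 * g + 10 * h
    L.all fun i => L.all fun j =>
      s + 231 * i + 385 * j != 1156 || (v + 7 * i + j) % 3 == 0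

theorem ind_num : indOK = true := by decide +kernel

end Cfsg.Lib.M22Order
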