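import Cfsg.Agent.M22Order.Central
import Cfsg.Agent.M22Order.TablesCensus
import Cfsg.Agent.M22Nse.CensusBase
import Cfsg.Agent.M12Order.Census

/-!
The census of a simple group of order 443520.
-/

set_option autoImplicit false
set_option linter.unusedSectionVars false
set_option linter.style.haveILetI false
set_option maxRecDepth 100000
set_option maxHeartbeats 1600000

namespace Cfsg.Lib.M22Order

open Subgroup Cfsg.Lib.Chars Cfsg.Lib.Blocks Cfsg.Lib.Blocks.SmallOrder Cfsg.Lib.Blocks.SylowCount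
  Cfsg.Lib.Blocks.DegreeEquation
open Cfsg.Lib.Small.DegreeGraph (sdeg)
open scoped ComplexConjugate _root_.Classical

universe u

variable {G : Type u} [Group G] [Fintype G]

theorem exists_unique_deg {d : ℕ} (h : cnt G d = 1) :
    ∃ e : IrrCharacter G, deg (e : G → ℂ) = d ∧ ∀ χ : IrrCharacter G, deg (χ : G → ℂ) = d → χ = e := by
  obtain ⟨e, he⟩ := Finset.card_eq_one.1 h
  have hm : ∀ χ : IrrCharacter G, deg (χ : G → ℂ) = d ↔ χ = e := fun χ => by
    have := Finset.ext_iff.1 he χ
    simpa using this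
  exact ⟨e, (hm e).2 rfl, fun χ hχ => (hm χ).1 hχ⟩

variable [IsSimpleGroup G] [Fact (Nat.Prime 11)] [Fact (Nat.Prime 5)] [Fact (Nat.Prime 7)]

/-- the blocks in the surviving case -/
structure Special (G : Type u) [Group G] [Fintype G] [IsSimpleGroup G] [Fact (Nat.Prime 11)]
    [Fact (Nat.Prime 5)] [Fact (Nat.Prime 7)] where
  B : Blk G
  hz : v4 B.z = zSp
  P : PBlk G 5 o5last
  five : P.zs ∈ fiveSp
  Q : PBlk G 7 o7last
  seven : Q.zs = [-55, 99]
  e55 : IrrCharacter G
  e99 : IrrCharacter G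
  e154 : IrrCharacter G
  e231 : IrrCharacter G
  e385 : IrrCharacter G
  d55 : deg (e55 : G → ℂ) = 55 ∧ ∀ χ : IrrCharacter G, deg (χ : G → ℂ) = 55 → χ = e55
  d99 : deg (e99 : G → ℂ) = 99 ∧ ∀ χ : IrrCharacter G, deg (χ : G → ℂ) = 99 → χ = e99
  d154 : deg (e154 : G → ℂ) = 154 ∧ ∀ χ : IrrCharacter G, deg (χ : G → ℂ) = 154 → χ = e154
  d231 : deg (e231 : G → ℂ) = 231 ∧ ∀ χ : IrrCharacter G, deg (χ : G → ℂ) = 231 → χ = e231
  d385 : deg (e385 : G → ℂ) = 385
  rest_eq : B.rest = {e55, e99, e154, e231, e385}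

theorem exists_special (hG : Nat.card G = 443520) : Nonempty (Special G) := by
  obtain ⟨B⟩ := exists_blk hG
  obtain ⟨hz, ⟨P, h5⟩, Q, h7⟩ := B.central
  have hz' := hz
  simp only [v4, zSp, Prod.mk.injEq] at hz'
  obtain ⟨z0, z1, z2, z3⟩ := hz'
  have c5 : ∀ d, ¬ 5 ∣ d → cnt G d = (Lp 5 4 P.zs).count d := fun d hd => P.count_eq rfl hd
  have c7 : ∀ d, ¬ 7 ∣ d → cnt G d = (Lp 7 3 Q.zs).count d := fun d hd => Q.count_eq rfl hd
  have h55 : cnt G 55 = 1 := by rw [c7 55 (by norm_num), h7]; rfl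
  have h5' := h5
  simp only [fiveSp, List.mem_cons, List.not_mem_nil, or_false] at h5'
  have h99 : cnt G 99 = 1 := by
    rw [c5 99 (by norm_num)]; rcases h5' with e | e | e | e <;> rw [e] <;> rfl
  have h154 : cnt G 154 = 1 := by
    rw [c5 154 (by norm_num)]; rcases h5' with e | e | e | e <;> rw [e] <;> rfl
  have h231 : cnt G 231 = 1 := by
    rw [c5 231 (by norm_num)]; rcases h5' with e | e | e | e <;> rw [e] <;> rfl
  obtain ⟨a, da, ua⟩ := exists_unique_deg h55
  obtain ⟨b, db, ub⟩ := exists_unique_deg h99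
  obtain ⟨c, dc, uc⟩ := exists_unique_deg h154
  obtain ⟨d, dd, ud⟩ := exists_unique_deg h231
  have hpos : ∀ η : IrrCharacter G, 0 < cnt G (deg (η : G → ℂ)) := fun η =>
    Finset.card_pos.2 ⟨η, Finset.mem_filter.2 ⟨Finset.mem_univ _, rfl⟩⟩
  have hmem : ∀ η ∈ B.rest, η ∈ ({a, b, c, d} : Finset (IrrCharacter G)) ∨ 385 ∣ deg (η : G → ℂ) := fun η hη => by
    have h11 := B.rest_dvd_deg hη
    by_cases hd5 : 5 ∣ deg (η : G → ℂ)
    · by_cases hd7 : 7 ∣ deg (η : G → ℂ)
      · exact Or.inr (Nat.Coprime.mul_dvd_of_dvd_of_dvd (by norm_num : Nat.Coprime 35 11)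
          (Nat.Coprime.mul_dvd_of_dvd_of_dvd (by norm_num : Nat.Coprime 5 7) hd5 hd7) h11)
      · have h := hpos η
        rw [c7 _ hd7, h7, List.count_pos_iff] at h
        simp [Lp] at h
        refine Or.inl ?_
        rcases h with e | e | e | e
        · omega
        · simp [ua η e]
        · simp [ub η e]
        · omega
    · have h := hpos η
      rw [c5 _ hd5, List.count_pos_iff] at h
      refine Or.inl ?_
      rcases h5' with e | e | e | e <;> rw [e] at h <;> simp [Lp] at h <;>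
        rcases h with e | e | e | e | e <;>
        first | omega | simp [ub η e] | simp [uc η e] | simp [ud η e]
  have hnot : ∀ η : IrrCharacter G, 11 ∣ deg (η : G → ℂ) → η ∈ B.rest := fun η hd => by
    rw [Blk.rest, Finset.mem_sdiff]
    refine ⟨Finset.mem_univ _, fun hu => ?_⟩
    rcases Finset.mem_union.1 hu with h | h
    · rcases Finset.mem_insert.1 h with rfl | h
      · rw [deg_oneG] at hd; norm_num at hd
      · obtain ⟨i, -, rfl⟩ := Finset.mem_image.1 h
        rw [← (B.sign_eq i).2] at hd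
        fin_cases i <;> simp [z0, z1, z2, z3] at hd
    · rw [B.deg_exc_eq h, ← B.exc_sign.2, hz] at hd
      simp [aOf, zSp] at hd
  set T : Finset (IrrCharacter G) := {a, b, c, d} with hT
  have hsub : T ⊆ B.rest := fun η hη => hnot η (by
    simp only [hT, Finset.mem_insert, Finset.mem_singleton] at hη
    rcases hη with rfl | rfl | rfl | rfl <;> simp [da, db, dc, dd])
  have n1 : a ∉ ({b, c, d} : Finset (IrrCharacter G)) := by
    simp only [Finset.mem_insert, Finset.mem_singleton]; rintro (rfl | rfl | rfl) <;> omega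
  have n2 : b ∉ ({c, d} : Finset (IrrCharacter G)) := by
    simp only [Finset.mem_insert, Finset.mem_singleton]; rintro (rfl | rfl) <;> omega
  have n3 : c ∉ ({d} : Finset (IrrCharacter G)) := by
    simp only [Finset.mem_singleton]; rintro rfl; omega
  have hs := B.sum_deg
  rw [← Finset.sum_sdiff hsub, hT, Finset.sum_insert n1, Finset.sum_insert n2, Finset.sum_insert n3,
    Finset.sum_singleton, da, db, dc, dd, Fin.sum_univ_four, ← (B.sign_eq 0).2, ← (B.sign_eq 1).2,
    ← (B.sign_eq 2).2, ← (B.sign_eq 3).2, ← B.exc_sign.2, hz, z0, z1, z2, z3, ← hT] at hs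
  norm_num [aOf, zSp] at hs
  have hR : ∀ η ∈ B.rest \ T, 385 ∣ deg (η : G → ℂ) := fun η hη =>
    (hmem η (Finset.mem_sdiff.1 hη).1).resolve_left (Finset.mem_sdiff.1 hη).2
  have hge : ∀ η ∈ B.rest \ T, 148225 ≤ deg (η : G → ℂ) ^ 2 := fun η hη => by
    have := Nat.le_of_dvd (deg_irr_pos η) (hR η hη)
    calc 148225 = 385 ^ 2 := by norm_num
      _ ≤ _ := Nat.pow_le_pow_left this 2
  have hcard : (B.rest \ T).card = 1 := by
    have h1 := Finset.card_nsmul_le_sum _ _ _ hge
    rw [smul_eq_mul] at h1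
    rcases (B.rest \ T).eq_empty_or_nonempty with e | e
    · rw [e, Finset.sum_empty] at hs; omega
    · have := Finset.card_pos.2 e; omega
  obtain ⟨e, he⟩ := Finset.card_eq_one.1 hcard
  rw [he, Finset.sum_singleton] at hs
  have de : deg (e : G → ℂ) = 385 := by
    refine Nat.pow_left_injective (two_ne_zero) ?_
    simp only; omega
  refine ⟨⟨B, hz, P, h5, Q, h7, a, b, c, d, e, ⟨da, ua⟩, ⟨db, ub⟩, ⟨dc, uc⟩, ⟨dd, ud⟩, de, ?_⟩⟩
  rw [← Finset.sdiff_union_of_subset hsub, he, hT]
  ext η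
  simp only [Finset.mem_union, Finset.mem_insert, Finset.mem_singleton]
  tauto

namespace Special

variable (S : Special G)

theorem comps : S.B.z 0 = -21 ∧ S.B.z 1 = 45 ∧ S.B.z 2 = 45 ∧ S.B.z 3 = 210 ∧ deg (S.B.ν 1 : G → ℂ) = 280 := by
  have h := S.hz
  simp only [v4, zSp, Prod.mk.injEq] at h
  refine ⟨h.1, h.2.1, h.2.2.1, h.2.2.2, ?_⟩
  rw [← S.B.exc_sign.2, S.hz]; rfl

theorem degc (i : Fin 4) : deg (S.B.c i : G → ℂ) = ![21, 45, 45, 210] i := by
  obtain ⟨h0, h1, h2, h3, -⟩ := S.comps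
  rw [← (S.B.sign_eq i).2]
  fin_cases i <;> simp [h0, h1, h2, h3]

theorem sum_rest {R : Type*} [AddCommMonoid R] (f : IrrCharacter G → R) :
    ∑ η ∈ S.B.rest, f η = f S.e55 + f S.e99 + f S.e154 + f S.e231 + f S.e385 := by
  have a := S.d55.1
  have b := S.d99.1
  have c := S.d154.1
  have d := S.d231.1
  have e := S.d385
  have key : ∀ {x y : IrrCharacter G}, deg (x : G → ℂ) ≠ deg (y : G → ℂ) → x ≠ y := fun h e => h (e ▸ rfl)
  rw [S.rest_eq, Finset.sum_insert, Finset.sum_insert, Finset.sum_insert, Finset.sum_insert, Finset.sum_singleton]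
  · abel
  all_goals simp only [Finset.mem_insert, Finset.mem_singleton, not_or]
  · exact key (by omega)
  · exact ⟨key (by omega), key (by omega)⟩
  · exact ⟨key (by omega), key (by omega), key (by omega)⟩
  · exact ⟨key (by omega), key (by omega), key (by omega), key (by omega)⟩

theorem deg_twentyone {χ : IrrCharacter G} (h : deg (χ : G → ℂ) = 21) : χ = S.B.c 0 := by
  obtain ⟨e, -, u⟩ := exists_unique_deg (G := G) (d := 21) (by
    rw [S.B.cnt_eq (by norm_num), S.hz]; rfl)
  rw [u χ h, u (S.B.c 0) (S.degc 0)]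

/-- The values of the named characters on an involution. -/
theorem invol_column {t : G} (ht : orderOf t = 2) :
    Nat.card ↥(centralizer ({t} : Set G)) = 384 ∧
      (S.B.c 0 : G → ℂ) t = 5 ∧ (S.B.c 1 : G → ℂ) t = -3 ∧ (S.B.c 2 : G → ℂ) t = -3 ∧
      (S.B.c 3 : G → ℂ) t = 2 ∧ (S.B.ν 1 : G → ℂ) t = (lin zSp 1 (5, -3, -3, 2) : ℂ) ∧
      (S.e55 : G → ℂ) t = 7 ∧ (S.e99 : G → ℂ) t = 3 ∧ (S.e154 : G → ℂ) t = 10 ∧ (S.e231 : G → ℂ) t = 7 ∧
      (S.e385 : G → ℂ) t = 1 := by
  set C := Nat.card ↥(centralizer ({t} : Set G)) with hC_def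
  have hG := S.B.card
  have ht2 : t * t = 1 := by rw [← pow_two, ← ht, pow_orderOf_eq_one]
  have ht1 : t ≠ 1 := fun e => by rw [e, orderOf_one] at ht; norm_num at ht
  have hreg := Blk.regular_of_invol ht2
  have hC5 : C % 5 ≠ 0 := fun h => by
    obtain ⟨⟨g, hg⟩, hgo⟩ := exists_prime_orderOf_dvd_card' (G := ↥(centralizer ({t} : Set G))) 5
      (Nat.dvd_of_mod_eq_zero h)
    rw [Subgroup.orderOf_mk] at hgo
    have h2 := Cfsg.Lib.M12Nse.dvd_centralizer_orderOf (v := g) (a := t)
      (mem_centralizer_singleton_iff.1 hg).symm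
    rw [S.B.cent_five hgo, ht] at h2
    norm_num at h2
  obtain ⟨r, hr, hw, hrow⟩ := S.B.mem_rows ht2 ht1 (by rw [S.hz]; exact needSp)
  rw [S.hz] at hrow hw
  choose val hval hval4 hvallt using fun η : IrrCharacter G => S.B.invol_value η ht2 ht1
  have hmem : ∀ η ∈ S.B.rest, val η ∈ rs C (deg (η : G → ℂ)) := fun η hη => by
    have h1 := Blk.blockSq_add_le hreg hr {η} (Finset.singleton_subset_iff.2 hη) val fun a _ => hval a
    rw [Finset.sum_singleton] at h1
    have hb : 1 ≤ blockSq (v4 S.B.z) 1 (v4 r) := by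
      simp only [blockSq, v4]
      have := mul_self_nonneg (lin (S.B.z 0, S.B.z 1, S.B.z 2, S.B.z 3) 1 (r 0, r 1, r 2, r 3))
      have := mul_self_nonneg (r 0)
      have := mul_self_nonneg (r 1)
      have := mul_self_nonneg (r 2)
      have := mul_self_nonneg (r 3)
      linarith
    refine mem_rs (by linarith) (hval4 η) (hvallt η fun e => ?_) ?_
    · have := S.B.rest_dvd_deg hη
      rw [e, deg_oneG] at this; norm_num at this
    · have := dvd_class_mul (hval η)
      rwa [card_class_eq, hG] at this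
  have m55 : S.e55 ∈ S.B.rest := by rw [S.rest_eq]; simp
  have m99 : S.e99 ∈ S.B.rest := by rw [S.rest_eq]; simp
  have m154 : S.e154 ∈ S.B.rest := by rw [S.rest_eq]; simp
  have m231 : S.e231 ∈ S.B.rest := by rw [S.rest_eq]; simp
  -- the block at five
  set V : ℤ → ℤ := fun s => if s = -154 then val S.e154 else if s = -99 then val S.e99 else
    if s = 21 then r 0 else val S.e231 with hV
  have hfive : ∀ χ ∈ S.P.slots, (χ : G → ℂ) t = (V (S.P.sd χ) : ℂ) := fun χ hχ => by
    have hm : S.P.sd χ ∈ slotsOf S.P.zs := by rw [S.P.slots_map]; exact List.mem_map_of_mem hχ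
    have hd := (S.P.slot_facts hχ).1
    have hc : S.P.sd χ ∈ ([-154, -99, 21, 231] : List ℤ) := by
      have h5 := S.five
      simp only [fiveSp, List.mem_cons, List.not_mem_nil, or_false] at h5
      rcases h5 with e | e | e | e <;> rw [e] at hm <;> simp [slotsOf] at hm ⊢ <;> omega
    simp only [List.mem_cons, List.not_mem_nil, or_false] at hc
    rcases hc with e | e | e | e <;> rw [e] at hd ⊢ <;> simp only [hV] <;> norm_num at hd ⊢
    · rw [S.d154.2 χ hd.symm]; exact hval _
    · rw [S.d99.2 χ hd.symm]; exact hval _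
    · rw [S.deg_twentyone hd.symm]; exact hr 0
    · rw [S.d231.2 χ hd.symm]; exact hval _
  have hlin : val S.e231 = val S.e154 + val S.e99 - 1 - r 0 := by
    have h := S.P.slots_linear (t := t) (by rw [ht]; norm_num)
    rw [List.map_congr_left (g := fun χ : IrrCharacter G => ((fun s : ℤ => ((sgn s * V s : ℤ) : ℂ)) (S.P.sd χ)))
      (fun χ hχ => by rw [hfive χ hχ]; push_cast; rfl)] at h
    rw [show (S.P.slots.map fun χ : IrrCharacter G => ((fun s : ℤ => ((sgn s * V s : ℤ) : ℂ)) (S.P.sd χ))) =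
      (S.P.slots.map S.P.sd).map (fun s : ℤ => ((sgn s * V s : ℤ) : ℂ)) by rw [List.map_map]; rfl, ← S.P.slots_map] at h
    have h5 := S.five
    simp only [fiveSp, List.mem_cons, List.not_mem_nil, or_false] at h5
    apply Int.cast_injective (α := ℂ)
    rcases h5 with e | e | e | e <;> rw [e] at h <;> simp [slotsOf, hV, sgn] at h <;> push_cast <;>
      linear_combination h
  have hquad : ((443520 / C : ℕ) : ℤ) * ((443520 / C : ℕ) : ℤ) * (21 * 231 * 154 * 99 +
      r 0 * r 0 * (231 * 154 * 99) + val S.e231 * val S.e231 * (21 * 154 * 99) -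
      val S.e154 * val S.e154 * (21 * 231 * 99) - val S.e99 * val S.e99 * (21 * 231 * 154)) =
      (Cfsg.Lib.M23Order.pairsY S.P.L.C t : ℤ) * 443520 * (21 * 231 * 154 * 99) := by
    have h := S.P.slots_quad (t := t) (by rw [ht]; norm_num)
    rw [card_class_eq, hG, ← hC_def] at h
    rw [List.map_congr_left (g := fun χ : IrrCharacter G => ((fun s : ℤ => ((V s * V s : ℤ) : ℂ) / (s : ℂ)) (S.P.sd χ)))
      (fun χ hχ => by rw [hfive χ hχ]; push_cast; rfl)] at h
    rw [show (S.P.slots.map fun χ : IrrCharacter G => ((fun s : ℤ => ((V s * V s : ℤ) : ℂ) / (s : ℂ)) (S.P.sd χ))) =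
      (S.P.slots.map S.P.sd).map (fun s : ℤ => ((V s * V s : ℤ) : ℂ) / (s : ℂ)) by rw [List.map_map]; rfl,
      ← S.P.slots_map] at h
    generalize 443520 / C = Kq at h ⊢
    have h5 := S.five
    simp only [fiveSp, List.mem_cons, List.not_mem_nil, or_false] at h5
    apply Int.cast_injective (α := ℂ)
    rcases h5 with e | e | e | e <;> rw [e] at h <;> simp [slotsOf, hV, o5last] at h <;> push_cast <;>
      linear_combination -(443520 * (21 * 231 * 154 * 99) : ℂ) * h
  have hn : Cfsg.Lib.M23Order.pairsY S.P.L.C t = 0 ∨ Cfsg.Lib.M23Order.pairsY S.P.L.C t = 5 := by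
    have hle := Cfsg.Lib.M23Order.pairsY_le (C := S.P.L.C) ht2
    rw [S.P.L.card_V] at hle
    have hdvd : 5 ∣ Cfsg.Lib.M23Order.pairsY S.P.L.C t := by
      refine Finset.dvd_sum fun v _ => ?_
      have hv1 : v = 1 := (Nat.card_eq_one_iff_unique.1 (S.P.L.card_V.trans rfl)).1.elim v 1
      rw [hv1, S.P.L.C.el_one_right, S.P.L.C.yP_one]
      have hcy : Nat.card ↥(centralizer ({S.P.L.C.y} : Set G)) = 5 :=
        S.P.L.C.card_Cs.trans (by rw [S.P.L.card_V]; rfl)
      refine (dvd_of_eq hcy.symm).trans (dvd_card_pairs (a := t) (b := t) fun g hg a ha hga => ?_)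
      by_contra hg1
      have ho : orderOf g = 5 := by
        have hd : orderOf g ∣ 5 := hcy ▸ Subgroup.orderOf_dvd_natCard _ (mem_centralizer_singleton_iff.2 hg)
        rcases (Nat.dvd_prime (by norm_num : Nat.Prime 5)).1 hd with e | e
        · exact absurd (orderOf_eq_one_iff.1 e) hg1
        · exact e
      have h5 := Cfsg.Lib.M12Nse.dvd_centralizer_orderOf hga
      rw [ho, Cfsg.Lib.M12Nse.conj_card_centralizer ha] at h5
      exact hC5 (Nat.mod_eq_zero_of_dvd h5)
    simp only [o5last] at hle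
    omega
  -- the block at seven
  have h45 : val (S.Q.ν 1) = r 1 ∨ val (S.Q.ν 1) = r 2 := by
    have hd : deg (S.Q.ν 1 : G → ℂ) = 45 := by rw [← S.Q.exc_sign.2, S.seven]; rfl
    have h := Blk.mem_colPairs hreg hr (χ := S.Q.ν 1) (by rw [hd]; norm_num)
      (fun e => S.Q.not_one ⟨1, e⟩) (hval _)
    rw [hd, S.hz] at h
    simp [colPairs, zSp, aOf, v4] at h
    exact h
  have hlin7 : val S.e55 = 1 + val S.e99 - val (S.Q.ν 1) := by
    have h := S.Q.slots_linear (t := t) (by rw [ht]; norm_num)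
    have hz7 : S.Q.cs.map (sdeg S.Q.L.C) = [-55, 99] := S.seven
    rw [PBlk.slots, List.map_append, List.sum_append,
      List.map_congr_left (g := fun χ : IrrCharacter G =>
        ((fun s : ℤ => ((sgn s * if s = -55 then val S.e55 else val S.e99 : ℤ) : ℂ)) (sdeg S.Q.L.C χ)))
        (fun χ hχ => by
          have hm : sdeg S.Q.L.C χ ∈ ([-55, 99] : List ℤ) := hz7 ▸ List.mem_map_of_mem hχ
          have hd := (S.Q.sign_eq hχ).2
          rw [PBlk.sd, if_pos hχ]
          simp only [List.mem_cons, List.not_mem_nil, or_false] at hm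
          rcases hm with e | e <;> rw [e] at hd ⊢ <;> norm_num at hd ⊢
          · rw [S.d55.2 χ hd.symm, hval]; simp
          · rw [S.d99.2 χ hd.symm, hval]; simp)] at h
    rw [show (S.Q.cs.map fun χ : IrrCharacter G =>
        ((fun s : ℤ => ((sgn s * if s = -55 then val S.e55 else val S.e99 : ℤ) : ℂ)) (sdeg S.Q.L.C χ))) =
      (S.Q.cs.map (sdeg S.Q.L.C)).map (fun s : ℤ => ((sgn s * if s = -55 then val S.e55 else val S.e99 : ℤ) : ℂ))
      by rw [List.map_map]; rfl, hz7] at h
    have hs : sgn (S.Q.sd (S.Q.ν 1)) = -1 := by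
      rw [PBlk.sd, if_neg S.Q.exc_not_cs, ← S.Q.exc_rel, S.seven]; rfl
    simp only [List.map_cons, List.map_nil, hs, hval] at h
    simp [sgn] at h
    apply Int.cast_injective (α := ℂ)
    push_cast
    linear_combination -h
  -- orthogonality and the sum of the squares
  obtain ⟨k0, k1, k2, k3, kν⟩ := S.comps
  have horth : 1 + 21 * r 0 + 45 * r 1 + 45 * r 2 + 210 * r 3 + 560 * lin zSp 1 (v4 r) + 55 * val S.e55 +
      99 * val S.e99 + 154 * val S.e154 + 231 * val S.e231 + 385 * val S.e385 = 0 := by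
    have h := second_orthogonality t (1 : G)
    rw [if_neg (fun e => ht1 (by obtain ⟨c, hc⟩ := isConj_iff.1 e.symm; simpa using hc.symm)), S.B.sum_split,
      Fin.sum_univ_four, S.sum_rest,
      Finset.sum_congr rfl (g := fun _ : IrrCharacter G => (lin zSp 1 (v4 r) : ℂ) * 280)
        (fun η hη => by
          rw [S.B.apply_exc hη hreg, hw, irr_apply_one_eq_deg, S.B.deg_exc_eq hη, kν, map_natCast]; norm_num),
      Finset.sum_const, S.B.card_exc, Blk.oneG_apply, Blk.oneG_apply, map_one, mul_one] at h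
    have hcv : ∀ i, val (S.B.c i) = r i := fun i => Int.cast_injective (α := ℂ) ((hval _).symm.trans (hr i))
    simp only [hval, hcv, irr_apply_one_eq_deg, map_natCast, S.degc, S.d55.1, S.d99.1, S.d154.1, S.d231.1,
      S.d385, nsmul_eq_mul] at h
    simp at h
    apply Int.cast_injective (α := ℂ)
    push_cast
    linear_combination h
  have hsq : blockSq zSp 1 (v4 r) + val S.e55 * val S.e55 + val S.e99 * val S.e99 + val S.e154 * val S.e154 +
      val S.e231 * val S.e231 + val S.e385 * val S.e385 = (C : ℤ) := by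
    have h := Blk.sq_split hreg hr
    rw [S.hz, S.sum_rest, hval, hval, hval, hval, hval] at h
    simp only [Complex.normSq_intCast] at h
    apply Int.cast_injective (α := ℝ)
    push_cast
    linarith
  have hk := List.all_eq_true.1 invCol_num _ hrow
  rw [Bool.or_eq_true, beq_iff_eq] at hk
  replace hk := hk.resolve_left hC5
  simp only [invColOK, List.all_eq_true, Bool.or_eq_true, Bool.and_eq_true, beq_iff_eq, bne_iff_ne, ne_eq,
    Bool.not_eq_true', Bool.or_eq_false_iff] at hk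
  have hin : val (S.Q.ν 1) ∈ [(v4 r).2.1, (v4 r).2.2.1] := by
    simp only [v4, List.mem_cons, List.not_mem_nil, or_false]; exact h45
  have hk2 := hk _ hin _ (S.d99.1 ▸ hmem _ m99) _ (S.d154.1 ▸ hmem _ m154)
  have e0 : (v4 r).1 = r 0 := rfl
  rw [e0, ← hlin, ← hlin7] at hk2
  have e385 : -((1 + 21 * r 0 + 45 * (v4 r).2.1 + 45 * (v4 r).2.2.1 + 210 * (v4 r).2.2.2 +
      560 * lin zSp 1 (v4 r) + 55 * val S.e55 + 99 * val S.e99 + 154 * val S.e154 + 231 * val S.e231) / 385) =
        val S.e385 := by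
    simp only [v4]
    simp only [v4] at horth
    omega
  rw [e385] at hk2
  rcases hk2 with ((((h | h) | h) | h) | h) | h
  · exact absurd (List.contains_iff_mem.2 (S.d55.1 ▸ hmem _ m55)) (by rw [h]; decide)
  · exact absurd (List.contains_iff_mem.2 (S.d231.1 ▸ hmem _ m231)) (by rw [h]; decide)
  · refine absurd h.1 ?_
    intro hne
    obtain ⟨h1, h2⟩ := h
    rcases hn with e | e <;> rw [e] at hquad
    · rw [Nat.cast_zero, zero_mul, zero_mul] at hquad
      exact (beq_eq_false_iff_ne.1 h1) hquad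
    · rw [Nat.cast_ofNat] at hquad
      exact (beq_eq_false_iff_ne.1 h2) hquad
  · exact absurd h (by simp only [v4]; simp only [v4] at horth; omega)
  · exact absurd hsq h
  obtain ⟨⟨⟨⟨⟨⟨hC, hrr⟩, a⟩, b⟩, c⟩, d⟩, e⟩ := h
  simp only [v4, Prod.mk.injEq] at hrr
  obtain ⟨r0, r1, r2, r3⟩ := hrr
  refine ⟨hC, by rw [hr, r0]; norm_num, by rw [hr, r1]; norm_num, by rw [hr, r2]; norm_num,
    by rw [hr, r3]; norm_num, by rw [hw, show v4 r = (5, -3, -3, 2) by simp [v4, r0, r1, r2, r3]],
    by rw [hval, a]; norm_num, by rw [hval, b]; norm_num, by rw [hval, c]; norm_num, by rw [hval, d]; norm_num,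
    by rw [hval, e]; norm_num⟩

end Special

end Cfsg.Lib.M22Order
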