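import Cfsg.Agent.M22Order.Tables
import Cfsg.Agent.Small.DegreeGraph.Core
import Cfsg.Agent.Small.Toolkit
import Cfsg.Agent.Recognition.MathieuEleven.Basic
import Cfsg.Agent.M12Nse.Facts

/-!
The Sylow subgroups of orders five, seven and eleven in a simple group of order 443520: possible numbers.
-/

set_option autoImplicit false
set_option linter.unusedSectionVars false
set_option linter.style.haveILetI false
set_option maxRecDepth 100000

namespace Cfsg.Lib.M22Order

open Subgroup Cfsg.Lib.Chars Cfsg.Lib.Blocks Cfsg.Lib.Blocks.SmallOrder Cfsg.Lib.Blocks.SylowCount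
  Cfsg.Lib.Blocks.DegreeEquation

universe u

theorem inertia_num : ∀ e ∈ Nat.divisors 10, 2 ≤ e → e ∣ 280 → e ≠ 10 →
    ((sums (terms 11 (144 * e) 443520 (280 / e) 666 1) (e - 1)).all fun s =>
      !(terms 11 (144 * e) 443520 (280 / e) 666 (e : ℤ)).contains (1 + s)) = true := by decide +kernel

theorem norm_seven_num : ∀ n ∈ ([120, 330, 960, 2640, 21120] : List ℕ), ∀ k ∈ List.range 145,
    n * (3080 * k) ≠ 443520 := by decide +kernel

variable {G : Type u} [Group G] [Finite G] [IsSimpleGroup G] (hG : Nat.card G = 443520)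

include hG

theorem not_comm : ¬ ∀ a b : G, a * b = b * a :=
  Cfsg.Lib.Small.not_comm_of_isSimple (by rw [hG]; norm_num)

theorem exists_ab {p m a b : ℕ} [Fact p.Prime] (P : Sylow p G) (hm : 443520 = p * m) (hab : m = a * b)
    (hpm : ¬ p ∣ m) :
    ∃ x ∈ Nat.divisors a, ∃ y ∈ Nat.divisors b, x * y = Nat.card (Sylow p G) ∧ x * y % p = 1 ∧
      checkN p m 666 (x * y) = false := by
  obtain ⟨h1, h2⟩ := Cfsg.Lib.Small.sylow_facts P (a := 1) (m := m) (by rw [hG, hm, pow_one]) hpm
  obtain ⟨x, y, hx, hy, e⟩ := Nat.dvd_mul.1 (hab ▸ h1)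
  have hm0 : m ≠ 0 := fun e0 => by rw [e0] at hm; omega
  have ha : a ≠ 0 := fun e0 => hm0 (by rw [hab, e0, zero_mul])
  have hb : b ≠ 0 := fun e0 => hm0 (by rw [hab, e0, mul_zero])
  refine ⟨x, Nat.mem_divisors.2 ⟨hx, ha⟩, y, Nat.mem_divisors.2 ⟨hy, hb⟩, e, e ▸ h2, ?_⟩
  have := Fintype.ofFinite G
  rw [e]
  exact checkN_card_sylow (Cfsg.Lib.Small.DegreeGraph.not_isCyclic_of_not_comm (not_comm hG)) p m 666
    (by rw [hG, hm]) hpm (by rw [← hm]; norm_num)

theorem sylow_seven_cases [Fact (Nat.Prime 7)] (P : Sylow 7 G) :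
    Nat.card (Sylow 7 G) ∈ ([120, 330, 960, 2640, 21120] : List ℕ) := by
  obtain ⟨x, hx, y, hy, e, h1, hc⟩ := exists_ab hG P (m := 63360) (a := 1152) (b := 55) (by norm_num)
    (by norm_num) (by norm_num)
  rw [← e]
  exact (sylow_seven_num x hx y hy h1).resolve_right (by rw [hc]; decide)

theorem sylow_five_cases [Fact (Nat.Prime 5)] (P : Sylow 5 G) :
    Nat.card (Sylow 5 G) ∈ ([66, 176, 231, 336, 396, 616, 1056, 1386, 2016, 3696, 6336, 22176] : List ℕ) := by
  obtain ⟨x, hx, y, hy, e, h1, hc⟩ := exists_ab hG P (m := 88704) (a := 1152) (b := 77) (by norm_num)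
    (by norm_num) (by norm_num)
  rw [← e]
  exact (sylow_five_num x hx y hy h1).resolve_right (by rw [hc]; decide)

theorem card_sylow_eq {p m : ℕ} [Fact p.Prime] (hm : 443520 = p * m) (hpm : ¬ p ∣ m) (P : Sylow p G) :
    Nat.card ↥(P : Subgroup G) = p := by
  simpa using Cfsg.Lib.Small.card_sylow_of_factor P (a := 1) (m := m) (by rw [hG, hm, pow_one]) hpm

local instance fact_eleven : Fact (Nat.Prime 11) := ⟨by norm_num⟩

theorem card_sylow_eleven : Nat.card (Sylow 11 G) = 8064 := by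
  classical
  have := Fintype.ofFinite G
  have hnc := not_comm hG
  obtain ⟨P⟩ : Nonempty (Sylow 11 G) := inferInstance
  obtain ⟨x, hx, y, hy, exy, h1, hc⟩ := exists_ab hG P (m := 40320) (a := 1152) (b := 35) (by norm_num)
    (by norm_num) (by norm_num)
  have hmem := (sylow_eleven_num x hx y hy h1).resolve_right (by rw [hc]; decide)
  rw [exy] at hmem
  simp only [List.mem_cons, List.not_mem_nil, or_false] at hmem
  refine hmem.resolve_left fun h144 => ?_
  haveI : Fact (Nat.Prime 7) := ⟨by norm_num⟩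
  obtain ⟨C, hC, hP, hidx, hm, he2⟩ :=
    Cfsg.Lib.Small.DegreeGraph.exists_core hnc (m := 40320) (by rw [hG]) (by norm_num) P
  rw [hidx, h144] at hm
  have hev : eC C * Nat.card C.V = 280 := by omega
  have hed : eC C ∈ Nat.divisors 10 := Nat.mem_divisors.2 ⟨eC_dvd C, by norm_num⟩
  have he : eC C = 10 := by
    by_contra hne
    have h := inertia_num _ hed he2 ⟨_, hev.symm⟩ hne
    obtain ⟨M, hM⟩ := exists_isPModular (Fact.out : Nat.Prime 11)
    obtain ⟨ν, δ, hD⟩ := C.exists_orbitData hM C.oneV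
    obtain ⟨a, l, hlen, hsum, ha, hl⟩ := degree_equation hC hM hD
    rw [hG, hidx, h144] at ha hl
    have hv : 280 / eC C = Nat.card C.V := by
      rw [← hev, Nat.mul_div_cancel_left _ (by omega)]
    rw [hv, List.all_eq_true] at h
    have h3 := h l.sum (by
      rw [show eC C - 1 = l.length by omega]
      exact sum_mem_sums l fun z hz => mem_terms (by norm_num) (hl z hz).1 (hl z hz).2)
    simp only [Bool.not_eq_true', hsum] at h3
    rw [List.contains_iff_mem.2 (mem_terms (by norm_num) ha.1 ha.2)] at h3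
    exact Bool.noConfusion h3
  have hV : Nat.card C.V = 28 := by rw [he] at hev; omega
  -- the Sylow 7-subgroup of the complement
  have hS1 : Nat.card (Sylow 7 C.V) = 1 := by
    obtain ⟨S⟩ : Nonempty (Sylow 7 C.V) := inferInstance
    obtain ⟨s1, s2⟩ := Cfsg.Lib.Small.sylow_facts S (a := 1) (m := 4) (by rw [hV]; norm_num) (by norm_num)
    have := Nat.le_of_dvd (by norm_num) s1
    omega
  obtain ⟨w0, hw0⟩ := exists_prime_orderOf_dvd_card' (G := C.V) 7 (by rw [hV]; norm_num)
  set w : G := ((w0 : C.H) : G)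
  have hw : orderOf w = 7 := by
    rw [show w = ((w0 : C.H) : G) from rfl, Subgroup.orderOf_coe, Subgroup.orderOf_coe, hw0]
  obtain ⟨Q, hQ⟩ := Cfsg.Lib.M12Nse.exists_sylow_zpowers (card_sylow_eq hG (m := 63360) (by norm_num) (by norm_num))
    hw
  have hnorm : normalizer (zpowers C.y : Set G) ≤ normalizer (zpowers w : Set G) := by
    intro g hg
    obtain ⟨i, k, hk, rfl⟩ := C.decomp g hg
    refine mul_mem ?_ ?_
    · refine centralizer_le_normalizer _ (mem_centralizer_iff.2 fun b hb => ?_)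
      obtain ⟨n, rfl⟩ := mem_zpowers_iff.1 hb
      have h := C.commute_V w0 1
      rw [C.yP_one] at h
      exact ((h.zpow_left n).pow_right i).eq
    · refine Cfsg.Lib.MathieuEleven.mem_normalizer_zpowers ?_
      have hmem : (⟨k, hk⟩ : C.H) * (w0 : C.H) * (⟨k, hk⟩ : C.H)⁻¹ ∈ C.V :=
        (MonoidHom.normal_ker C.act).conj_mem _ w0.2 _
      haveI : Subsingleton (Sylow 7 C.V) := (Nat.card_eq_one_iff_unique.1 hS1).1
      have hord : orderOf (⟨_, hmem⟩ : C.V) = 7 := by
        rw [← Subgroup.orderOf_coe]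
        show orderOf (MulAut.conj (⟨k, hk⟩ : C.H) (w0 : C.H)) = 7
        rw [MulEquiv.orderOf_eq, Subgroup.orderOf_coe, hw0]
      have hin : (⟨_, hmem⟩ : C.V) ∈ zpowers w0 := by
        have hS3 : ∀ R : Sylow 7 C.V, Nat.card ↥(R : Subgroup C.V) = 7 := fun R => by
          simpa using Cfsg.Lib.Small.card_sylow_of_factor R (a := 1) (m := 4) (by rw [hV]; norm_num) (by norm_num)
        obtain ⟨R, hR⟩ := (IsPGroup.of_card (p := 7) (n := 1) (by rw [Nat.card_zpowers, hw0, pow_one]) :
          IsPGroup 7 ↥(zpowers w0)).exists_le_sylow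
        obtain ⟨R', hR'⟩ := (IsPGroup.of_card (p := 7) (n := 1) (by rw [Nat.card_zpowers, hord, pow_one]) :
          IsPGroup 7 ↥(zpowers (⟨_, hmem⟩ : C.V))).exists_le_sylow
        rw [Subsingleton.elim R' R] at hR'
        have := (Subgroup.eq_of_le_of_card_ge hR (by rw [hS3, Nat.card_zpowers, hw0]))
        rw [← this] at hR'
        exact hR' (mem_zpowers _)
      obtain ⟨n, hn⟩ := mem_zpowers_iff.1 hin
      refine mem_zpowers_iff.2 ⟨n, ?_⟩
      have := congrArg (fun v : C.V => ((v : C.H) : G)) hn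
      simpa [w] using this
  have hN : Nat.card ↥(normalizer (zpowers C.y : Set G)) = 3080 := by
    rw [Cfsg.Lib.Blocks.HalfDegree.card_normalizer_eq, card_H C, hev]
  have hdvd := Subgroup.card_dvd_of_le hnorm
  rw [hN] at hdvd
  obtain ⟨k, hk⟩ := hdvd
  have hmul := (normalizer (zpowers w : Set G)).card_mul_index
  have hidx7 : Nat.card (Sylow 7 G) = (normalizer (zpowers w : Set G)).index := by
    rw [Q.card_eq_index_normalizer]
    congr 2
    exact congrArg (fun H : Subgroup G => (H : Set G)) hQ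
  rw [hG, hk, ← hidx7] at hmul
  have hk144 : k ∈ List.range 145 := List.mem_range.2 (by
    have h1 : 3080 * k ≤ 443520 := by
      rw [← hmul]; exact Nat.le_mul_of_pos_right _ Nat.card_pos
    omega)
  exact norm_seven_num _ (sylow_seven_cases hG Q) k hk144 (by rw [← hmul]; ring)

/-- The centraliser of an element of order eleven. -/
theorem cent_eleven {x : G} (hx : orderOf x = 11) :
    Nat.card ↥(centralizer ({x} : Set G)) = 11 := by
  classical
  have := Fintype.ofFinite G
  obtain ⟨P, hP⟩ := Cfsg.Lib.M12Nse.exists_sylow_zpowers (card_sylow_eq hG (m := 40320) (by norm_num) (by norm_num)) hx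
  obtain ⟨C, hC, hy, hidx, hm, he2⟩ := Cfsg.Lib.Small.DegreeGraph.exists_core (not_comm hG) (m := 40320)
    (by rw [hG]) (by norm_num) P
  rw [hidx, card_sylow_eleven hG] at hm
  have hev : eC C * Nat.card C.V = 5 := by omega
  have hV : Nat.card C.V = 1 := by
    rcases (Nat.dvd_prime (by norm_num : Nat.Prime 5)).1 (show eC C ∣ 5 from ⟨_, hev.symm⟩) with e | e
    · omega
    · rw [e] at hev; omega
  have h1 := Cfsg.Lib.Small.DegreeGraph.card_centralizer_y C hV
  rw [← Subgroup.centralizer_closure, ← Subgroup.zpowers_eq_closure, hy, hP, Subgroup.zpowers_eq_closure,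
    Subgroup.centralizer_closure] at h1
  exact h1

/-- Nothing else centralises an element of order eleven. -/
theorem eleven_not_dvd {g : G} (hg : g ≠ 1) (hg11 : ¬ 11 ∣ orderOf g) :
    ¬ 11 ∣ Nat.card ↥(centralizer ({g} : Set G)) := fun hd => by
  obtain ⟨⟨x, hx⟩, hxo⟩ := exists_prime_orderOf_dvd_card' (G := ↥(centralizer ({g} : Set G))) 11 hd
  rw [← Subgroup.orderOf_coe] at hxo
  have hmem : g ∈ centralizer ({x} : Set G) :=
    mem_centralizer_singleton_iff.2 (mem_centralizer_singleton_iff.1 hx).symm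
  have h1 := Subgroup.orderOf_dvd_natCard _ hmem
  rw [cent_eleven hG hxo] at h1
  rcases (Nat.dvd_prime (by norm_num : Nat.Prime 11)).1 h1 with e | e
  · exact hg (orderOf_eq_one_iff.1 e)
  · exact hg11 (e ▸ dvd_rfl)

theorem centralizer_dvd {g : G} (hg : g ≠ 1) (hg11 : ¬ 11 ∣ orderOf g) :
    Nat.card ↥(centralizer ({g} : Set G)) ∣ 40320 := by
  have h := card_subgroup_dvd_card (centralizer ({g} : Set G))
  rw [hG, show (443520 : ℕ) = 11 * 40320 by norm_num] at h
  exact ((Nat.Prime.coprime_iff_not_dvd (by norm_num)).2 (eleven_not_dvd hG hg hg11)).symm.dvd_of_dvd_mul_left h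

theorem even_centralizer_mem {g : G} (hg : orderOf g = 2) :
    Nat.card ↥(centralizer ({g} : Set G)) ∈ evenDvs := by
  have hg1 : g ≠ 1 := fun e => by rw [e, orderOf_one] at hg; norm_num at hg
  have h := centralizer_dvd hG hg1 (by rw [hg]; norm_num)
  obtain ⟨a, b, ha, hb, e⟩ := Nat.dvd_mul.1 (show Nat.card ↥(centralizer ({g} : Set G)) ∣ 1152 * 35 from h)
  have h2 : 2 ∣ Nat.card ↥(centralizer ({g} : Set G)) := hg ▸ Subgroup.orderOf_dvd_natCard _
    (mem_centralizer_singleton_iff.2 rfl : g ∈ centralizer ({g} : Set G))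
  rw [← e] at h2 ⊢
  exact mem_evenDvs a (Nat.mem_divisors.2 ⟨ha, by norm_num⟩) b (Nat.mem_divisors.2 ⟨hb, by norm_num⟩)
    (Nat.mod_eq_zero_of_dvd h2)

end Cfsg.Lib.M22Order
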