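import Cfsg.Agent.M22Order.Rational
import Mathlib.GroupTheory.GroupAction.ConjAct

/-!
A subgroup of order five is its own centraliser.
-/

set_option autoImplicit false
set_option linter.unusedSectionVars false
set_option linter.style.haveILetI false
set_option maxRecDepth 100000
set_option maxHeartbeats 800000

namespace Cfsg.Lib.M22Order

open Subgroup Cfsg.Lib.Chars Cfsg.Lib.Blocks Cfsg.Lib.Blocks.SmallOrder Cfsg.Lib.Blocks.SylowCount
  Cfsg.Lib.Blocks.DegreeEquation
open Cfsg.Lib.Small.DegreeGraph (sdeg)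
open scoped _root_.Classical

universe u

theorem opts5_parity : ∀ o ∈ opts5, o.v = 1 ∨ o.v % 2 = 0 := by
  intro o ho
  simp only [opts5, List.mem_cons, List.not_mem_nil, or_false] at ho
  rcases ho with rfl | rfl | rfl | rfl | rfl | rfl | rfl | rfl | rfl | rfl <;> simp

theorem opts7_parity : ∀ o ∈ opts7, o.v % 2 = 0 ∨ o = o7last := by
  intro o ho
  simp only [opts7, List.mem_cons, List.not_mem_nil, or_false] at ho
  rcases ho with rfl | rfl | rfl | rfl | rfl | rfl | rfl <;> simp [o7last]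

theorem L11_num : zOpts.all (fun z => (L11 z).all fun d => d % 11 != 0) = true := by decide +kernel

theorem n320_num : ∀ C ∈ evenDvs, C % 320 = 0 → C / 320 % 5 = 1 →
    C = 320 ∨ C = 1920 ∨ C % 14 = 0 ∨ C % 128 = 0 := by decide +kernel

theorem opts_terms5 {o : Opt} (ho : o ∈ opts5) :
    (terms 5 (o.N * o.e) 443520 o.v 666 1).all (fun x => o.T.contains x) = true ∧
    (terms 5 (o.N * o.e) 443520 o.v 666 (o.e : ℤ)).all (fun x => o.A.contains x) = true :=
  Bool.and_eq_true_iff.1 (List.all_eq_true.1 opts5_num o ho)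

theorem opts_terms7 {o : Opt} (ho : o ∈ opts7) :
    (terms 7 (o.N * o.e) 443520 o.v 666 1).all (fun x => o.T.contains x) = true ∧
    (terms 7 (o.N * o.e) 443520 o.v 666 (o.e : ℤ)).all (fun x => o.A.contains x) = true :=
  Bool.and_eq_true_iff.1 (List.all_eq_true.1 opts7_num o ho)

variable {G : Type u} [Group G] [Fintype G]

theorem exists_invol_V {p : ℕ} [Fact p.Prime] (C : Cyc G p) (h : Nat.card C.V % 2 = 0) :
    ∃ v : C.V, orderOf ((v : C.H) : G) = 2 ∧ C.y * ((v : C.H) : G) = ((v : C.H) : G) * C.y := by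
  haveI : Fact (Nat.Prime 2) := ⟨Nat.prime_two⟩
  obtain ⟨v, hv⟩ := exists_prime_orderOf_dvd_card' (G := C.V) 2 (Nat.dvd_of_mod_eq_zero h)
  refine ⟨v, by rw [Subgroup.orderOf_coe, Subgroup.orderOf_coe, hv], ?_⟩
  have := (C.commute_V v 1).eq.symm
  rwa [C.yP_one] at this

/-- An involution of the kernel of the action in the centre of the complement, when this is a 2-group. -/
theorem exists_central_V {p : ℕ} [Fact p.Prime] (C : Cyc G p) {n : ℕ} (hH : Nat.card C.H = 2 ^ n)
    (hV : 2 ∣ Nat.card C.V) : ∃ v : C.V, orderOf ((v : C.H) : G) = 2 ∧ (v : C.H) ∈ Subgroup.center C.H := by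
  haveI : Fact (Nat.Prime 2) := ⟨Nat.prime_two⟩
  have hP : IsPGroup 2 (ConjAct ↥C.H) := IsPGroup.of_card (n := n) hH
  obtain ⟨w, hw, hne⟩ := hP.exists_fixed_point_of_prime_dvd_card_of_fixed_point ↥C.V hV
    (a := 1) (fun g => smul_one g)
  have hc : (w : C.H) ∈ Subgroup.center C.H := Subgroup.mem_center_iff.2 fun k => by
    have h := congrArg Subtype.val (hw (ConjAct.toConjAct k))
    rw [ConjAct.Subgroup.val_conj_smul, ConjAct.smul_def, ConjAct.ofConjAct_toConjAct] at h
    exact mul_inv_eq_iff_eq_mul.1 h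
  have h2 : 2 ∣ orderOf w := by
    have hd : orderOf w ∣ 2 ^ n := by
      rw [← hH, ← Subgroup.orderOf_coe]
      exact orderOf_dvd_natCard _
    obtain ⟨k, -, hk⟩ := (Nat.dvd_prime_pow Nat.prime_two).1 hd
    rw [hk]
    refine dvd_pow_self 2 fun e => ?_
    rw [e, pow_zero, orderOf_eq_one_iff] at hk
    exact hne hk.symm
  refine ⟨w ^ (orderOf w / 2), ?_, ?_⟩
  · rw [Subgroup.orderOf_coe, Subgroup.orderOf_coe, orderOf_pow_orderOf_div (orderOf_pos w).ne' h2]
  · rw [Subgroup.coe_pow]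
    exact pow_mem hc _

theorem exists_conj_pow {C : Cyc G 5} [Fact (Nat.Prime 5)] (he : eC C = 4) {k : ℕ} (hk : ¬ 5 ∣ k) :
    ∃ h : C.H, (h : G) * C.y * (h : G)⁻¹ = C.y ^ k := by
  have htop : C.act.range = ⊤ := by
    refine Subgroup.eq_top_of_card_eq _ ?_
    rw [Nat.card_eq_fintype_card (α := (ZMod 5)ˣ), ZMod.card_units]
    exact he
  have hk0 : (k : ZMod 5) ≠ 0 := by rwa [Ne, ZMod.natCast_eq_zero_iff]
  obtain ⟨h, hh⟩ := (htop ▸ Subgroup.mem_top _ : Units.mk0 (k : ZMod 5) hk0 ∈ C.act.range)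
  refine ⟨h, ?_⟩
  have := C.conj_yP h 1
  rw [C.yP_one, mul_one, hh, Units.val_mk0, C.yP_natCast] at this
  exact this

variable [IsSimpleGroup G] [Fact (Nat.Prime 11)] [Fact (Nat.Prime 5)]

namespace Blk

variable (B : Blk G)

theorem mem_ys (B : Blk G) {g : G} (h5 : 5 ∣ orderOf g) {χ : IrrCharacter G} {x t : ℤ} (hx : (χ : G → ℂ) g = (x : ℂ))
    (hd : deg (χ : G → ℂ) % 5 ≠ 0 → x * x < (Nat.card ↥(centralizer ({g} : Set G)) : ℤ))
    (ht : (5 : ℤ) ∣ x - t) :
    x ∈ ys (Nat.card ↥(centralizer ({g} : Set G))) t (deg (χ : G → ℂ)) := by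
  rw [ys]
  split_ifs with h
  · have h0 := eq_zero_of_defect_zero (p := 5) (n := 1) χ.2 (by norm_num) (by rw [B.card]; norm_num)
      (by rw [B.card]; norm_num) (by rw [pow_one]; exact Nat.dvd_of_mod_eq_zero h) h5
    rw [hx, Int.cast_eq_zero] at h0
    simp [h0]
  · have hlt := hd h
    have hb := lt_rbd hlt
    refine List.mem_filter.2 ⟨List.mem_map.2 ⟨(x + rbd (Nat.card ↥(centralizer ({g} : Set G)))).toNat,
      List.mem_range.2 (by omega), by omega⟩, ?_⟩
    simp only [Bool.and_eq_true, decide_eq_true_eq, beq_iff_eq]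
    refine ⟨⟨hlt, Int.emod_eq_zero_of_dvd ht⟩, Int.emod_eq_zero_of_dvd ?_⟩
    have := dvd_class_mul hx
    rwa [card_class_eq, B.card] at this

/-- A rational column at an element of order divisible by five. -/
theorem mem_yCol {g : G} (h11 : ¬ 11 ∣ orderOf g) (h5 : 5 ∣ orderOf g) {r : Fin 4 → ℤ}
    (hr : ∀ i, (B.c i : G → ℂ) g = (r i : ℂ)) {t : V4} {tw : ℤ}
    (h0 : (5 : ℤ) ∣ r 0 - t.1) (h1 : (5 : ℤ) ∣ r 1 - t.2.1) (h2 : (5 : ℤ) ∣ r 2 - t.2.2.1)
    (h3 : (5 : ℤ) ∣ r 3 - t.2.2.2) (hw : (5 : ℤ) ∣ lin (v4 B.z) 1 (v4 r) - tw) :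
    v4 r ∈ yCol (v4 B.z) (Nat.card ↥(centralizer ({g} : Set G))) t tw := by
  obtain ⟨hV, hνg⟩ := vals_one h11 hr
  have hg1 : g ≠ 1 := fun e => by rw [e, orderOf_one] at h5; norm_num at h5
  have hblock := hV.blockSq_le (fun h hh h' hh' _ => by rw [Finset.mem_singleton.1 hh, Finset.mem_singleton.1 hh'])
    (C := Nat.card ↥(centralizer ({g} : Set G))) (fun h hh => by rw [Finset.mem_singleton.1 hh])
  have hmult := hV.multOK (fun h hh => by rw [Finset.mem_singleton.1 hh]; exact hg1)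
    (d := Nat.card ↥(centralizer ({g} : Set G))) (fun h hh => by rw [Finset.mem_singleton.1 hh])
  rw [Finset.card_singleton, Nat.cast_one] at hblock hmult
  rw [one_mul] at hblock
  have hsum := hblock
  simp only [blockSq, v4] at hsum
  have hw0 := mul_self_nonneg (lin (B.z 0, B.z 1, B.z 2, B.z 3) 1 (r 0, r 1, r 2, r 3))
  have n0 := mul_self_nonneg (r 0)
  have n1 := mul_self_nonneg (r 1)
  have n2 := mul_self_nonneg (r 2)
  have n3 := mul_self_nonneg (r 3)
  have hm : ∀ (i : Fin 4) (ti : ℤ), (5 : ℤ) ∣ r i - ti →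
      r i ∈ ys (Nat.card ↥(centralizer ({g} : Set G))) ti (B.z i).natAbs := fun i ti hi => by
    rw [(B.sign_eq i).2]
    exact B.mem_ys h5 (hr i) (fun _ => by fin_cases i <;> simp only [Fin.zero_eta, Fin.mk_one, Fin.reduceFinMk] <;> linarith) hi
  refine mem_search (hm 0 _ h0) (hm 1 _ h1) (hm 2 _ h2) (hm 3 _ h3) (by simp only [v4]; linarith) ?_
  simp only [Bool.and_eq_true, Bool.or_eq_true, bne_iff_ne, ne_eq, beq_iff_eq, decide_eq_true_eq]
  refine ⟨⟨⟨⟨?_, Int.emod_eq_zero_of_dvd hw⟩, Int.emod_eq_zero_of_dvd ?_⟩, hblock⟩, hmult⟩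
  · rw [B.exc_sign.2]
    refine (em _).symm.imp id fun h => ?_
    have h0 := eq_zero_of_defect_zero (p := 5) (n := 1) (B.ν 1).2 (by norm_num) (by rw [B.card]; norm_num)
      (by rw [B.card]; norm_num) (by rw [pow_one]; exact Nat.dvd_of_mod_eq_zero h) h5
    exact Int.cast_eq_zero.1 (hνg.symm.trans h0)
  · have := dvd_class_mul hνg
    rw [card_class_eq, B.card] at this
    rw [B.exc_sign.2]; exact this

/-- The values of the block at five fit in the column. -/
theorem slots_ok {o : Opt} (P : PBlk G 5 o) (he : o.e = 4) {r : Fin 4 → ℤ}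
    (hr : ∀ i, (B.c i : G → ℂ) P.L.C.y = (r i : ℂ)) :
    slotsOK (v4 B.z) (v4 r) (Nat.card ↥(centralizer ({P.L.C.y} : Set G))) P.zs = true := by
  have h11 : ¬ 11 ∣ orderOf P.L.C.y := by rw [P.L.C.order]; norm_num
  have hexc : (Finset.univ.image P.ν).card = 1 := by rw [P.card_exc, he]
  have hνy : (P.ν 1 : G → ℂ) P.L.C.y = ((-P.δ : ℤ) : ℂ) := by
    have h := sum_exc P.modular P.data (i := (1 : ZMod 5)) one_ne_zero
    obtain ⟨a, ha⟩ := Finset.card_eq_one.1 hexc
    have h1 : P.ν 1 ∈ Finset.univ.image P.ν := Finset.mem_image_of_mem _ (Finset.mem_univ _)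
    rw [ha, Finset.mem_singleton] at h1
    rw [ha, Finset.sum_singleton, P.L.C.yP_one, ← h1] at h
    rw [h]; push_cast; rfl
  have hcy : ∀ χ ∈ P.cs, (χ : G → ℂ) P.L.C.y = (sgn (sdeg P.L.C χ) : ℂ) := fun χ hχ => by
    rw [← P.L.C.yP_one, apply_yP_ord P.modular P.data (mem_ordSet.1 (P.cs_mem hχ)).2 (mem_ordSet.1 (P.cs_mem hχ)).1
      one_ne_zero, (P.sign_eq hχ).1]
  set L := P.cs ++ [P.ν 1] with hL
  set val : IrrCharacter G → ℤ := fun χ => if χ ∈ P.cs then sgn (sdeg P.L.C χ) else -P.δ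
  have hνcs : P.ν 1 ∉ P.cs := fun h => (mem_ordSet.1 (P.cs_mem h)).2 ⟨1, rfl⟩
  set sd : IrrCharacter G → ℤ := fun χ => if χ ∈ P.cs then sdeg P.L.C χ else -(P.δ * (deg (P.ν 1 : G → ℂ) : ℤ))
  have hmap : slotsOf P.zs = L.map sd := by
    rw [slotsOf, P.exc_rel, hL, List.map_append]
    congr 1
    · exact List.map_congr_left fun χ hχ => (if_pos hχ).symm
    · simp only [List.map_cons, List.map_nil, sd, if_neg hνcs]
  have key : ∀ χ ∈ L, (sd χ).natAbs = deg (χ : G → ℂ) ∧ sgn (sd χ) = val χ ∧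
      (χ : G → ℂ) P.L.C.y = (val χ : ℂ) ∧ χ ≠ oneG G ∧ val χ * val χ = 1 := by
    intro χ hχ
    rcases List.mem_append.1 hχ with h | h
    · simp only [sd, val, if_pos h]
      refine ⟨(P.sign_eq h).2, trivial, hcy χ h, fun e => P.ne_one (e ▸ h), ?_⟩
      rw [sgn]; split_ifs <;> norm_num
    · rw [List.mem_singleton] at h
      subst h
      simp only [sd, val, if_neg hνcs]
      have hd := deg_irr_pos (P.ν 1)
      refine ⟨?_, ?_, hνy, fun e => P.not_one ⟨1, e⟩, ?_⟩
      · rcases P.data.sign with e | e <;> rw [e] <;> simp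
      · rcases P.data.sign with e | e <;> rw [e, sgn]
        · rw [if_neg (by omega)]
        · rw [if_pos (by omega)]; norm_num
      · rcases P.data.sign with e | e <;> rw [e] <;> norm_num
  simp only [slotsOK, Bool.and_eq_true, decide_eq_true_eq, List.all_eq_true, Bool.or_eq_true, beq_iff_eq,
    List.contains_iff_mem, hmap]
  refine ⟨fun s hs => ?_, ?_⟩
  · obtain ⟨χ, hχ, rfl⟩ := List.mem_map.1 hs
    obtain ⟨k1, k2, k3, k4, -⟩ := key χ hχ
    rw [k1, k2]
    by_cases hd : 11 ∣ deg (χ : G → ℂ)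
    · exact Or.inl (Nat.mod_eq_zero_of_dvd hd)
    · exact Or.inr (mem_colPairs h11 hr hd k4 k3)
  · set S := L.toFinset.filter fun χ : IrrCharacter G => 11 ∣ deg (χ : G → ℂ)
    have hnd : L.Nodup := List.Nodup.append P.nodup (List.nodup_singleton _) (by simpa using hνcs)
    have hlen : (((L.map sd).filter fun s => s.natAbs % 11 == 0).length) = S.card := by
      rw [List.filter_map, List.length_map,
        List.filter_congr (q := fun χ : IrrCharacter G => decide (11 ∣ deg (χ : G → ℂ))) (fun χ hχ => by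
          simp only [Function.comp, (key χ hχ).1, Nat.dvd_iff_mod_eq_zero, beq_eq_decide]),
        ← List.toFinset_card_of_nodup (hnd.filter _), List.toFinset_filter]
      simp only [decide_eq_true_eq, S]
    have hsub : S ⊆ B.rest := fun χ hχ => by
      obtain ⟨-, hd⟩ := Finset.mem_filter.1 hχ
      rw [rest, Finset.mem_sdiff]
      refine ⟨Finset.mem_univ _, fun hu => ?_⟩
      have hm : deg (χ : G → ℂ) ∈ L11 (v4 B.z) := by
        rcases Finset.mem_union.1 hu with h | h
        · rcases Finset.mem_insert.1 h with rfl | h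
          · simp [L11, deg_oneG]
          · obtain ⟨i, -, rfl⟩ := Finset.mem_image.1 h
            rw [← (B.sign_eq i).2]
            fin_cases i <;> simp [L11, v4]
        · rw [B.deg_exc_eq h, ← B.exc_sign.2]
          simp [L11, v4]
      have := List.all_eq_true.1 (List.all_eq_true.1 L11_num _ B.zv_mem) _ hm
      simp only [Nat.mod_eq_zero_of_dvd hd, bne_self_eq_false, Bool.false_eq_true] at this
    have h := blockSq_add_le h11 hr S hsub val fun χ hχ =>
      (key χ (List.mem_toFinset.1 (Finset.mem_filter.1 hχ).1)).2.2.1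
    rw [Finset.sum_congr rfl (g := fun _ => (1 : ℤ)) fun χ hχ =>
      (key χ (List.mem_toFinset.1 (Finset.mem_filter.1 hχ).1)).2.2.2.2, Finset.sum_const, nsmul_eq_mul, mul_one] at h
    rw [hlen]
    exact_mod_cast h

/-- The centraliser of an element of order five. -/
theorem cent_five (B : Blk G) {y₀ : G} (hy₀ : orderOf y₀ = 5) :
    Nat.card ↥(centralizer ({y₀} : Set G)) = 5 := by
  haveI : Fact (Nat.Prime 7) := ⟨by norm_num⟩
  obtain ⟨o, ho, L, hc, -⟩ := exists_five B.card hy₀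
  rw [hc]
  by_contra hne
  have hv : o.v % 2 = 0 := (opts5_parity o ho).resolve_left fun e => hne (by rw [e])
  have hv1 : o.v ≠ 1 := fun e => hne (by rw [e])
  obtain ⟨w, hw2, hwc⟩ := exists_invol_V L.C (by rw [L.card_V]; exact hv)
  have hz := B.fiveZ_of_commute L.C.order hw2 hwc
  obtain ⟨P, rfl⟩ := exists_pblk L
  have hc5 := P.mem_bopts B (by norm_num) (opts_terms5 ho).1 (opts_terms5 ho).2
  have heven : P.zs ∈ evenOpts (v4 B.z) o := by
    refine List.mem_filter.2 ⟨hc5, ?_⟩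
    rw [Bool.or_eq_true]
    by_cases hb : bothZ.contains (v4 B.z) = true
    · exact Or.inl hb
    refine Or.inr ?_
    obtain ⟨g, hg⟩ := exists_prime_orderOf_dvd_card' (G := G) 7 (by rw [B.card]; norm_num)
    obtain ⟨o7, ho7, L7, -, -⟩ := exists_seven B.card hg
    rcases opts7_parity o7 ho7 with h | h
    · obtain ⟨u, hu2, huc⟩ := exists_invol_V L7.C (by rw [L7.card_V]; exact h)
      exact absurd (B.bothZ_of_commute (Or.inl hz) L7.C.order hu2 huc).1 hb
    subst h
    obtain ⟨P7, -⟩ := exists_pblk L7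
    refine List.any_eq_true.2 ⟨P7.zs, P7.mem_bopts B (by norm_num) (opts_terms7 ho7).1 (opts_terms7 ho7).2, ?_⟩
    simp only [sub, List.all_eq_true, Bool.or_eq_true, beq_iff_eq, decide_eq_true_eq]
    intro d _
    by_cases h7 : 7 ∣ d
    · exact Or.inl (Nat.mod_eq_zero_of_dvd h7)
    · exact Or.inr ((P.count_le d).trans (P7.count_eq rfl h7).le)
  have hk := List.all_eq_true.1 (List.all_eq_true.1 even_num _ (List.contains_iff_mem.1 hz)) o ho
  rw [Bool.or_eq_true, beq_iff_eq] at hk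
  replace hk := hk.resolve_left hv1
  simp only [evenKill, Bool.or_eq_true, Bool.and_eq_true, List.isEmpty_iff, beq_iff_eq, List.all_eq_true,
    Bool.not_eq_true'] at hk
  obtain ⟨he, hcol⟩ := hk.resolve_left fun e => by rw [e] at heven; exact List.not_mem_nil heven
  -- the column of the element of order five
  set y := P.L.C.y with hy_def
  have hy : orderOf y = 5 := P.L.C.order
  have hCy : Nat.card ↥(centralizer ({y} : Set G)) = 5 * o.v := by rw [← P.L.card_V]; exact P.L.C.card_Cs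
  have he4 : eC P.L.C = 4 := P.L.index.trans he
  have hreg : ¬ 11 ∣ orderOf y := by rw [hy]; norm_num
  have hy1 : y ≠ 1 := fun e => by rw [e, orderOf_one] at hy; norm_num at hy
  haveI : NeZero 5 := ⟨by norm_num⟩
  have hint : ∀ χ : IrrCharacter G, ∃ r : ℤ, (χ : G → ℂ) y = (r : ℂ) := fun χ =>
    exists_int_of_conj hy.dvd (fun k hk => by
      obtain ⟨h, hh⟩ := exists_conj_pow he4 (k := k) fun hd => by
        have := Nat.eq_one_of_dvd_coprimes hk hd dvd_rfl
        norm_num at this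
      exact isConj_iff.2 ⟨h, hh⟩) χ
  choose r hr using fun i => hint (B.c i)
  have hdeg : ∀ (χ : IrrCharacter G) (x : ℤ), (χ : G → ℂ) y = (x : ℂ) → (5 : ℤ) ∣ x - (deg (χ : G → ℂ) : ℤ) :=
    fun χ x hx => dvd_value_sub (p := 5) (χ := χ) (x := y) (u := 1) hy (Commute.one_right y)
      (by rw [orderOf_one]; norm_num) (by rw [mul_one]; exact hx)
      (by rw [irr_apply_one_eq_deg]; push_cast; rfl)
  have hmem : v4 r ∈ yCol (v4 B.z) (5 * o.v) (absV (v4 B.z)) ((aOf (v4 B.z)).natAbs : ℤ) := by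
    rw [← hCy]
    refine B.mem_yCol hreg hy.symm.dvd hr ?_ ?_ ?_ ?_ ?_ <;> simp only [absV, v4]
    · rw [(B.sign_eq 0).2]; exact hdeg _ _ (hr 0)
    · rw [(B.sign_eq 1).2]; exact hdeg _ _ (hr 1)
    · rw [(B.sign_eq 2).2]; exact hdeg _ _ (hr 2)
    · rw [(B.sign_eq 3).2]; exact hdeg _ _ (hr 3)
    · have hA := B.exc_sign.2
      simp only [v4] at hA
      rw [hA]; exact hdeg _ _ (vals_one hreg hr).2
  have hc1 := hcol _ hmem
  have hq : qqOK (v4 B.z) (5 * o.v) (v4 r) (5 * o.v) (v4 r) = true := by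
    rw [← hCy]; exact qq_ok hreg hy1 hreg hr hr
  have hs : (evenOpts (v4 B.z) o).any (slotsOK (v4 B.z) (v4 r) (5 * o.v)) = true :=
    List.any_eq_true.2 ⟨P.zs, heven, by rw [← hCy]; exact B.slots_ok P he hr⟩
  simp only [hq, hs, Bool.true_eq_false, false_or] at hc1
  obtain ⟨⟨⟨-, hv16⟩, hnb⟩, hrows⟩ := hc1
  -- an involution in the centre of the complement
  have hH : Nat.card P.L.C.H = 2 ^ 6 := by rw [card_H, P.L.index, P.L.card_V, he, hv16]; norm_num
  obtain ⟨v, hv2, hvZ⟩ := exists_central_V P.L.C hH (by rw [P.L.card_V, hv16]; norm_num)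
  set t : G := ((v : P.L.C.H) : G) with ht_def
  have hty : y * t = t * y := by
    have := (P.L.C.commute_V v 1).eq.symm
    rwa [P.L.C.yP_one] at this
  have htH : ∀ h : P.L.C.H, (h : G) * t = t * (h : G) := fun h =>
    congrArg Subtype.val (Subgroup.mem_center_iff.1 hvZ h)
  have ht2 : t * t = 1 := by rw [← pow_two, ← hv2, pow_orderOf_eq_one]
  have ht1 : t ≠ 1 := fun e => by rw [e, orderOf_one] at hv2; norm_num at hv2
  have hN : normalizer (zpowers y : Set G) ≤ centralizer ({t} : Set G) := fun g hg => by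
    obtain ⟨i, k, hk, rfl⟩ := P.L.C.decomp g hg
    exact mem_centralizer_singleton_iff.2
      (((show Commute y t from hty).pow_left i).mul_left (htH ⟨k, hk⟩)).eq
  have hcN : Nat.card ↥(normalizer (zpowers y : Set G)) = 320 := by
    rw [Cfsg.Lib.Blocks.HalfDegree.card_normalizer_eq, hH]; norm_num
  have h320 : Nat.card ↥(centralizer ({t} : Set G)) % 320 = 0 :=
    Nat.mod_eq_zero_of_dvd (hcN ▸ Subgroup.card_dvd_of_le hN)
  have h5n : Nat.card ↥(centralizer ({t} : Set G)) / 320 % 5 = 1 := by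
    have h := sylow_index_in (p := 5) (m := 88704) (by rw [B.card]) (by norm_num) (centralizer ({t} : Set G)) hy
      (mem_centralizer_singleton_iff.2 hty)
    rwa [inf_eq_left.2 hN, hcN] at h
  have hneed : needC (v4 B.z) (Nat.card ↥(centralizer ({t} : Set G))) = true := by
    have hne : v4 B.z ≠ zSp := by
      simpa using List.all_eq_true.1 fiveZ_ne _ (List.contains_iff_mem.1 hz)
    rcases n320_num _ (even_centralizer_mem B.card hv2) h320 h5n with e | e | e | e
    · simp only [needC, if_neg hne, hz, e]; simp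
    · simp only [needC, if_neg hne, hz, e]; simp
    · exact need14 hne hz hnb e
    · exact need128 e
  obtain ⟨rt, hrt, hwt, hrow⟩ := B.mem_rows ht2 ht1 hneed
  have hk2 := hrows _ (List.mem_filter.2 ⟨hrow, by simp only [h320, h5n, beq_self_eq_true, Bool.and_self]⟩)
  have hregt := regular_of_invol ht2
  have hCy80 : Nat.card ↥(centralizer ({y} : Set G)) = 80 := by rw [hCy, hv16]
  have hq1 : qqOK (v4 B.z) (Nat.card ↥(centralizer ({t} : Set G))) (v4 rt) 80 (v4 r) = true := by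
    rw [← hCy80]; exact qq_ok hregt ht1 hreg hrt hr
  simp only [hq1, Bool.true_eq_false, false_or] at hk2
  -- the product
  have hcomm : Commute y t := hty
  have ho : orderOf (y * t) = 10 := by
    rw [hcomm.orderOf_mul_eq_mul_orderOf_of_coprime (by rw [hy, hv2]; norm_num), hy, hv2]
  have hregu : ¬ 11 ∣ orderOf (y * t) := by rw [ho]; norm_num
  haveI : NeZero 10 := ⟨by norm_num⟩
  have hintu : ∀ χ : IrrCharacter G, ∃ x : ℤ, (χ : G → ℂ) (y * t) = (x : ℂ) := fun χ =>
    exists_int_of_conj ho.dvd (fun k hk => by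
      obtain ⟨h, hh⟩ := exists_conj_pow he4 (k := k) fun hd => by
        have := Nat.eq_one_of_dvd_coprimes hk hd (by norm_num : 5 ∣ 10)
        norm_num at this
      refine isConj_iff.2 ⟨h, ?_⟩
      have hodd : t ^ k = t := by
        have : k % 2 = 1 := Nat.two_dvd_ne_zero.1 fun hd => by
          have := Nat.eq_one_of_dvd_coprimes hk hd (by norm_num : 2 ∣ 10)
          norm_num at this
        rw [← pow_mod_orderOf, hv2, this, pow_one]
      rw [hcomm.mul_pow, hodd, ← hh]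
      calc (h : G) * (y * t) * (h : G)⁻¹ = (h : G) * y * (h : G)⁻¹ * ((h : G) * t * (h : G)⁻¹) := by group
        _ = (h : G) * y * (h : G)⁻¹ * t := by rw [htH h]; group) χ
  choose u hu using fun i => hintu (B.c i)
  have hCu : Nat.card ↥(centralizer ({y * t} : Set G)) = 80 := by
    rw [← hCy80]
    refine congrArg (fun K : Subgroup G => Nat.card ↥K) (le_antisymm (fun g hg => ?_) fun g hg => ?_)
    · have h := (show Commute g (y * t) from mem_centralizer_singleton_iff.1 hg).pow_right 6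
      rw [hcomm.mul_pow, show t ^ 6 = 1 by rw [show 6 = 2 * 3 from rfl, pow_mul, pow_two, ht2, one_pow], mul_one,
        show y ^ 6 = y by rw [pow_succ, show y ^ 5 = 1 by rw [← hy, pow_orderOf_eq_one], one_mul]] at h
      exact mem_centralizer_singleton_iff.2 h.eq
    · obtain ⟨i, w', rfl⟩ := P.L.C.exists_el hg
      have h1 : Commute (P.L.C.el i w') y := mem_centralizer_singleton_iff.1 hg
      refine mem_centralizer_singleton_iff.2 (h1.mul_right (Commute.mul_left ?_ (htH (w' : P.L.C.H)))).eq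
      rw [Cyc.yP]
      exact hcomm.pow_left _
  have h5t : ¬ 5 ∣ orderOf t := by rw [hv2]; norm_num
  have hcong : ∀ (χ : IrrCharacter G) (x a : ℤ), (χ : G → ℂ) (y * t) = (x : ℂ) → (χ : G → ℂ) t = (a : ℂ) →
      (5 : ℤ) ∣ x - a := fun χ x a hx ha => dvd_value_sub (p := 5) (χ := χ) hy hcomm h5t hx ha
  have hmemu : v4 u ∈ yCol (v4 B.z) 80 (v4 rt) (lin (v4 B.z) 1 (v4 rt)) := by
    rw [← hCu]
    refine B.mem_yCol hregu (by rw [ho]; norm_num) hu ?_ ?_ ?_ ?_ ?_ <;> simp only [v4]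
    · exact hcong _ _ _ (hu 0) (hrt 0)
    · exact hcong _ _ _ (hu 1) (hrt 1)
    · exact hcong _ _ _ (hu 2) (hrt 2)
    · exact hcong _ _ _ (hu 3) (hrt 3)
    · exact hcong _ _ _ (vals_one hregu hu).2 hwt
  haveI : Fact (Nat.Prime 2) := ⟨Nat.prime_two⟩
  have hpar : ∀ i, (2 : ℤ) ∣ u i - r i := fun i =>
    dvd_value_sub (p := 2) (χ := B.c i) (x := t) (u := y) hv2 hcomm.symm (by rw [hy]; norm_num)
      (by rw [← hcomm.eq]; exact hu i) (hr i)
  have hk3 := hk2 _ hmemu
  have hq2 : qqOK (v4 B.z) (Nat.card ↥(centralizer ({t} : Set G))) (v4 rt) 80 (v4 u) = true := by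
    rw [← hCu]; exact qq_ok hregt ht1 hregu hrt hu
  have hp : parOK (v4 u) (v4 r) = true := by
    simp only [parOK, v4, Bool.and_eq_true, beq_iff_eq]
    exact ⟨⟨⟨Int.emod_eq_zero_of_dvd (hpar 0), Int.emod_eq_zero_of_dvd (hpar 1)⟩,
      Int.emod_eq_zero_of_dvd (hpar 2)⟩, Int.emod_eq_zero_of_dvd (hpar 3)⟩
  simp only [hq2, hp, Bool.true_eq_false, or_self] at hk3

end Blk

end Cfsg.Lib.M22Order
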