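import Cfsg.Agent.M22Order.Columns
import Cfsg.Agent.M22Nse.CensusFields

/-!
A simple group of order 443520 is the Mathieu group of degree twenty-two.
-/

set_option autoImplicit false
set_option linter.unusedSectionVars false
set_option linter.style.haveILetI false
set_option maxRecDepth 100000
set_option maxHeartbeats 1600000

namespace Cfsg.Lib.M22Order

open Subgroup Cfsg.Lib.Chars Cfsg.Lib.Blocks Cfsg.Lib.Blocks.SmallOrder Cfsg.Lib.Blocks.SylowCount
open scoped ComplexConjugate _root_.Classical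

universe u

section

variable {G : Type u} [Group G] [Fintype G] [IsSimpleGroup G] [Fact (Nat.Prime 11)] [Fact (Nat.Prime 5)]
  [Fact (Nat.Prime 7)]

theorem opts7_last_eq : ∀ o ∈ opts7, o.N = 21120 → o = o7last := by
  intro o ho
  simp only [opts7, List.mem_cons, List.not_mem_nil, or_false] at ho
  rcases ho with rfl | rfl | rfl | rfl | rfl | rfl | rfl <;> simp [o7last]

namespace Blk

/-- One of the exceptional characters is not real. -/
theorem exc_not_real (B : Blk G) {η : IrrCharacter G} (hη : η ∈ Finset.univ.image B.ν) :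
    ((η : G → ℂ) B.x).im ≠ 0 := by
  intro him
  obtain ⟨η', hne, hset⟩ : ∃ η', η' ≠ η ∧ Finset.univ.image B.ν = {η, η'} := by
    obtain ⟨a, b, hab, hs⟩ := Finset.card_eq_two.1 B.card_exc
    rw [hs] at hη
    rcases Finset.mem_insert.1 hη with rfl | h
    · exact ⟨b, hab.symm, hs⟩
    · rw [Finset.mem_singleton.1 h]
      exact ⟨a, hab, by rw [hs, Finset.pair_comm]⟩
  have h1 := B.sum_exc_x
  have h2 := B.sum_exc_norm
  have h3 := B.sum_exc_sq
  rw [hset, Finset.sum_pair hne.symm] at h1 h2 h3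
  have him' : ((η' : G → ℂ) B.x).im = 0 := by
    have := congrArg Complex.im h1
    simp only [Complex.add_im, Complex.neg_im, Complex.intCast_im, neg_zero] at this
    linarith
  rw [Complex.conj_eq_iff_im.2 him, Complex.conj_eq_iff_im.2 him'] at h2
  rw [h2] at h3
  norm_num at h3

end Blk

namespace Special

variable (S : Special G)

include S

/-- The involutions form a single class. -/
theorem conj_invol {s t : G} (hs : orderOf s = 2) (ht : orderOf t = 2) : IsConj s t := by
  by_contra hn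
  have h := second_orthogonality s t
  obtain ⟨-, a0, a1, a2, a3, aw, b1, b2, b3, b4, b5⟩ := S.invol_column hs
  obtain ⟨-, c0, c1, c2, c3, cw, d1, d2, d3, d4, d5⟩ := S.invol_column ht
  have hs11 : ¬ 11 ∣ orderOf s := by rw [hs]; norm_num
  have ht11 : ¬ 11 ∣ orderOf t := by rw [ht]; norm_num
  rw [if_neg hn, S.B.sum_split, Fin.sum_univ_four, S.sum_rest, a0, a1, a2, a3, c0, c1, c2, c3, b1, b2, b3, b4,
    b5, d1, d2, d3, d4, d5,
    Finset.sum_congr rfl (g := fun _ : IrrCharacter G =>
      (lin zSp 1 (5, -3, -3, 2) : ℂ) * (lin zSp 1 (5, -3, -3, 2) : ℂ)) (fun η hη => by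
      rw [S.B.apply_exc hη hs11, S.B.apply_exc hη ht11, aw, cw, map_intCast]),
    Finset.sum_const, S.B.card_exc, Blk.oneG_apply, Blk.oneG_apply, map_one, mul_one] at h
  simp [lin, zSp, aOf, sgn, map_ofNat] at h
  norm_num at h

theorem card_invol {t : G} (ht : orderOf t = 2) : Nat.card {g : G // g * g = 1} = 1156 := by
  have hcls : Nat.card {a : G // IsConj t a} = 1155 := by
    rw [card_class_eq, S.B.card, (S.invol_column ht).1]
  rw [← show Nat.card {a : G // IsConj t a} + 1 = 1156 by rw [hcls], ← Finite.card_option]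
  refine (Nat.card_eq_of_bijective (fun x : Option {a : G // IsConj t a} => match x with
    | none => (⟨1, one_mul 1⟩ : {g : G // g * g = 1})
    | some a => ⟨a.1, by
        obtain ⟨c, hc⟩ := isConj_iff.1 a.2
        rw [← hc, show c * t * c⁻¹ * (c * t * c⁻¹) = c * (t ^ 2) * c⁻¹ by rw [pow_two]; group,
          show t ^ 2 = 1 from ht ▸ pow_orderOf_eq_one t]
        group⟩) ⟨?_, ?_⟩).symm
  · have hne : ∀ a : {a : G // IsConj t a}, a.1 ≠ 1 := fun a e => by
      have := Cfsg.Lib.M12Nse.conj_orderOf a.2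
      rw [e, orderOf_one, ht] at this
      norm_num at this
    rintro (_ | a) (_ | b) e
    · rfl
    · exact absurd (congrArg Subtype.val e).symm (hne b)
    · exact absurd (congrArg Subtype.val e) (hne a)
    · exact congrArg some (Subtype.ext (congrArg Subtype.val e :))
  · rintro ⟨g, hg⟩
    by_cases h : g = 1
    · exact ⟨none, Subtype.ext h.symm⟩
    · exact ⟨some ⟨g, S.conj_invol ht (orderOf_two hg h)⟩, rfl⟩

/-- The number of square roots of an involution. -/
theorem roots {t : G} (ht : orderOf t = 2) : 3 ∣ Nat.card {u : G // u * u = t} := by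
  obtain ⟨-, a0, a1, a2, a3, aw, b1, b2, b3, b4, b5⟩ := S.invol_column ht
  choose e he habs hnr using fun χ : IrrCharacter G => M12Order.exists_indicator χ
  have e1 : e (oneG G) = 1 := by
    apply Int.cast_injective (α := ℂ)
    rw [← he, Int.cast_one]
    simp [Blk.oneG_apply, Nat.card_eq_fintype_card]
  have eν : ∀ η ∈ Finset.univ.image S.B.ν, e η = 0 := fun η hη => hnr η ⟨_, S.B.exc_not_real hη⟩
  have hsum : ∀ g : G, (Nat.card {u : G // u * u = g} : ℂ) =
      conj ((oneG G : G → ℂ) g) + ((e (S.B.c 0) : ℂ) * conj ((S.B.c 0 : G → ℂ) g) +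
        (e (S.B.c 1) : ℂ) * conj ((S.B.c 1 : G → ℂ) g) + (e (S.B.c 2) : ℂ) * conj ((S.B.c 2 : G → ℂ) g) +
        (e (S.B.c 3) : ℂ) * conj ((S.B.c 3 : G → ℂ) g)) +
      ((e S.e55 : ℂ) * conj ((S.e55 : G → ℂ) g) + (e S.e99 : ℂ) * conj ((S.e99 : G → ℂ) g) +
        (e S.e154 : ℂ) * conj ((S.e154 : G → ℂ) g) + (e S.e231 : ℂ) * conj ((S.e231 : G → ℂ) g) +
        (e S.e385 : ℂ) * conj ((S.e385 : G → ℂ) g)) := by
    intro g
    rw [← M12Order.sum_indicator g, Finset.sum_congr rfl fun χ _ => by rw [he χ], S.B.sum_split,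
      Fin.sum_univ_four, S.sum_rest, Finset.sum_eq_zero (s := Finset.univ.image S.B.ν) (fun η hη => by
        rw [eν η hη, Int.cast_zero, zero_mul]), e1, Int.cast_one, one_mul, add_zero]
  have h1 := hsum 1
  rw [S.card_invol ht] at h1
  have ht' := hsum t
  simp only [irr_apply_one_eq_deg, map_natCast, S.degc, S.d55.1, S.d99.1, S.d154.1, S.d231.1, S.d385,
    deg_oneG] at h1
  simp [a0, a1, a2, a3, b1, b2, b3, b4, b5, Blk.oneG_apply, map_ofNat] at ht'
  simp at h1
  have h1' : 1 + 21 * e (S.B.c 0) + 45 * e (S.B.c 1) + 45 * e (S.B.c 2) + 210 * e (S.B.c 3) + 55 * e S.e55 +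
      99 * e S.e99 + 154 * e S.e154 + 231 * e S.e231 + 385 * e S.e385 = 1156 := by
    apply Int.cast_injective (α := ℂ)
    push_cast
    linear_combination -h1
  have hn : (Nat.card {u : G // u * u = t} : ℤ) = 1 + 5 * e (S.B.c 0) - 3 * e (S.B.c 1) - 3 * e (S.B.c 2) +
      2 * e (S.B.c 3) + 7 * e S.e55 + 3 * e S.e99 + 10 * e S.e154 + 7 * e S.e231 + e S.e385 := by
    apply Int.cast_injective (α := ℂ)
    simp only [← Nat.card_eq_fintype_card] at ht'
    push_cast
    linear_combination ht'
  have hL : ∀ χ, e χ ∈ ([-1, 0, 1] : List ℤ) := fun χ => by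
    have := habs χ
    simp only [List.mem_cons, List.not_mem_nil, or_false]
    omega
  have h := ind_num
  simp only [indOK, List.all_eq_true, Bool.or_eq_true, bne_iff_ne, ne_eq, beq_iff_eq] at h
  have hh := (h _ (hL (S.B.c 0)) _ (hL (S.B.c 1)) _ (hL (S.B.c 2)) _ (hL (S.B.c 3)) _ (hL S.e55) _ (hL S.e99)
    _ (hL S.e154) _ (hL S.e231) _ (hL S.e385)).resolve_left (not_not.2 h1')
  rw [← hn] at hh
  omega

theorem census : M22Nse.Census G where
  card := S.B.card
  five := fun _ hx => S.B.cent_five hx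
  seven := fun x hx => by
    obtain ⟨o, ho, L, hc, -⟩ := exists_seven S.B.card hx
    have hN : o.N = 21120 := L.card_sylow.symm.trans S.Q.L.card_sylow
    rw [hc, opts7_last_eq o ho hN]
    rfl
  eleven := fun _ hx => cent_eleven S.B.card hx
  nFive := S.P.L.card_sylow
  nSeven := S.Q.L.card_sylow
  nEleven := card_sylow_eleven S.B.card
  invol := fun _ ht => (S.invol_column ht).1
  «conj» := fun _ _ hs ht => S.conj_invol hs ht
  roots := fun _ ht => S.roots ht

end Special

end

/-- The Mathieu group of degree twenty-two is determined by its order. -/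
theorem iso_M22 {G : Type u} [Group G] [Finite G] [IsSimpleGroup G] (hG : Nat.card G = 443520) :
    Nonempty (G ≃* ↥Cfsg.Spor.M22) := by
  have := Fintype.ofFinite G
  haveI : Fact (Nat.Prime 11) := ⟨by norm_num⟩
  haveI : Fact (Nat.Prime 7) := ⟨by norm_num⟩
  haveI : Fact (Nat.Prime 5) := ⟨by norm_num⟩
  obtain ⟨S⟩ := exists_special hG
  exact S.census.iso_M22

end Cfsg.Lib.M22Order
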