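import Cfsg.Agent.M22Order.Sylows
import Cfsg.Agent.M22Order.Block
import Cfsg.Agent.M23Order.Average

/-!
The principal blocks at five and at seven of a simple group of order 443520.
-/

set_option autoImplicit false
set_option linter.unusedSectionVars false
set_option linter.style.haveILetI false
set_option maxRecDepth 100000

namespace Cfsg.Lib.M22Order

open Cfsg.Lib.Chars Cfsg.Lib.Blocks Cfsg.Lib.Blocks.SmallOrder Cfsg.Lib.Blocks.SylowCount
  Cfsg.Lib.Blocks.DegreeEquation
open Cfsg.Lib.Small.DegreeGraph (sdeg)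
open scoped ComplexConjugate _root_.Classical

universe u

variable {G : Type u} [Group G] [Fintype G]

/-- the number of irreducible characters of a degree -/
noncomputable def cnt (G : Type u) [Group G] [Fintype G] (d : ℕ) : ℕ :=
  (Finset.univ.filter fun χ : IrrCharacter G => deg (χ : G → ℂ) = d).card

theorem cnt_eq_sum (d : ℕ) : cnt G d = ∑ χ : IrrCharacter G, if d = deg (χ : G → ℂ) then 1 else 0 := by
  rw [cnt, Finset.card_filter]
  exact Finset.sum_congr rfl fun χ _ => by simp [eq_comm]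

theorem count_eq_sum_map (d : ℕ) : ∀ l : List ℕ, l.count d = (l.map fun a => if d = a then 1 else 0).sum
  | [] => rfl
  | a :: l => by
    rw [List.count_cons, count_eq_sum_map d l, List.map_cons, List.sum_cons]
    by_cases h : d = a
    · rw [if_pos h, h, if_pos (beq_self_eq_true a)]; omega
    · rw [if_neg h, if_neg (fun e => h (beq_iff_eq.1 e).symm)]; omega

/-- Orbit data in which the trivial character is not exceptional. -/
theorem exists_data {p : ℕ} [Fact p.Prime] [IsSimpleGroup G] {C : Cyc G p} (hC : Core C) {M : Ideal AlgInt}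
    (hM : IsPModular p M) : ∃ ν δ, C.OrbitData C.oneV ν δ ∧ oneG G ∉ Set.range ν := by
  obtain ⟨ν, δ, hD⟩ := C.exists_orbitData hM C.oneV
  by_cases hr : oneG G ∈ Set.range ν
  swap
  · exact ⟨ν, δ, hD, hr⟩
  obtain ⟨u, hu⟩ := hr
  have hconst : ∀ v, ν v = oneG G := fun v => eq_one_of_deg_one hC.perfect (by
    rw [deg_exc hD v, ← deg_exc hD u, hu, deg_oneG])
  have hmem : ∀ a b : (ZMod p)ˣ, a⁻¹ * b ∈ C.E (C.oneV : C.V → ℂ) := fun a b =>
    (hD.eq_iff a b).1 ((hconst a).trans (hconst b).symm)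
  have hall : ∀ (χ : IrrCharacter G) (v : (ZMod p)ˣ), C.bI χ C.oneV v = C.bI χ C.oneV 1 := fun χ v => by
    have := C.bI_coset χ C.oneV (u := v) (by simpa using hmem 1 v) 1
    rwa [mul_one, Units.val_one] at this
  obtain ⟨χ₁, hχ₁⟩ := Finset.card_pos.1 (show 0 < (ordSet C ν).card by
    rw [card_ordSet hD]; exact lt_of_lt_of_le Nat.zero_lt_two hC.two_le_eC)
  have hb := C.ord_bound hM C.oneV (hall χ₁)
  have hne : C.bI χ₁ C.oneV 1 ≠ 0 := by
    rcases hD.sign_diff (χ := χ₁) (mem_ordSet.1 hχ₁) with e | e <;> rw [e] <;> norm_num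
  have hδ : -C.bI χ₁ C.oneV 1 = 1 ∨ -C.bI χ₁ C.oneV 1 = -1 := by have := hb.1; omega
  have heq : ∀ a b : (ZMod p)ˣ, (fun _ => χ₁) a = (fun _ => χ₁) b ↔ a⁻¹ * b ∈ C.E (C.oneV : C.V → ℂ) :=
    fun a b => iff_of_true rfl (hmem a b)
  have hexc : ∀ a b : (ZMod p)ˣ, C.bI χ₁ C.oneV b =
      if a⁻¹ * b ∈ C.E (C.oneV : C.V → ℂ) then -(-C.bI χ₁ C.oneV 1) else 0 := fun a b => by
    rw [if_pos (hmem a b), neg_neg, hall]
  refine ⟨fun _ => χ₁, -C.bI χ₁ C.oneV 1,
    { sign := hδ
      eq_iff := heq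
      bI_exc := hexc
      twist_exc := fun c _ => hb.2 hne c
      bI_ord := fun χ _ v => hall χ v
      abs_ord := fun χ _ => (C.ord_bound hM C.oneV (hall χ)).1
      rational := fun χ _ => (C.ord_bound hM C.oneV (hall χ)).2
      card_ord := C.card_ord_of hδ heq hexc fun χ _ => (C.ord_bound hM C.oneV (hall χ)).1 }, ?_⟩
  rintro ⟨w, hw⟩
  exact (mem_ordSet.1 hχ₁).2 ⟨u, hu.trans hw.symm⟩

variable [IsSimpleGroup G] [Fact (Nat.Prime 11)]

namespace Blk

variable (B : Blk G)

/-- Degrees prime to eleven occur in the block at eleven only. -/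
theorem cnt_eq {d : ℕ} (hd : ¬ 11 ∣ d) : cnt G d = (L11 (v4 B.z)).count d := by
  rw [cnt_eq_sum, B.sum_split, deg_oneG, Finset.sum_eq_zero (s := B.rest) (fun η hη => by
      rw [if_neg]; exact fun e => hd (e ▸ B.rest_dvd_deg hη)),
    Finset.sum_congr rfl (g := fun _ : IrrCharacter G => if d = deg (B.ν 1 : G → ℂ) then 1 else 0)
      (fun η hη => by rw [B.deg_exc_eq hη]),
    Finset.sum_const, B.card_exc, smul_eq_mul, Fin.sum_univ_four, count_eq_sum_map, L11]
  simp only [List.map_cons, List.map_nil, List.sum_cons, List.sum_nil, v4, ← (B.sign_eq 0).2, ← (B.sign_eq 1).2,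
    ← (B.sign_eq 2).2, ← (B.sign_eq 3).2, ← B.exc_sign.2]
  omega

theorem count_L11_le (d : ℕ) : (L11 (v4 B.z)).count d ≤ cnt G d := by
  rw [cnt_eq_sum, B.sum_split, deg_oneG,
    Finset.sum_congr rfl (g := fun _ : IrrCharacter G => if d = deg (B.ν 1 : G → ℂ) then 1 else 0)
      (fun η hη => by rw [B.deg_exc_eq hη]),
    Finset.sum_const, B.card_exc, smul_eq_mul, Fin.sum_univ_four, count_eq_sum_map, L11]
  simp only [List.map_cons, List.map_nil, List.sum_cons, List.sum_nil, v4, ← (B.sign_eq 0).2, ← (B.sign_eq 1).2,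
    ← (B.sign_eq 2).2, ← (B.sign_eq 3).2, ← B.exc_sign.2]
  omega

theorem mem_L11 {χ : IrrCharacter G} (hd : ¬ 11 ∣ deg (χ : G → ℂ)) : deg (χ : G → ℂ) ∈ L11 (v4 B.z) := by
  rw [← List.count_pos_iff, ← B.cnt_eq hd]
  exact Finset.card_pos.2 ⟨χ, Finset.mem_filter.2 ⟨Finset.mem_univ _, rfl⟩⟩

end Blk

/-- The principal block at `p` with its characters labelled. -/
structure PBlk (G : Type u) [Group G] [Fintype G] [IsSimpleGroup G] (p : ℕ) [Fact p.Prime] (o : Opt) where
  /-- the modular system -/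
  M : Ideal AlgInt
  modular : IsPModular p M
  /-- the setting -/
  L : Local G p o
  /-- the exceptional family -/
  ν : (ZMod p)ˣ → IrrCharacter G
  /-- its sign -/
  δ : ℤ
  data : L.C.OrbitData L.C.oneV ν δ
  not_one : oneG G ∉ Set.range ν
  /-- the other characters -/
  cs : List (IrrCharacter G)
  nodup : cs.Nodup
  ne_one : oneG G ∉ cs
  ord_eq : ordSet L.C ν = insert (oneG G) cs.toFinset
  sorted : (cs.map (sdeg L.C)).Pairwise (· ≤ ·)

namespace PBlk

variable {p : ℕ} [Fact p.Prime] {o : Opt} (P : PBlk G p o)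

/-- the signed degrees -/
noncomputable def zs : List ℤ := P.cs.map (sdeg P.L.C)

/-- the characters outside the block -/
noncomputable def rest : Finset (IrrCharacter G) :=
  Finset.univ \ (insert (oneG G) P.cs.toFinset ∪ Finset.univ.image P.ν)

theorem cs_mem {χ : IrrCharacter G} (h : χ ∈ P.cs) : χ ∈ ordSet P.L.C P.ν := by
  rw [P.ord_eq]; exact Finset.mem_insert_of_mem (List.mem_toFinset.2 h)

theorem sign_eq {χ : IrrCharacter G} (h : χ ∈ P.cs) : P.L.C.bI χ P.L.C.oneV 1 = sgn (sdeg P.L.C χ) ∧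
    (sdeg P.L.C χ).natAbs = deg (χ : G → ℂ) := by
  have h0 := deg_irr_pos χ
  rcases P.data.sign_diff (χ := χ) (mem_ordSet.1 (P.cs_mem h)) with e | e <;> simp only [sdeg, e, sgn]
  · rw [if_pos (by omega)]; omega
  · rw [if_neg (by omega)]; omega

theorem bI_one : P.L.C.bI (oneG G) P.L.C.oneV 1 = 1 := bI_oneG' P.modular P.data P.not_one

theorem exc_rel : 1 + P.zs.sum = P.δ * (deg (P.ν 1 : G → ℂ) : ℤ) := by
  have h := relation P.data
  rw [P.ord_eq, Finset.sum_insert (by rw [List.mem_toFinset]; exact P.ne_one), P.bI_one, deg_oneG,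
    List.sum_toFinset _ P.nodup] at h
  exact h

theorem exc_sign : P.δ = sgn (1 + P.zs.sum) ∧ (1 + P.zs.sum).natAbs = deg (P.ν 1 : G → ℂ) := by
  have hd := deg_irr_pos (P.ν 1)
  rw [P.exc_rel, sgn]
  rcases P.data.sign with e | e <;> rw [e]
  · rw [if_pos (by omega)]; omega
  · rw [if_neg (by omega)]; omega

theorem card_exc : (Finset.univ.image P.ν).card = (p - 1) / o.e := by
  have h := index_mul_eC (C := P.L.C)
  rw [← card_image P.data, P.L.index] at h
  have h2 := P.L.core.two_le_eC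
  rw [P.L.index] at h2
  rw [← h, Nat.mul_div_cancel _ (by omega)]

theorem sum_split {R : Type*} [AddCommMonoid R] (f : IrrCharacter G → R) :
    ∑ η, f η = f (oneG G) + (P.cs.map f).sum + ∑ η ∈ Finset.univ.image P.ν, f η + ∑ η ∈ P.rest, f η := by
  have hdisj : Disjoint (insert (oneG G) P.cs.toFinset) (Finset.univ.image P.ν) := by
    rw [← P.ord_eq]; exact Finset.disjoint_left.2 fun χ h1 h2 => by
      obtain ⟨u, -, rfl⟩ := Finset.mem_image.1 h2
      exact (mem_ordSet.1 h1).2 ⟨u, rfl⟩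
  rw [rest, ← Finset.sum_sdiff (Finset.subset_univ (insert (oneG G) P.cs.toFinset ∪ Finset.univ.image P.ν)),
    Finset.sum_union hdisj, Finset.sum_insert (by rw [List.mem_toFinset]; exact P.ne_one),
    List.sum_toFinset _ P.nodup]
  abel

theorem mem_rest {η : IrrCharacter G} (hη : η ∈ P.rest) : ¬ P.L.C.Lies η P.L.C.oneV := fun hl => by
  rw [rest, Finset.mem_sdiff, ← P.ord_eq, Finset.mem_union] at hη
  refine hη.2 ?_
  by_cases hn : η ∈ Set.range P.ν
  · obtain ⟨u, rfl⟩ := hn
    exact Or.inr (Finset.mem_image_of_mem _ (Finset.mem_univ _))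
  · exact Or.inl (mem_ordSet.2 ⟨hl, hn⟩)

theorem rest_dvd_deg (hv : o.v = 1) {η : IrrCharacter G} (hη : η ∈ P.rest) : p ∣ deg (η : G → ℂ) := by
  obtain ⟨Q, hQ⟩ := P.L.core.sylow
  have hc := P.L.card_V.trans hv
  have h1 : ∀ v : P.L.C.V, v = 1 := fun v => (Nat.card_eq_one_iff_unique.1 hc).1.elim v 1
  have hone : ∀ θ : IrrCharacter P.L.C.V, θ = P.L.C.oneV := fun θ => by
    refine Subtype.ext (funext fun v => ?_)
    rw [h1 v, irr_deg_one_of_comm (fun a b => by rw [h1 a, h1 b]) θ.2]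
    rfl
  exact P.L.C.dvd_deg_of_forall_not_lies (fun θ => hone θ ▸ P.mem_rest hη) Q hQ

/-- the degrees in the block -/
noncomputable def degs : List ℕ := Lp p o.e P.zs

theorem cnt_split (d : ℕ) :
    cnt G d = P.degs.count d + ∑ η ∈ P.rest, if d = deg (η : G → ℂ) then 1 else 0 := by
  rw [cnt_eq_sum, P.sum_split, deg_oneG,
    Finset.sum_congr rfl (g := fun _ : IrrCharacter G => if d = deg (P.ν 1 : G → ℂ) then 1 else 0)
      (fun η hη => by obtain ⟨u, -, rfl⟩ := Finset.mem_image.1 hη; rw [deg_exc P.data]),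
    Finset.sum_const, P.card_exc, smul_eq_mul, degs, count_eq_sum_map, Lp]
  rw [← P.exc_sign.2, zs]
  simp only [List.map_cons, List.map_append, List.sum_cons, List.sum_append, List.map_map, List.map_replicate,
    List.sum_replicate, smul_eq_mul]
  rw [List.map_congr_left (f := (fun a => if d = a then 1 else 0) ∘ Int.natAbs ∘ sdeg P.L.C)
    (g := fun χ : IrrCharacter G => if d = deg (χ : G → ℂ) then 1 else 0)
    (fun χ hχ => by show (if d = (sdeg P.L.C χ).natAbs then 1 else 0) = _; rw [(P.sign_eq hχ).2])]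
  omega

theorem count_le (d : ℕ) : P.degs.count d ≤ cnt G d := by rw [P.cnt_split]; exact Nat.le_add_right _ _

theorem count_eq (hv : o.v = 1) {d : ℕ} (hd : ¬ p ∣ d) : cnt G d = P.degs.count d := by
  rw [P.cnt_split, Finset.sum_eq_zero fun η hη => ?_, Nat.add_zero]
  rw [if_neg]
  exact fun e => hd (e ▸ P.rest_dvd_deg hv hη)

/-- The signed degrees are among the candidates. -/
theorem mem_bopts (B : Blk G) (hp : 3 ≤ p)
    (hT : (terms p (o.N * o.e) 443520 o.v 666 1).all (fun x => o.T.contains x) = true)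
    (hA : (terms p (o.N * o.e) 443520 o.v 666 (o.e : ℤ)).all (fun x => o.A.contains x) = true) :
    P.zs ∈ bopts (v4 B.z) p o := by
  have hG := B.card
  have hlen : P.cs.length = o.e - 1 := by
    have h := card_ordSet P.data
    rw [P.ord_eq, Finset.card_insert_of_notMem (by rw [List.mem_toFinset]; exact P.ne_one),
      List.toFinset_card_of_nodup P.nodup, P.L.index] at h
    omega
  have hT' : ∀ χ ∈ P.cs, sdeg P.L.C χ ∈
      o.T.filter fun x => x.natAbs % 11 == 0 || (L11 (v4 B.z)).contains x.natAbs := by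
    intro χ hχ
    have habs := (P.sign_eq hχ).2
    have h2 : χ ≠ oneG G := fun e => P.ne_one (e ▸ hχ)
    refine List.mem_filter.2 ⟨?_, ?_⟩
    · have ha := isTerm_ord P.L.core P.modular P.data (P.cs_mem hχ) h2
      have hb := allowed_of_lies P.L.core P.modular hp (mem_ordSet.1 (P.cs_mem hχ)).1 h2
      rw [hG, P.L.idx_eq, P.L.index] at ha
      rw [hG, P.L.card_V, ← habs] at hb
      exact List.contains_iff_mem.1 (List.all_eq_true.1 hT _ (mem_terms (by norm_num) ha hb))
    · rw [habs, Bool.or_eq_true, beq_iff_eq, List.contains_iff_mem]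
      by_cases h11 : 11 ∣ deg (χ : G → ℂ)
      · exact Or.inl (Nat.mod_eq_zero_of_dvd h11)
      · exact Or.inr (B.mem_L11 h11)
  have hA' : 1 + P.zs.sum ∈ o.A := by
    have ha := isTerm_exc P.L.core P.modular P.data P.not_one
    have hb := allowed_of_lies P.L.core P.modular hp (lies_exc P.data 1) (fun e => P.not_one ⟨1, e⟩)
    rw [hG, P.L.idx_eq, P.L.index] at ha
    rw [hG, P.L.card_V, ← P.exc_sign.2] at hb
    rw [P.exc_rel] at hb ⊢
    exact List.contains_iff_mem.1 (List.all_eq_true.1 hA _ (mem_terms (by norm_num) (by exact_mod_cast ha) hb))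
  refine List.mem_filter.2 ⟨?_, ?_⟩
  · have := mem_asc P.sorted (fun x hx => by obtain ⟨χ, hχ, rfl⟩ := List.mem_map.1 hx; exact hT' χ hχ)
    rwa [List.length_map, hlen] at this
  · simp only [Bool.and_eq_true, Bool.or_eq_true, List.contains_iff_mem, sub, List.all_eq_true, beq_iff_eq,
      decide_eq_true_eq, bne_iff_ne, ne_eq]
    refine ⟨⟨hA', fun d _ => ?_⟩, ?_⟩
    · by_cases h : 11 ∣ d
      · exact Or.inl (Nat.mod_eq_zero_of_dvd h)
      · exact Or.inr ((P.count_le d).trans (B.cnt_eq h).le)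
    · by_cases hv : o.v = 1
      · refine Or.inr fun d _ => ?_
        by_cases h : p ∣ d
        · exact Or.inl (Nat.mod_eq_zero_of_dvd h)
        · exact Or.inr ((B.count_L11_le d).trans (P.count_eq hv h).le)
      · exact Or.inl hv

end PBlk

/-- The principal block exists. -/
theorem exists_pblk {p : ℕ} [Fact p.Prime] {o : Opt} (L : Local G p o) : ∃ P : PBlk G p o, P.L = L := by
  obtain ⟨M, hM⟩ := exists_isPModular (Fact.out : p.Prime)
  obtain ⟨ν, δ, hD, hr⟩ := exists_data L.core hM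
  have hm1 : oneG G ∈ ordSet L.C ν := mem_ordSet.2 ⟨lies_oneG, hr⟩
  set cs := (((ordSet L.C ν).erase (oneG G)).toList).mergeSort
    (fun a b => decide (sdeg L.C a ≤ sdeg L.C b)) with hcs
  have hperm : cs.Perm ((ordSet L.C ν).erase (oneG G)).toList := List.mergeSort_perm _ _
  have hmem : ∀ χ, χ ∈ cs ↔ χ ∈ (ordSet L.C ν).erase (oneG G) := fun χ =>
    hperm.mem_iff.trans Finset.mem_toList
  have hord : ordSet L.C ν = insert (oneG G) cs.toFinset := by
    rw [show cs.toFinset = (ordSet L.C ν).erase (oneG G) from by ext χ; rw [List.mem_toFinset]; exact hmem χ,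
      Finset.insert_erase hm1]
  have hsort : (cs.map (sdeg L.C)).Pairwise (· ≤ ·) := by
    refine List.pairwise_map.2 ((List.pairwise_mergeSort ?_ ?_ _).imp fun h => ?_)
    · intro a b c h1 h2; simp only [decide_eq_true_eq] at *; omega
    · intro a b; simp only [Bool.or_eq_true, decide_eq_true_eq]; omega
    · simpa using h
  exact ⟨⟨M, hM, L, ν, δ, hD, hr, cs, hperm.nodup_iff.2 (Finset.nodup_toList _),
    fun h => Finset.notMem_erase _ _ ((hmem _).1 h), hord, hsort⟩, rfl⟩

end Cfsg.Lib.M22Order
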