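import Cfsg.Agent.M22Order.Values
import Cfsg.Agent.M12Order.Values

/-!
Rational columns, congruences, and normalisers inside a centraliser.
-/

set_option autoImplicit false
set_option linter.unusedSectionVars false
set_option linter.style.haveILetI false

namespace Cfsg.Lib.M22Order

open Subgroup Cfsg.Lib.Chars Cfsg.Lib.Blocks Cfsg.Lib.Blocks.SmallOrder
open scoped _root_.Classical

universe u

variable {G : Type u} [Group G] [Fintype G]

/-- An element conjugate to all generators of its cyclic subgroup has integral values. -/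
theorem exists_int_of_conj {g : G} {m : ℕ} [NeZero m] (hm : orderOf g ∣ m)
    (h : ∀ k : ℕ, k.Coprime m → IsConj g (g ^ k)) (χ : IrrCharacter G) : ∃ r : ℤ, (χ : G → ℂ) g = (r : ℂ) := by
  obtain ⟨r, hr⟩ := M12Order.exists_int_of_fixed χ {g} (m := m) (fun a ha => by rwa [Finset.mem_singleton.1 ha])
    (fun σ k hk hσ => by
      rw [Finset.sum_singleton, hσ.apply_character (isCharacter_of_irr χ.2) hm]
      obtain ⟨c, hc⟩ := isConj_iff.1 (h k hk)
      rw [← hc]
      exact isClassFunction_irr χ g c)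
  exact ⟨r, by rwa [Finset.sum_singleton] at hr⟩

/-- Values are congruent along a commuting element of prime power order. -/
theorem dvd_value_sub {p : ℕ} [Fact p.Prime] {χ : IrrCharacter G} {x u : G} (hx : orderOf x = p)
    (hc : Commute x u) (hu : ¬ p ∣ orderOf u) {a b : ℤ} (ha : (χ : G → ℂ) (x * u) = (a : ℂ))
    (hb : (χ : G → ℂ) u = (b : ℂ)) : (p : ℤ) ∣ a - b := by
  obtain ⟨M, hM⟩ := exists_isPModular (Fact.out : p.Prime)
  have h := small_apply_mul_sub hM (isCharacter_of_irr χ.2) hc ⟨1, by rw [pow_one, hx]⟩ hu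
  rw [ha, hb] at h
  refine (small_intCast_iff hM _).1 ?_
  push_cast
  exact h

/-- The Sylow number of a subgroup containing an element of prime order. -/
theorem sylow_index_in {p m : ℕ} [Fact p.Prime] (hm : Nat.card G = p * m) (hpm : ¬ p ∣ m) (K : Subgroup G)
    {y : G} (hy : orderOf y = p) (hyK : y ∈ K) :
    Nat.card ↥K / Nat.card ↥(normalizer (zpowers y : Set G) ⊓ K) % p = 1 := by
  set y' : ↥K := ⟨y, hyK⟩
  have hy' : orderOf y' = p := by rw [← Subgroup.orderOf_coe, hy]
  obtain ⟨m', hm'⟩ : p ∣ Nat.card ↥K := hy ▸ Subgroup.orderOf_dvd_natCard _ hyK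
  have hpm' : ¬ p ∣ m' := fun hd => hpm (by
    have h := Subgroup.card_subgroup_dvd_card K
    rw [hm, hm'] at h
    exact hd.trans (Nat.dvd_of_mul_dvd_mul_left (Fact.out : p.Prime).pos h))
  have hS : ∀ P : Sylow p ↥K, Nat.card ↥(P : Subgroup ↥K) = p := fun P => by
    simpa using Cfsg.Lib.Small.card_sylow_of_factor P (a := 1) (m := m') (by rw [hm', pow_one]) hpm'
  obtain ⟨P, hP⟩ := Cfsg.Lib.M12Nse.exists_sylow_zpowers hS hy'
  have h1 := card_sylow_modEq_one p ↥K
  rw [P.card_eq_index_normalizer] at h1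
  set N' := normalizer ((P : Subgroup ↥K) : Set ↥K)
  have hN : N' = (normalizer (zpowers y : Set G)).subgroupOf K := by
    ext g
    simp only [N', hP, Subgroup.mem_subgroupOf]
    constructor
    · intro hg
      have := (Subgroup.mem_normalizer_iff.1 hg y').1 (mem_zpowers y')
      obtain ⟨n, hn⟩ := mem_zpowers_iff.1 this
      refine Cfsg.Lib.MathieuEleven.mem_normalizer_zpowers (mem_zpowers_iff.2 ⟨n, ?_⟩)
      have := congrArg Subtype.val hn
      simpa [y'] using this
    · intro hg
      have := (Subgroup.mem_normalizer_iff.1 hg y).1 (mem_zpowers y)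
      obtain ⟨n, hn⟩ := mem_zpowers_iff.1 this
      refine Cfsg.Lib.MathieuEleven.mem_normalizer_zpowers (mem_zpowers_iff.2 ⟨n, Subtype.ext ?_⟩)
      simpa [y'] using hn
  have hcard : Nat.card ↥N' = Nat.card ↥(normalizer (zpowers y : Set G) ⊓ K) := by
    rw [hN, ← Subgroup.inf_subgroupOf_right, Nat.card_congr (Subgroup.subgroupOfEquivOfLe inf_le_right).toEquiv]
  rw [← hcard, ← N'.card_mul_index, Nat.mul_div_cancel_left _ Nat.card_pos]
  rw [Nat.ModEq, Nat.one_mod_eq_one.2 (Fact.out : p.Prime).ne_one] at h1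
  exact h1

end Cfsg.Lib.M22Order
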