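import Cfsg.Agent.M22Order.FiveEven

/-!
The characters of a block other than the trivial one as slots with signed degrees.
-/

set_option autoImplicit false
set_option linter.unusedSectionVars false
set_option linter.style.haveILetI false
set_option maxRecDepth 100000

namespace Cfsg.Lib.M22Order

open Subgroup Cfsg.Lib.Chars Cfsg.Lib.Blocks Cfsg.Lib.Blocks.SmallOrder Cfsg.Lib.Blocks.SylowCount
  Cfsg.Lib.Blocks.DegreeEquation
open Cfsg.Lib.Small.DegreeGraph (sdeg)
open scoped _root_.Classical

universe u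

variable {G : Type u} [Group G] [Fintype G] [IsSimpleGroup G] [Fact (Nat.Prime 11)]
  {p : ℕ} [Fact p.Prime] {o : Opt} (P : PBlk G p o)

namespace PBlk

/-- the characters with one exceptional one -/
noncomputable def slots : List (IrrCharacter G) := P.cs ++ [P.ν 1]

/-- the signed degree of a slot -/
noncomputable def sd (χ : IrrCharacter G) : ℤ :=
  if χ ∈ P.cs then sdeg P.L.C χ else -(P.δ * (deg (P.ν 1 : G → ℂ) : ℤ))

theorem exc_not_cs : P.ν 1 ∉ P.cs := fun h => (mem_ordSet.1 (P.cs_mem h)).2 ⟨1, rfl⟩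

theorem slots_nodup : P.slots.Nodup :=
  List.Nodup.append P.nodup (List.nodup_singleton _) (by simpa using P.exc_not_cs)

theorem slots_length : P.slots.length = o.e := by
  have h := card_ordSet P.data
  rw [P.ord_eq, Finset.card_insert_of_notMem (by rw [List.mem_toFinset]; exact P.ne_one),
    List.toFinset_card_of_nodup P.nodup, P.L.index] at h
  rw [slots, List.length_append, List.length_singleton, h]

theorem slots_map : slotsOf P.zs = P.slots.map P.sd := by
  rw [slotsOf, P.exc_rel, slots, List.map_append]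
  congr 1
  · exact List.map_congr_left fun χ hχ => (if_pos hχ).symm
  · simp only [List.map_cons, List.map_nil, sd, if_neg P.exc_not_cs]

theorem slot_facts {χ : IrrCharacter G} (h : χ ∈ P.slots) :
    (P.sd χ).natAbs = deg (χ : G → ℂ) ∧ χ ≠ oneG G ∧ P.sd χ ≠ 0 := by
  have hd := deg_irr_pos χ
  rcases List.mem_append.1 h with h | h
  · simp only [sd, if_pos h]
    have := (P.sign_eq h).2
    exact ⟨this, fun e => P.ne_one (e ▸ h), by omega⟩
  · rw [List.mem_singleton] at h
    subst h
    simp only [sd, if_neg P.exc_not_cs]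
    refine ⟨?_, fun e => P.not_one ⟨1, e⟩, ?_⟩ <;> rcases P.data.sign with e | e <;> rw [e] <;> omega

/-- The relation of the values at a regular element. -/
theorem slots_linear {t : G} (ht : ¬ p ∣ orderOf t) :
    1 + (P.slots.map fun χ : IrrCharacter G => (sgn (P.sd χ) : ℂ) * (χ : G → ℂ) t).sum = 0 := by
  have h := Cfsg.Lib.M23Order.regular_relation P.data ht
  rw [P.ord_eq, Finset.sum_insert (by rw [List.mem_toFinset]; exact P.ne_one), P.bI_one,
    List.sum_toFinset _ P.nodup] at h
  rw [slots, List.map_append, List.sum_append,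
    List.map_congr_left (g := fun χ : IrrCharacter G => (P.L.C.bI χ P.L.C.oneV 1 : ℂ) * (χ : G → ℂ) t)
      (fun χ hχ => by rw [sd, if_pos hχ, (P.sign_eq hχ).1])]
  simp only [List.map_cons, List.map_nil, List.sum_cons, List.sum_nil, add_zero, sd, if_neg P.exc_not_cs]
  have hs : (sgn (-(P.δ * (deg (P.ν 1 : G → ℂ) : ℤ))) : ℂ) = -(P.δ : ℂ) := by
    have hd := deg_irr_pos (P.ν 1)
    rcases P.data.sign with e | e <;> rw [e, sgn]
    · rw [if_neg (by omega)]; push_cast; rfl
    · rw [if_pos (by omega)]; push_cast; norm_num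
  rw [hs]
  simp only [Int.cast_one, Blk.oneG_apply, one_mul] at h
  linear_combination h

/-- The averaged class multiplication in terms of the slots. -/
theorem slots_quad {t : G} (ht : ¬ p ∣ orderOf t) :
    (Cfsg.Lib.M23Order.pairsY P.L.C t : ℂ) =
      (Nat.card {a : G // IsConj t a} : ℂ) * (Nat.card {a : G // IsConj t a} : ℂ) / (Nat.card G : ℂ) *
        (o.v : ℂ) * (1 + (P.slots.map fun χ : IrrCharacter G => (χ : G → ℂ) t * (χ : G → ℂ) t / (P.sd χ : ℂ)).sum) := by
  rw [Cfsg.Lib.M23Order.pairs_avg P.modular P.data ht, P.L.card_V]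
  congr 1
  rw [P.ord_eq, Finset.sum_insert (by rw [List.mem_toFinset]; exact P.ne_one), P.bI_one,
    List.sum_toFinset _ P.nodup, slots, List.map_append, List.sum_append,
    List.map_congr_left (g := fun χ : IrrCharacter G =>
      (χ : G → ℂ) t * (χ : G → ℂ) t / (P.sd χ : ℂ))
      (fun χ hχ => by
        have hd : (deg (χ : G → ℂ) : ℂ) ≠ 0 := by exact_mod_cast (deg_irr_pos χ).ne'
        rw [sd, if_pos hχ, sdeg]
        rcases P.data.sign_diff (χ := χ) (mem_ordSet.1 (P.cs_mem hχ)) with e | e <;>
          rw [e] <;> push_cast <;> field_simp)]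
  simp only [List.map_cons, List.map_nil, List.sum_cons, List.sum_nil, add_zero, sd, if_neg P.exc_not_cs,
    Blk.oneG_apply, deg_oneG, Nat.cast_one, Int.cast_one, mul_one, div_one]
  have hd : (deg (P.ν 1 : G → ℂ) : ℂ) ≠ 0 := by exact_mod_cast (deg_irr_pos _).ne'
  rcases P.data.sign with e | e <;> rw [e] <;> push_cast <;> field_simp <;> ring

/-- Without centraliser the degrees prime to `p` occur in the slots. -/
theorem mem_slots (hv : o.v = 1) {χ : IrrCharacter G} (hd : ¬ p ∣ deg (χ : G → ℂ)) (hne : χ ≠ oneG G)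
    (h1 : (p - 1) / o.e = 1) : χ ∈ P.slots := by
  by_contra hn
  refine hd (P.rest_dvd_deg hv (η := χ) ?_)
  rw [rest, Finset.mem_sdiff]
  refine ⟨Finset.mem_univ _, fun hu => hn ?_⟩
  rcases Finset.mem_union.1 hu with h | h
  · exact List.mem_append.2 (Or.inl (List.mem_toFinset.1 ((Finset.mem_insert.1 h).resolve_left hne)))
  · obtain ⟨a, ha⟩ := Finset.card_eq_one.1 (P.card_exc.trans h1)
    have h2 : P.ν 1 ∈ Finset.univ.image P.ν := Finset.mem_image_of_mem _ (Finset.mem_univ _)
    rw [ha, Finset.mem_singleton] at h h2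
    exact List.mem_append.2 (Or.inr (List.mem_singleton.2 (h.trans h2.symm)))

end PBlk

end Cfsg.Lib.M22Order
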