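import Cfsg.Agent.M22Order.Tables

/-!
The possible principal blocks at five and at seven of a simple group of order 443520.
-/

set_option autoImplicit false
set_option maxRecDepth 100000

namespace Cfsg.Lib.M22Order

open Cfsg.Lib.Blocks.DegreeEquation

/-- the number of Sylow subgroups, the inertial index, the order of the complement and the signed degrees -/
structure Opt where
  N : ℕ
  e : ℕ
  v : ℕ
  T : List ℤ
  A : List ℤ

/-- the options at five -/
def opts5 : List Opt :=
  [
    ⟨231, 2, 192, [-154, -14, 11, 21, 66, 231],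
      [-33, 22, 42, 77, 462]⟩,
    ⟨231, 4, 96, [-154, -84, -44, -14, 11, 21, 66, 231],
      [-231, -66, -21, -11, 14, 44, 84, 154]⟩,
    ⟨616, 2, 72, [-154, -44, -14, 11, 16, 56, 176, 616],
      [-308, -88, -28, 22, 77, 112]⟩,
    ⟨616, 4, 36, [-224, -154, -44, -14, 11, 16, 56, 176, 616],
      [-616, -176, -56, -16, -11, 14, 44, 154, 224]⟩,
    ⟨1386, 2, 32, [-154, -99, -84, -44, -14, 11, 21, 36, 66, 126, 231, 396],
      [-308, -198, -63, -33, -28, -18, 12, 22, 42, 77, 132, 252, 462]⟩,
    ⟨1386, 4, 16, [-504, -264, -154, -99, -84, -44, -24, -14, 11, 21, 36, 56, 66, 126, 231, 396, 616],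
      [-616, -396, -231, -126, -66, -56, -36, -21, -11, 14, 24, 44, 84, 99, 154, 264, 504]⟩,
    ⟨3696, 2, 12, [-264, -224, -154, -84, -44, -24, -14, 11, 16, 21, 56, 66, 96, 176, 231, 336, 616],
      [-528, -308, -168, -88, -48, -33, -28, 12, 22, 32, 42, 77, 112, 132, 352, 462]⟩,
    ⟨3696, 4, 6, [-264, -224, -154, -84, -64, -44, -24, -14, 11, 16, 21, 56, 66, 96, 176, 231, 336, 616],
      [-616, -336, -231, -176, -96, -66, -56, -21, -16, -11, 14, 24, 44, 64, 84, 154, 224, 264]⟩,
    ⟨22176, 2, 2, [-504, -264, -224, -154, -144, -99, -84, -64, -44, -24, -14, 11, 16, 21, 36, 56, 66, 96, 126, 176, 231, 336, 396, 576, 616],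
      [-528, -448, -308, -288, -198, -168, -88, -63, -48, -33, -28, -18, 12, 22, 32, 42, 72, 77, 112, 132, 192, 252, 352, 462]⟩,
    ⟨22176, 4, 1, [-504, -384, -264, -224, -154, -144, -99, -84, -64, -44, -24, -14, -9, -4, 6, 11, 16, 21, 36, 56, 66, 96, 126, 176, 231, 336, 396, 576, 616],
      [-616, -576, -396, -336, -231, -176, -126, -96, -66, -56, -36, -21, -16, -11, -6, 4, 9, 14, 24, 44, 64, 84, 99, 144, 154, 224, 264, 384, 504]⟩]

/-- the options at seven -/
def opts7 : List Opt :=
  [
    ⟨330, 2, 96, [-132, -55, -20, 15, 22, 330],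
      [-110, -33, 30, 44, 660]⟩,
    ⟨330, 3, 64, [-90, -55, 15, 22, 99, 330],
      [-165, -18, 45, 66]⟩,
    ⟨330, 6, 32, [-132, -90, -55, -20, 15, 22, 36, 99, 330],
      [-330, -99, -36, -22, -15, 20, 55, 90, 132]⟩,
    ⟨2640, 2, 12, [-440, -160, -132, -55, -48, -20, 15, 22, 120, 176, 330],
      [-264, -110, -96, -40, -33, 16, 30, 44, 240, 352, 660]⟩,
    ⟨2640, 3, 8, [-440, -132, -90, -55, -48, -20, 15, 22, 36, 99, 120, 176, 330],
      [-396, -165, -144, -88, -60, -18, 24, 45, 66, 80, 220, 360, 528]⟩,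
    ⟨2640, 6, 4, [-440, -160, -132, -90, -55, -48, -20, 15, 22, 36, 99, 120, 176, 288, 330],
      [-330, -288, -176, -120, -99, -36, -22, -15, 20, 48, 55, 90, 132, 160, 440]⟩,
    ⟨21120, 3, 1, [-440, -384, -160, -132, -90, -55, -48, -20, -6, 8, 15, 22, 36, 64, 99, 120, 176, 288, 330],
      [-480, -396, -165, -144, -88, -60, -32, -18, -11, -4, 10, 24, 45, 66, 80, 192, 220, 360, 528, 640]⟩]

theorem opts5_num : opts5.all (fun o =>
    ((terms 5 (o.N * o.e) 443520 o.v 666 1).all fun z => o.T.contains z) &&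
      (terms 5 (o.N * o.e) 443520 o.v 666 (o.e : ℤ)).all fun z => o.A.contains z) = true := by decide +kernel

theorem opts7_num : opts7.all (fun o =>
    ((terms 7 (o.N * o.e) 443520 o.v 666 1).all fun z => o.T.contains z) &&
      (terms 7 (o.N * o.e) 443520 o.v 666 (o.e : ℤ)).all fun z => o.A.contains z) = true := by decide +kernel

theorem five_cases_num : ∀ N ∈ ([66, 176, 231, 336, 396, 616, 1056, 1386, 2016, 3696, 6336, 22176] : List ℕ),
    ∀ e ∈ Nat.divisors 4, 2 ≤ e → e ∣ 88704 / N →
      88704 / N / e % 7 = 0 ∨ 88704 / N / e % 11 = 0 ∨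
        opts5.any (fun o => o.N == N && o.e == e && o.v == 88704 / N / e) = true := by decide +kernel

theorem seven_cases_num : ∀ N ∈ ([120, 330, 960, 2640, 21120] : List ℕ),
    ∀ e ∈ Nat.divisors 6, 2 ≤ e → e ∣ 63360 / N →
      63360 / N / e % 11 = 0 ∨ opts7.any (fun o => o.N == N && o.e == e && o.v == 63360 / N / e) = true := by
  decide +kernel

theorem opts7_five : opts7.all (fun o => o.v % 5 != 0) = true := by decide +kernel

/-- the degrees in the block at eleven -/
def L11 (z : V4) : List ℕ :=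
  [1, z.1.natAbs, z.2.1.natAbs, z.2.2.1.natAbs, z.2.2.2.natAbs, (aOf z).natAbs, (aOf z).natAbs]

/-- the degrees in a block with given signed degrees -/
def Lp (p e : ℕ) (c : List ℤ) : List ℕ :=
  1 :: (c.map Int.natAbs ++ List.replicate ((p - 1) / e) (1 + c.sum).natAbs)

/-- the degrees not divisible by `q` occur as often in the second list -/
def sub (q : ℕ) (L M : List ℕ) : Bool := L.all fun d => d % q == 0 || decide (L.count d ≤ M.count d)

/-- ascending lists from a list -/
def asc (L : List ℤ) : ℕ → List (List ℤ)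
  | 0 => [[]]
  | k + 1 => L.flatMap fun x => ((asc L k).filter fun l => match l with
      | [] => true
      | y :: _ => decide (x ≤ y)).map (x :: ·)

theorem mem_asc {L : List ℤ} : ∀ {l : List ℤ}, l.Pairwise (· ≤ ·) → (∀ x ∈ l, x ∈ L) → l ∈ asc L l.length
  | [], _, _ => by simp [asc]
  | x :: l, hp, hm => by
    obtain ⟨hx, hl⟩ := List.pairwise_cons.1 hp
    have ih := mem_asc hl fun y hy => hm y (List.mem_cons_of_mem _ hy)
    simp only [List.length_cons, asc, List.mem_flatMap, List.mem_map, List.mem_filter]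
    refine ⟨x, hm x List.mem_cons_self, l, ⟨ih, ?_⟩, rfl⟩
    cases l with
    | nil => rfl
    | cons y t => exact decide_eq_true (hx y List.mem_cons_self)

/-- the candidates for a principal block -/
def bopts (z : V4) (p : ℕ) (o : Opt) : List (List ℤ) :=
  (asc (o.T.filter fun x => x.natAbs % 11 == 0 || (L11 z).contains x.natAbs) (o.e - 1)).filter fun c =>
    o.A.contains (1 + c.sum) && sub 11 (Lp p o.e c) (L11 z) && (o.v != 1 || sub p (L11 z) (Lp p o.e c))

end Cfsg.Lib.M22Order
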