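import Cfsg.Agent.M22Order.Eleven
import Cfsg.Agent.M22Order.TablesBlocks

/-!
The possible normalisers of the subgroups of orders five and seven.
-/

set_option autoImplicit false
set_option linter.unusedSectionVars false
set_option linter.style.haveILetI false
set_option maxRecDepth 100000

namespace Cfsg.Lib.M22Order

open Subgroup Cfsg.Lib.Chars Cfsg.Lib.Blocks Cfsg.Lib.Blocks.SmallOrder Cfsg.Lib.Blocks.SylowCount
  Cfsg.Lib.Blocks.DegreeEquation

universe u

variable {G : Type u} [Group G] [Fintype G] [IsSimpleGroup G]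

/-- the data at an element of prime order -/
structure Local (G : Type u) [Group G] [Fintype G] [IsSimpleGroup G] (p : ℕ) [Fact p.Prime] (o : Opt) where
  C : Cyc G p
  core : Core C
  idx_eq : idx C = o.N
  index : eC C = o.e
  card_V : Nat.card C.V = o.v

theorem Local.card_sylow {p : ℕ} [Fact p.Prime] {o : Opt} (L : Local G p o) : Nat.card (Sylow p G) = o.N := by
  obtain ⟨P, hP⟩ := L.core.sylow
  rw [← L.idx_eq, idx, hP]
  exact P.card_eq_index_normalizer

theorem centralizer_zpowers' (g : G) :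
    centralizer ((zpowers g : Subgroup G) : Set G) = centralizer ({g} : Set G) := by
  rw [Subgroup.zpowers_eq_closure, Subgroup.centralizer_closure]

theorem eleven_not_dvd_V (hG : Nat.card G = 443520) {p : ℕ} [Fact p.Prime] (hp : ¬ 11 ∣ p) (C : Cyc G p) :
    ¬ 11 ∣ Nat.card C.V := fun h => by
  have hy1 : C.y ≠ 1 := fun e => (Fact.out : p.Prime).ne_one (by rw [← C.order, e, orderOf_one])
  exact eleven_not_dvd hG hy1 (by rw [C.order]; exact hp) (h.trans ⟨p, by rw [mul_comm]; exact C.card_Cs⟩)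

variable (hG : Nat.card G = 443520)

include hG

/-- The data at a given element of order seven. -/
theorem exists_seven [Fact (Nat.Prime 7)] {g : G} (hg : orderOf g = 7) :
    ∃ o ∈ opts7, ∃ L : Local G 7 o, Nat.card ↥(centralizer ({g} : Set G)) = 7 * o.v ∧
      zpowers L.C.y = zpowers g := by
  obtain ⟨P, hP⟩ := Cfsg.Lib.M12Nse.exists_sylow_zpowers (card_sylow_eq hG (m := 63360) (by norm_num) (by norm_num)) hg
  obtain ⟨C, hC, hy, hidx, hm, he2⟩ := Cfsg.Lib.Small.DegreeGraph.exists_core (not_comm hG) (m := 63360)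
    (by rw [hG]) (by norm_num) P
  have hN : idx C ∈ ([120, 330, 960, 2640, 21120] : List ℕ) := hidx ▸ sylow_seven_cases hG P
  have hpos : 0 < idx C := by simp only [List.mem_cons, List.not_mem_nil, or_false] at hN; omega
  have hdiv : 63360 / idx C = eC C * Nat.card C.V := by rw [hm, Nat.mul_div_cancel_left _ hpos]
  have hv : 63360 / idx C / eC C = Nat.card C.V := by rw [hdiv, Nat.mul_div_cancel_left _ (by omega)]
  rcases seven_cases_num _ hN (eC C) (Nat.mem_divisors.2 ⟨eC_dvd C, by norm_num⟩) he2 (hdiv ▸ dvd_mul_right _ _)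
    with h | h
  · rw [hv] at h
    exact absurd (Nat.dvd_of_mod_eq_zero h) (eleven_not_dvd_V hG (by norm_num) C)
  obtain ⟨o, ho, he⟩ := List.any_eq_true.1 h
  simp only [Bool.and_eq_true, beq_iff_eq] at he
  obtain ⟨⟨e1, e2⟩, e3⟩ := he
  rw [hv] at e3
  refine ⟨o, ho, ⟨C, hC, e1.symm, e2.symm, e3.symm⟩, ?_, hy.trans hP⟩
  rw [← centralizer_zpowers', ← hP, ← hy, centralizer_zpowers', e3]
  exact C.card_Cs

/-- The data at a given element of order five. -/
theorem exists_five [Fact (Nat.Prime 5)] [Fact (Nat.Prime 7)] {g : G} (hg : orderOf g = 5) :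
    ∃ o ∈ opts5, ∃ L : Local G 5 o, Nat.card ↥(centralizer ({g} : Set G)) = 5 * o.v ∧
      zpowers L.C.y = zpowers g := by
  obtain ⟨P, hP⟩ := Cfsg.Lib.M12Nse.exists_sylow_zpowers (card_sylow_eq hG (m := 88704) (by norm_num) (by norm_num)) hg
  obtain ⟨C, hC, hy, hidx, hm, he2⟩ := Cfsg.Lib.Small.DegreeGraph.exists_core (not_comm hG) (m := 88704)
    (by rw [hG]) (by norm_num) P
  have hN := hidx ▸ sylow_five_cases hG P
  have hpos : 0 < idx C := by simp only [List.mem_cons, List.not_mem_nil, or_false] at hN; omega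
  have hdiv : 88704 / idx C = eC C * Nat.card C.V := by rw [hm, Nat.mul_div_cancel_left _ hpos]
  have hv : 88704 / idx C / eC C = Nat.card C.V := by rw [hdiv, Nat.mul_div_cancel_left _ (by omega)]
  rcases five_cases_num _ hN (eC C) (Nat.mem_divisors.2 ⟨eC_dvd C, by norm_num⟩) he2 (hdiv ▸ dvd_mul_right _ _)
    with h | h | h
  · exfalso
    rw [hv] at h
    obtain ⟨w0, hw0⟩ := exists_prime_orderOf_dvd_card' (G := C.V) 7 (Nat.dvd_of_mod_eq_zero h)
    set w : G := ((w0 : C.H) : G)
    have hw : orderOf w = 7 := by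
      rw [show w = ((w0 : C.H) : G) from rfl, Subgroup.orderOf_coe, Subgroup.orderOf_coe, hw0]
    obtain ⟨o, ho, L, hc, -⟩ := exists_seven hG hw
    have h5 := Cfsg.Lib.M12Nse.dvd_centralizer_orderOf (v := w) (a := C.y) (by
      have := (C.commute_V w0 1).eq.symm
      rwa [C.yP_one] at this)
    rw [C.order, hc] at h5
    have hv5 := List.all_eq_true.1 opts7_five o ho
    simp only [bne_iff_ne, ne_eq] at hv5
    rcases (Nat.Prime.dvd_mul (by norm_num)).1 h5 with h5 | h5
    · norm_num at h5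
    · omega
  · rw [hv] at h
    exact absurd (Nat.dvd_of_mod_eq_zero h) (eleven_not_dvd_V hG (by norm_num) C)
  obtain ⟨o, ho, he⟩ := List.any_eq_true.1 h
  simp only [Bool.and_eq_true, beq_iff_eq] at he
  obtain ⟨⟨e1, e2⟩, e3⟩ := he
  rw [hv] at e3
  refine ⟨o, ho, ⟨C, hC, e1.symm, e2.symm, e3.symm⟩, ?_, hy.trans hP⟩
  rw [← centralizer_zpowers', ← hP, ← hy, centralizer_zpowers', e3]
  exact C.card_Cs

end Cfsg.Lib.M22Order
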