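import Cfsg.Agent.Blocks.DegreeEquation.Check

/-!
Finite searches for a simple group of order 443520: the Sylow numbers and the block at eleven.
-/

set_option autoImplicit false
set_option maxRecDepth 100000

namespace Cfsg.Lib.M22Order

open Cfsg.Lib.Blocks.DegreeEquation

/-- quadruples of integers -/
abbrev V4 : Type := ℤ × ℤ × ℤ × ℤ

/-- a quadruple -/
def q4 (a b c d : ℤ) : V4 := (a, b, c, d)

/-- a row of the table of values -/
def row (C : ℕ) (a b c d : ℤ) : ℕ × V4 := (C, a, b, c, d)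

/-- the list of the entries -/
def ls (v : V4) : List ℤ := [v.1, v.2.1, v.2.2.1, v.2.2.2]

theorem sylow_eleven_num : ∀ a ∈ Nat.divisors 1152, ∀ b ∈ Nat.divisors 35, a * b % 11 = 1 →
    a * b ∈ ([144, 8064] : List ℕ) ∨ checkN 11 40320 666 (a * b) = true := by decide +kernel

theorem sylow_seven_num : ∀ a ∈ Nat.divisors 1152, ∀ b ∈ Nat.divisors 55, a * b % 7 = 1 →
    a * b ∈ ([120, 330, 960, 2640, 21120] : List ℕ) ∨ checkN 7 63360 666 (a * b) = true := by decide +kernel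

theorem sylow_five_num : ∀ a ∈ Nat.divisors 1152, ∀ b ∈ Nat.divisors 77, a * b % 5 = 1 →
    a * b ∈ ([66, 176, 231, 336, 396, 616, 1056, 1386, 2016, 3696, 6336, 22176] : List ℕ) ∨
      checkN 5 88704 666 (a * b) = true := by decide +kernel

/-- the signed degrees in the principal block at eleven -/
def degL : List ℤ := terms 11 40320 443520 1 666 1

/-- the signed exceptional degree -/
def excL : List ℤ := terms 11 40320 443520 1 666 5

/-- the sorted solutions of the degree equation -/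
def zOpts : List V4 :=
  [
    q4 (-560) 45 144 210, q4 (-384) (-252) 210 320, q4 (-384) (-32) (-10) 320,
    q4 (-384) (-32) 45 210, q4 (-384) (-21) (-21) 320, q4 (-384) (-21) 12 56,
    q4 (-384) (-21) 12 320, q4 (-384) (-21) 56 320, q4 (-384) (-21) 144 320,
    q4 (-384) (-21) 210 210, q4 (-384) (-21) 210 320, q4 (-384) (-10) 12 45,
    q4 (-384) (-10) 45 320, q4 (-384) (-10) 144 144, q4 (-384) 12 45 320, q4 (-384) 12 56 210,
    q4 (-384) 45 56 210, q4 (-384) 45 144 210, q4 (-384) 45 144 320, q4 (-384) 45 210 320,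
    q4 (-252) (-120) (-21) 56, q4 (-252) (-120) (-21) 320, q4 (-252) (-120) (-10) 45,
    q4 (-252) (-120) 45 320, q4 (-252) (-120) 56 210, q4 (-252) (-32) (-32) (-21),
    q4 (-252) (-32) (-32) 210, q4 (-252) (-32) (-21) 144, q4 (-252) (-32) (-21) 320,
    q4 (-252) (-32) 45 210, q4 (-252) (-21) (-10) 210, q4 (-252) (-21) 12 320,
    q4 (-252) (-21) 56 56, q4 (-252) (-21) 56 144, q4 (-252) (-21) 56 210, q4 (-252) (-21) 144 144,
    q4 (-252) (-21) 144 320, q4 (-252) (-10) 12 144, q4 (-252) (-10) 45 56, q4 (-252) (-10) 45 144,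
    q4 (-252) (-10) 45 210, q4 (-252) 12 45 210, q4 (-252) 12 45 320, q4 (-252) 45 45 56,
    q4 (-252) 45 56 144, q4 (-252) 45 56 210, q4 (-120) (-120) (-21) 320,
    q4 (-120) (-120) (-10) 144, q4 (-120) (-120) 45 210, q4 (-120) (-120) 45 320,
    q4 (-120) (-32) (-21) 12, q4 (-120) (-32) (-21) 144, q4 (-120) (-32) (-10) 56,
    q4 (-120) (-21) (-21) 56, q4 (-120) (-21) (-10) (-10), q4 (-120) (-21) (-10) 45,
    q4 (-120) (-21) (-10) 144, q4 (-120) (-21) (-10) 210, q4 (-120) (-21) 12 56,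
    q4 (-120) (-21) 12 144, q4 (-120) (-21) 12 320, q4 (-120) (-21) 56 56, q4 (-120) (-21) 56 144,
    q4 (-120) (-21) 56 210, q4 (-120) (-21) 210 210, q4 (-120) (-10) 12 12, q4 (-120) (-10) 12 45,
    q4 (-120) (-10) 45 56, q4 (-120) (-10) 45 144, q4 (-120) (-10) 45 210, q4 (-120) 12 45 56,
    q4 (-120) 45 45 45, q4 (-120) 45 56 144, q4 (-120) 45 56 210, q4 (-120) 45 144 210,
    q4 (-32) (-32) (-32) (-10), q4 (-32) (-32) (-21) (-21), q4 (-32) (-32) (-21) 12,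
    q4 (-32) (-32) (-21) 56, q4 (-32) (-32) (-21) 144, q4 (-32) (-32) (-21) 210,
    q4 (-32) (-32) (-10) 45, q4 (-32) (-32) 12 45, q4 (-32) (-32) 45 144, q4 (-32) (-32) 45 210,
    q4 (-32) (-21) (-21) 45, q4 (-32) (-21) (-10) (-10), q4 (-32) (-21) (-10) 56,
    q4 (-32) (-21) 12 12, q4 (-32) (-21) 12 56, q4 (-32) (-21) 12 320, q4 (-32) (-21) 56 56,
    q4 (-32) (-10) (-10) 45, q4 (-32) (-10) 12 45, q4 (-32) (-10) 45 56, q4 (-32) 45 56 56,
    q4 (-32) 45 56 210, q4 (-21) (-21) (-21) (-10), q4 (-21) (-21) (-21) 56,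
    q4 (-21) (-21) (-10) 45, q4 (-21) (-21) 12 45, q4 (-21) (-21) 45 56, q4 (-21) (-10) (-10) 12,
    q4 (-21) (-10) (-10) 56, q4 (-21) (-10) (-10) 320, q4 (-21) (-10) 12 12, q4 (-21) (-10) 12 144,
    q4 (-21) (-10) 12 210, q4 (-21) (-10) 45 45, q4 (-21) 12 12 12, q4 (-21) 12 12 56,
    q4 (-21) 12 56 144, q4 (-21) 12 144 144, q4 (-21) 45 45 56, q4 (-21) 45 45 210,
    q4 (-10) (-10) (-10) 45, q4 (-10) 12 12 45, q4 (-10) 12 45 144, q4 (-10) 45 45 45,
    q4 12 12 45 56, q4 12 12 45 210, q4 45 45 45 56, q4 45 45 45 144]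

/-- the special solution -/
def zSp : V4 := (-21, 45, 45, 210)

theorem zOpts_num : degL.all (fun a => degL.all fun b => !decide (a ≤ b) ||
    degL.all fun c => !decide (b ≤ c) || degL.all fun d => !decide (c ≤ d) ||
      !excL.contains (1 + (a + b + c + d)) ||
        decide (443520 < 1 + (a * a + b * b + c * c + d * d) + 2 * ((1 + (a + b + c + d)) * (1 + (a + b + c + d)))) ||
        zOpts.contains (a, b, c, d)) = true := by decide +kernel

/-- the sign -/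
def sgn (x : ℤ) : ℤ := if 0 < x then 1 else -1

/-- the signed exceptional degree of a solution -/
def aOf (z : V4) : ℤ := 1 + (z.1 + z.2.1 + z.2.2.1 + z.2.2.2)

/-- the exceptional value determined by the others -/
def lin (z : V4) (k : ℤ) (r : V4) : ℤ :=
  sgn (aOf z) * (k + (sgn z.1 * r.1 + sgn z.2.1 * r.2.1 + sgn z.2.2.1 * r.2.2.1 + sgn z.2.2.2 * r.2.2.2))

/-- the common denominator -/
def den (z : V4) : ℤ :=
  ((aOf z).natAbs : ℤ) * (z.1.natAbs * (z.2.1.natAbs * (z.2.2.1.natAbs * z.2.2.2.natAbs)))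

/-- the sum of the values divided by the degrees -/
def base (z : V4) (k : ℤ) (r : V4) : ℤ :=
  k * den z + (r.1 * (den z / z.1.natAbs) + r.2.1 * (den z / z.2.1.natAbs) +
    r.2.2.1 * (den z / z.2.2.1.natAbs) + r.2.2.2 * (den z / z.2.2.2.natAbs))

/-- integrality of the numbers of pairs of elements of order eleven with product in a class -/
def multOK (z : V4) (k : ℤ) (d : ℕ) (r : V4) : Bool :=
  [6, -5].all fun m : ℤ =>
    let n := base z k r + m * lin z k r * (den z / (aOf z).natAbs)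
    decide (0 ≤ n) && ((40320 * n) % (11 * d * den z) == 0)

/-- no product of two involutions is an element of order eleven -/
def quad (z r : V4) : ℤ :=
  let D := aOf z * (z.1 * (z.2.1 * (z.2.2.1 * z.2.2.2)))
  D + (r.1 * r.1 * (D / z.1) + r.2.1 * r.2.1 * (D / z.2.1) + r.2.2.1 * r.2.2.1 * (D / z.2.2.1) +
    r.2.2.2 * r.2.2.2 * (D / z.2.2.2)) - lin z 1 r * lin z 1 r * (D / aOf z)

/-- the squares of the values in the block -/
def blockSq (z : V4) (k : ℤ) (r : V4) : ℤ :=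
  k * k + (r.1 * r.1 + r.2.1 * r.2.1 + r.2.2.1 * r.2.2.1 + r.2.2.2 * r.2.2.2) +
    2 * (lin z k r * lin z k r)

/-- a bound for the values -/
def rbd (C : ℕ) : ℕ :=
  if C ≤ 64 then 8 else if C ≤ 256 then 16 else if C ≤ 1024 then 32 else if C ≤ 8281 then 92 else C

theorem lt_rbd {C : ℕ} {r : ℤ} (h : r * r < (C : ℤ)) : r.natAbs < rbd C := by
  have h1 : r.natAbs * r.natAbs < C := by
    have h2 : ((r.natAbs * r.natAbs : ℕ) : ℤ) = r * r := Int.natAbs_mul_self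
    omega
  by_contra hh
  have := Nat.mul_le_mul (not_lt.1 hh) (not_lt.1 hh)
  rw [rbd] at this
  split_ifs at this <;> nlinarith

/-- possible values of an involution -/
def rs (C : ℕ) (z : ℕ) : List ℤ :=
  let M := min z (rbd C)
  let o : ℕ := ((z + 4 * M) - (4 * M - M)) % 4
  ((List.range (M / 2 + 1)).map fun i : ℕ => ((o + 4 * i : ℕ) : ℤ) - M).filter fun r =>
    decide (r * r < C) && (((z : ℤ) - r) % 4 == 0) && decide (r.natAbs < z) &&
      ((((443520 / C : ℕ) : ℤ) * r) % (z : ℤ) == 0)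

/-- the conditions on the values of an involution -/
def invOK (z : V4) (C : ℕ) (r : V4) : Bool :=
  let w := lin z 1 r
  decide (w.natAbs < (aOf z).natAbs) && ((((aOf z).natAbs : ℤ) - w) % 4 == 0) &&
    decide (blockSq z 1 r ≤ C) && ((((443520 / C : ℕ) : ℤ) * w) % (aOf z).natAbs == 0) &&
      (quad z r == 0) && multOK z 1 C r

/-- the even divisors of 40320 -/
def evenDvs : List ℕ :=
  [
    2, 4, 6, 8, 10, 12, 14, 16, 18, 20, 24, 28, 30, 32, 36, 40, 42, 48, 56, 60, 64, 70, 72, 80, 84,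
    90, 96, 112, 120, 126, 128, 140, 144, 160, 168, 180, 192, 210, 224, 240, 252, 280, 288, 320,
    336, 360, 384, 420, 448, 480, 504, 560, 576, 630, 640, 672, 720, 840, 896, 960, 1008, 1120,
    1152, 1260, 1344, 1440, 1680, 1920, 2016, 2240, 2520, 2688, 2880, 3360, 4032, 4480, 5040, 5760,
    6720, 8064, 10080, 13440, 20160, 40320]

theorem mem_evenDvs : ∀ a ∈ Nat.divisors 1152, ∀ b ∈ Nat.divisors 35, a * b % 2 = 0 → a * b ∈ evenDvs := by
  decide +kernel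

/-- quadruples from four lists with bounded squares and a condition on a signed sum -/
def search (C : ℤ) (s1 s2 s3 s4 : ℤ) (good : ℤ → V4 → Bool) (l₁ l₂ l₃ l₄ : List ℤ) : List V4 :=
  l₁.flatMap fun a => l₂.flatMap fun b =>
    if C < 1 + a * a + b * b then [] else l₃.flatMap fun c =>
      if C < 1 + a * a + b * b + c * c then [] else
        (l₄.filter fun d => decide (1 + a * a + b * b + c * c + d * d ≤ C) &&
          good (1 + (s1 * a + s2 * b + s3 * c + s4 * d)) (a, b, c, d)).map fun d => (a, b, c, d)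

theorem mem_search {C : ℤ} {s1 s2 s3 s4 : ℤ} {good : ℤ → V4 → Bool} {l₁ l₂ l₃ l₄ : List ℤ} {v : V4}
    (h₁ : v.1 ∈ l₁) (h₂ : v.2.1 ∈ l₂) (h₃ : v.2.2.1 ∈ l₃) (h₄ : v.2.2.2 ∈ l₄)
    (hC : 1 + v.1 * v.1 + v.2.1 * v.2.1 + v.2.2.1 * v.2.2.1 + v.2.2.2 * v.2.2.2 ≤ C)
    (hg : good (1 + (s1 * v.1 + s2 * v.2.1 + s3 * v.2.2.1 + s4 * v.2.2.2)) v = true) :
    v ∈ search C s1 s2 s3 s4 good l₁ l₂ l₃ l₄ := by
  obtain ⟨a, b, c, d⟩ := v
  simp only at h₁ h₂ h₃ h₄ hC hg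
  have h2 : ¬ C < 1 + a * a + b * b := by nlinarith [mul_self_nonneg c, mul_self_nonneg d]
  have h3 : ¬ C < 1 + a * a + b * b + c * c := by nlinarith [mul_self_nonneg d]
  simp only [search, List.mem_flatMap]
  refine ⟨a, h₁, b, h₂, ?_⟩
  rw [if_neg h2, List.mem_flatMap]
  refine ⟨c, h₃, ?_⟩
  rw [if_neg h3, List.mem_map]
  exact ⟨d, List.mem_filter.2 ⟨h₄, by simp [hC, hg]⟩, rfl⟩

/-- the possible values of an involution with given centraliser -/
def invSols (z : V4) (C : ℕ) : List V4 :=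
  search (C : ℤ) (sgn z.1) (sgn z.2.1) (sgn z.2.2.1) (sgn z.2.2.2)
    (fun w r => decide (w.natAbs < (aOf z).natAbs) && ((((aOf z).natAbs : ℤ) - sgn (aOf z) * w) % 4 == 0) &&
      invOK z C r)
    (rs C z.1.natAbs) (rs C z.2.1.natAbs) (rs C z.2.2.1.natAbs) (rs C z.2.2.2.natAbs)

/-- values of involutions, case 0 -/
def inv0 : List (ℕ × V4) :=
  [
    row 80 0 1 5 0, row 80 0 5 1 0, row 96 0 1 5 0, row 96 0 5 1 0, row 120 0 1 5 0,
    row 120 0 5 1 0, row 128 0 1 5 0, row 128 0 5 1 0, row 160 0 1 5 0, row 160 0 5 1 0,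
    row 192 0 1 5 0, row 192 0 5 1 0, row 240 0 1 5 0, row 240 0 5 1 0, row 320 0 1 5 0,
    row 320 0 5 1 0, row 384 0 1 5 0, row 384 0 5 1 0, row 480 0 1 5 0, row 480 0 5 1 0,
    row 640 0 1 5 0, row 640 0 5 1 0, row 960 0 1 5 0, row 960 0 5 1 0, row 1920 0 1 5 0,
    row 1920 0 5 1 0]

/-- values of involutions, case 1 -/
def inv1 : List (ℕ × V4) :=
  [
    row 96 0 5 (-2) 6, row 96 0 5 6 (-2), row 128 0 5 (-2) 6, row 128 0 5 6 (-2),
    row 192 0 5 (-2) 6, row 192 0 5 6 (-2), row 384 0 5 (-2) 6, row 384 0 5 6 (-2)]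

/-- values of involutions, case 2 -/
def inv2 : List (ℕ × V4) :=
  [
    row 240 0 5 10 0, row 320 0 5 10 0, row 384 0 5 10 0, row 480 0 5 10 0, row 640 0 5 10 0,
    row 960 0 5 10 0, row 1920 0 5 10 0]

/-- values of involutions, case 3 -/
def inv3 : List (ℕ × V4) :=
  [
    row 960 12 0 5 0, row 1920 12 0 (-11) (-16), row 1920 12 0 (-11) 16, row 1920 12 0 5 0]

/-- values of involutions, case 4 -/
def inv4 : List (ℕ × V4) :=
  [
    row 384 (-12) 8 0 (-2)]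

/-- values of involutions, case 5 -/
def inv5 : List (ℕ × V4) :=
  [
    row 360 0 (-4) (-4) (-3), row 720 0 (-4) (-4) (-3), row 960 12 0 0 5, row 1920 12 0 0 5]

/-- values of involutions, case 6 -/
def inv6 : List (ℕ × V4) :=
  [
    row 2016 0 24 (-2) 0, row 2016 24 0 (-2) 0, row 2688 0 24 (-2) 0, row 2688 24 0 (-2) 0,
    row 4032 0 24 (-2) 0, row 4032 24 0 (-2) 0, row 8064 0 24 (-2) 0, row 8064 24 0 (-2) 0]

/-- values of involutions, case 7 -/
def inv7 : List (ℕ × V4) :=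
  [
    row 672 (-16) 0 (-3) (-14), row 672 0 (-16) (-3) (-14), row 896 (-16) 0 (-3) (-14),
    row 896 0 (-16) (-3) (-14), row 1344 (-16) 0 (-3) (-14), row 1344 0 (-16) (-3) (-14),
    row 2688 (-16) 0 (-3) (-14), row 2688 0 (-16) (-3) (-14)]

/-- values of involutions, case 8 -/
def inv8 : List (ℕ × V4) :=
  [
    row 896 0 8 (-7) 0, row 896 8 0 (-7) 0, row 4480 0 40 25 0, row 4480 40 0 25 0]

/-- values of involutions, case 9 -/
def inv9 : List (ℕ × V4) :=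
  [
    row 2016 24 0 (-2) 0, row 2688 24 0 (-2) 0, row 4032 24 0 (-2) 0, row 4032 36 16 (-2) 28,
    row 8064 24 0 (-2) 0]

/-- values of involutions, case 10 -/
def inv10 : List (ℕ × V4) :=
  [
    row 80 0 1 5 0, row 80 0 5 1 0, row 96 (-4) 1 5 4, row 96 (-4) 5 1 4, row 96 0 1 5 0,
    row 96 0 5 1 0, row 120 0 1 5 0, row 120 0 5 1 0, row 128 0 1 5 0, row 128 0 5 1 0,
    row 160 0 1 5 0, row 160 0 5 1 0, row 192 (-8) (-3) 5 (-8), row 192 (-8) 5 (-3) (-8),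
    row 192 (-4) (-3) 5 4, row 192 (-4) 1 5 4, row 192 (-4) 5 (-3) 4, row 192 (-4) 5 1 4,
    row 192 0 1 5 0, row 192 0 5 1 0, row 192 8 (-3) 5 8, row 192 8 5 (-3) 8, row 240 0 1 5 0,
    row 240 0 5 1 0, row 320 0 1 5 0, row 320 0 5 1 0, row 384 (-8) (-3) 5 (-8),
    row 384 (-8) 5 (-3) (-8), row 384 (-8) 5 5 (-8), row 384 0 1 5 0, row 384 0 5 1 0,
    row 384 8 (-7) 1 (-8), row 384 8 (-3) 5 8, row 384 8 1 (-7) (-8), row 384 8 5 (-3) 8,
    row 384 8 5 5 8, row 480 0 (-11) 1 (-16), row 480 0 1 (-11) (-16), row 480 0 1 5 0,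
    row 480 0 5 1 0, row 576 12 (-3) (-3) (-4), row 640 0 (-11) 1 (-16), row 640 0 1 (-11) (-16),
    row 640 0 1 5 0, row 640 0 5 1 0, row 960 (-20) 1 1 (-4), row 960 0 (-11) 1 (-16),
    row 960 0 1 (-11) (-16), row 960 0 1 5 0, row 960 0 5 1 0, row 960 20 (-3) 1 12,
    row 960 20 1 (-3) 12, row 1920 0 (-11) 1 (-16), row 1920 0 1 (-11) (-16), row 1920 0 1 5 0,
    row 1920 0 5 1 0]

/-- values of involutions, case 11 -/
def inv11 : List (ℕ × V4) :=
  [
    row 336 8 (-7) 2 9, row 384 8 (-7) 2 9, row 448 8 (-7) 2 9, row 672 8 (-7) 2 9,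
    row 896 8 (-7) 2 9, row 1344 8 (-7) 2 9, row 2688 8 (-7) 2 9]

/-- values of involutions, case 12 -/
def inv12 : List (ℕ × V4) :=
  [
    row 240 0 5 0 10, row 320 0 (-7) 8 (-10), row 320 0 5 0 10, row 384 0 (-7) 8 (-10),
    row 384 0 5 0 10, row 480 0 (-7) 8 (-10), row 480 0 5 0 10, row 640 0 (-11) (-16) 10,
    row 640 0 (-7) 8 (-10), row 640 0 5 0 10, row 960 0 (-11) (-16) 10, row 960 0 (-7) 8 (-10),
    row 960 0 1 (-8) (-10), row 960 0 1 8 10, row 960 0 5 0 10, row 960 20 (-3) 12 10,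
    row 1920 0 (-11) (-16) 10, row 1920 0 (-7) 8 (-10), row 1920 0 1 (-8) (-10), row 1920 0 1 8 10,
    row 1920 0 5 0 10]

/-- values of involutions, case 13 -/
def inv13 : List (ℕ × V4) :=
  [
    row 96 0 5 (-2) 6, row 96 0 5 6 (-2), row 128 0 5 (-2) 6, row 128 0 5 6 (-2),
    row 192 0 5 (-2) 6, row 192 0 5 6 (-2), row 384 (-8) (-3) (-6) 2, row 384 (-8) (-3) 2 (-6),
    row 384 0 5 (-2) 6, row 384 0 5 6 (-2), row 384 8 (-3) (-6) 2, row 384 8 (-3) 2 (-6),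
    row 672 8 (-7) (-14) 14, row 672 8 (-7) 14 (-14), row 896 8 (-7) (-14) 14,
    row 896 8 (-7) 14 (-14), row 1152 0 (-3) 6 6, row 1152 0 9 (-18) 18, row 1152 0 9 18 (-18),
    row 1344 8 (-7) (-14) 14, row 1344 8 (-7) 14 (-14), row 2688 8 (-7) (-14) 14,
    row 2688 8 (-7) 14 (-14)]

/-- values of involutions, case 14 -/
def inv14 : List (ℕ × V4) :=
  [
    row 336 8 (-6) 4 4, row 384 8 (-6) 4 4, row 448 8 (-6) 4 4, row 672 8 (-6) 4 4,
    row 896 8 (-6) 4 4, row 1344 8 (-6) 4 4, row 2016 24 (-2) 0 0, row 2688 8 (-6) 4 4,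
    row 2688 24 (-2) 0 0, row 4032 24 (-2) 0 0, row 8064 24 (-2) 0 0]

/-- values of involutions, case 15 -/
def inv15 : List (ℕ × V4) :=
  [
    row 224 8 6 4 9, row 336 8 6 4 9, row 384 8 6 4 9, row 448 8 6 4 9, row 672 8 6 4 9,
    row 896 8 6 4 9, row 1344 8 6 4 9, row 2688 8 6 4 9, row 2688 32 (-6) 4 21, row 2688 32 6 4 9]

/-- values of involutions, case 16 -/
def inv16 : List (ℕ × V4) :=
  [
    row 112 (-8) 2 (-3) 0, row 128 (-8) 2 (-3) 0, row 168 (-8) 2 (-3) 0, row 192 (-8) 2 (-3) 0,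
    row 224 (-8) 2 (-3) 0, row 224 0 2 1 (-8), row 224 0 2 1 8, row 336 (-8) 2 (-3) 0,
    row 384 (-8) 2 (-3) 0, row 384 0 (-2) 9 0, row 384 16 (-2) 9 0, row 448 (-16) 2 (-7) (-8),
    row 448 (-8) (-2) 5 (-8), row 448 (-8) 2 (-3) 0, row 448 (-8) 6 (-11) 8, row 448 0 (-2) 9 0,
    row 448 0 2 1 (-8), row 448 0 2 1 8, row 448 0 6 (-7) 16, row 448 8 (-2) 5 (-8),
    row 448 8 (-2) 5 8, row 448 16 (-2) 9 0, row 504 0 (-2) 9 0, row 576 0 (-2) 9 0,
    row 672 (-16) 6 (-15) 0, row 672 (-8) 2 (-3) 0, row 672 0 (-2) 9 0, row 672 16 (-2) 9 0,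
    row 896 (-16) (-2) 1 (-16), row 896 (-16) 6 (-15) 0, row 896 (-8) 2 (-3) 0, row 896 0 (-2) 9 0,
    row 896 0 6 (-7) 16, row 896 8 2 5 16, row 896 16 (-2) 1 16, row 896 16 (-2) 9 0,
    row 1008 0 (-2) 9 0, row 1152 0 (-2) 9 0, row 1344 (-24) (-2) (-3) (-24),
    row 1344 (-16) 6 (-15) 0, row 1344 (-8) 2 (-3) 0, row 1344 0 (-2) 9 0, row 1344 8 6 (-3) 24,
    row 1344 16 (-2) 9 0, row 1344 24 (-2) (-3) 24, row 2016 0 (-2) 9 0, row 2688 (-16) 6 (-15) 0,
    row 2688 (-8) 2 (-3) 0, row 2688 0 (-2) 9 0, row 2688 16 (-2) 9 0, row 4032 0 (-2) 9 0,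
    row 8064 0 (-2) 9 0]

/-- values of involutions, case 17 -/
def inv17 : List (ℕ × V4) :=
  [
    row 192 (-8) (-2) (-3) (-2), row 192 (-8) 2 (-3) 2, row 192 8 (-2) (-3) 2,
    row 384 (-8) (-2) (-3) (-2), row 384 (-8) 2 (-3) 2, row 384 8 (-2) (-3) 2,
    row 896 (-8) (-6) 13 (-14), row 896 0 2 1 (-14), row 896 0 2 1 14, row 896 8 (-2) 5 (-14),
    row 896 8 (-2) 5 14, row 896 8 6 13 (-14), row 896 8 6 13 14, row 1152 0 (-2) 9 6]

/-- values of involutions, case 18 -/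
def inv18 : List (ℕ × V4) :=
  [
    row 896 8 (-7) 0 0, row 4480 40 25 0 0]

/-- values of involutions, case 19 -/
def inv19 : List (ℕ × V4) :=
  [
    row 672 (-16) (-3) 0 (-14), row 896 (-16) (-3) 0 (-14), row 1344 (-16) (-3) 0 (-14),
    row 2688 (-16) (-3) 0 (-14)]

/-- values of involutions, case 20 -/
def inv20 : List (ℕ × V4) :=
  [
    row 672 (-16) (-3) 0 (-14), row 896 (-16) (-3) 0 (-14), row 1344 (-16) (-3) 0 (-14),
    row 2688 (-16) (-3) 0 (-14)]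

/-- values of involutions, case 21 -/
def inv21 : List (ℕ × V4) :=
  [
    row 80 0 0 1 5, row 80 0 0 5 1, row 96 0 0 1 5, row 96 0 0 5 1, row 120 0 0 1 5,
    row 120 0 0 5 1, row 128 0 0 1 5, row 128 0 0 5 1, row 160 0 0 1 5, row 160 0 0 5 1,
    row 192 0 0 1 5, row 192 0 0 5 1, row 240 0 0 1 5, row 240 0 0 5 1, row 320 0 0 1 5,
    row 320 0 0 5 1, row 384 0 0 1 5, row 384 0 0 5 1, row 480 0 0 1 5, row 480 0 0 5 1,
    row 640 0 0 1 5, row 640 0 0 5 1, row 960 0 0 1 5, row 960 0 0 5 1, row 1920 0 0 1 5,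
    row 1920 0 0 5 1]

/-- values of involutions, case 22 -/
def inv22 : List (ℕ × V4) :=
  [
    row 240 0 0 5 10, row 320 0 0 5 10, row 384 0 0 5 10, row 480 0 0 5 10, row 640 0 0 5 10,
    row 960 0 0 5 10, row 1920 0 0 5 10]

/-- values of involutions, case 23 -/
def inv23 : List (ℕ × V4) :=
  [
    row 384 0 (-2) 9 0, row 448 0 (-2) 9 0, row 504 0 (-2) 9 0, row 576 0 (-2) 9 0,
    row 672 0 (-2) 9 0, row 896 0 (-2) 9 0, row 1008 0 (-2) 9 0, row 1152 0 (-2) 9 0,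
    row 1344 0 (-2) 9 0, row 2016 0 (-2) 9 0, row 2688 0 (-2) 9 0, row 4032 0 (-2) 9 0,
    row 8064 0 (-2) 9 0]

/-- values of involutions, case 24 -/
def inv24 : List (ℕ × V4) :=
  [
    row 480 5 5 9 16, row 480 5 9 5 16, row 480 9 5 5 16, row 640 5 5 9 16, row 640 5 9 5 16,
    row 640 9 5 5 16, row 960 1 9 13 24, row 960 1 13 9 24, row 960 5 5 9 16, row 960 5 9 5 16,
    row 960 9 1 13 24, row 960 9 5 5 16, row 960 9 13 1 24, row 960 13 1 9 24, row 960 13 9 1 24,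
    row 1920 1 9 13 24, row 1920 1 13 9 24, row 1920 5 5 9 16, row 1920 5 9 5 16,
    row 1920 9 1 13 24, row 1920 9 5 5 16, row 1920 9 13 1 24, row 1920 9 13 13 32,
    row 1920 13 1 9 24, row 1920 13 9 1 24, row 1920 13 9 13 32, row 1920 13 13 9 32]

/-- values of involutions, case 25 -/
def inv25 : List (ℕ × V4) :=
  [
    row 384 9 (-3) 9 8, row 384 9 9 (-3) 8]

/-- values of involutions, case 26 -/
def inv26 : List (ℕ × V4) :=
  [
    row 192 5 (-3) (-3) 2, row 384 5 (-3) (-3) 2, row 1152 9 9 9 6]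

/-- values of involutions, case 27 -/
def inv27 : List (ℕ × V4) :=
  [
    row 24 (-2) (-2) 2 (-3), row 24 (-2) 2 (-2) (-3), row 24 2 (-2) (-2) (-3),
    row 28 (-2) (-2) 2 (-3), row 28 (-2) 2 (-2) (-3), row 28 2 (-2) (-2) (-3),
    row 32 (-2) (-2) 2 (-3), row 32 (-2) 2 (-2) (-3), row 32 2 (-2) (-2) (-3),
    row 42 (-2) (-2) 2 (-3), row 42 (-2) 2 (-2) (-3), row 42 2 (-2) (-2) (-3),
    row 48 (-2) (-2) 2 (-3), row 48 (-2) 2 (-2) (-3), row 48 2 (-2) (-2) (-3),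
    row 56 (-2) (-2) 2 (-3), row 56 (-2) 2 (-2) (-3), row 56 2 (-2) (-2) (-3),
    row 64 (-2) (-2) 2 (-3), row 64 (-2) 2 (-2) (-3), row 64 2 (-2) (-2) (-3),
    row 84 (-2) (-2) 2 (-3), row 84 (-2) 2 (-2) (-3), row 84 2 (-2) (-2) (-3),
    row 96 (-2) (-2) 2 (-3), row 96 (-2) 2 (-2) (-3), row 96 2 (-2) (-2) (-3),
    row 112 (-2) (-2) 2 (-3), row 112 (-2) 2 (-2) (-3), row 112 2 (-2) (-2) (-3),
    row 128 (-2) (-2) 2 (-3), row 128 (-2) 2 (-2) (-3), row 128 2 (-2) (-2) (-3),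
    row 168 (-2) (-2) 2 (-3), row 168 (-2) 2 (-2) (-3), row 168 2 (-2) (-2) (-3),
    row 192 (-2) (-2) 2 (-3), row 192 (-2) 2 (-2) (-3), row 192 2 (-2) (-2) (-3),
    row 224 (-2) (-2) 2 (-3), row 224 (-2) 2 (-2) (-3), row 224 2 (-2) (-2) (-3),
    row 336 (-2) (-2) 2 (-3), row 336 (-2) 2 (-2) (-3), row 336 2 (-2) (-2) (-3),
    row 384 (-2) (-2) 2 (-3), row 384 (-2) 2 (-2) (-3), row 384 2 (-2) (-2) (-3),
    row 448 (-2) (-2) 2 (-3), row 448 (-2) 2 (-2) (-3), row 448 2 (-2) (-2) (-3),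
    row 672 (-2) (-2) 2 (-3), row 672 (-2) 2 (-2) (-3), row 672 2 (-2) (-2) (-3),
    row 896 (-2) (-2) 2 (-3), row 896 (-2) 2 (-2) (-3), row 896 2 (-2) (-2) (-3),
    row 1344 (-2) (-2) 2 (-3), row 1344 (-2) 2 (-2) (-3), row 1344 2 (-2) (-2) (-3),
    row 2688 (-2) (-2) 2 (-3), row 2688 (-2) 2 (-2) (-3), row 2688 2 (-2) (-2) (-3)]

/-- values of involutions, case 28 -/
def inv28 : List (ℕ × V4) :=
  [
    row 112 (-6) (-4) 4 (-3), row 112 (-6) 4 (-4) (-3), row 128 (-6) (-4) 4 (-3),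
    row 128 (-6) 4 (-4) (-3), row 168 (-6) (-4) 4 (-3), row 168 (-6) 4 (-4) (-3),
    row 192 (-6) (-4) 4 (-3), row 192 (-6) 4 (-4) (-3), row 224 (-6) (-4) 4 (-3),
    row 224 (-6) 4 (-4) (-3), row 336 (-6) (-4) 4 (-3), row 336 (-6) 4 (-4) (-3),
    row 384 (-6) (-4) 4 (-3), row 384 (-6) 4 (-4) (-3), row 384 (-2) 0 0 9,
    row 448 (-6) (-4) 4 (-3), row 448 (-6) 4 (-4) (-3), row 448 (-2) 0 0 9, row 504 (-2) 0 0 9,
    row 576 (-2) 0 0 9, row 672 (-6) (-4) 4 (-3), row 672 (-6) 4 (-4) (-3), row 672 (-6) 4 8 (-3),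
    row 672 (-6) 8 4 (-3), row 672 (-2) 0 0 9, row 896 (-6) (-4) 4 (-3), row 896 (-6) 4 (-4) (-3),
    row 896 (-6) 4 8 (-3), row 896 (-6) 8 4 (-3), row 896 (-2) 0 0 9, row 1008 (-2) 0 0 9,
    row 1152 (-2) 0 0 9, row 1344 (-6) (-4) 4 (-3), row 1344 (-6) 4 (-4) (-3),
    row 1344 (-6) 4 8 (-3), row 1344 (-6) 8 4 (-3), row 1344 (-2) 0 0 9, row 2016 (-2) 0 0 9,
    row 2688 (-6) (-4) 4 (-3), row 2688 (-6) 4 (-4) (-3), row 2688 (-6) 4 8 (-3),
    row 2688 (-6) 8 4 (-3), row 2688 (-2) 0 0 9, row 2688 (-2) 8 8 9, row 2688 2 4 4 21,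
    row 2688 2 4 8 21, row 2688 2 8 4 21, row 4032 (-2) 0 0 9, row 8064 (-2) 0 0 9]

/-- values of involutions, case 29 -/
def inv29 : List (ℕ × V4) :=
  [
    row 896 (-6) (-3) (-3) 13, row 896 (-6) (-3) 13 (-3), row 896 (-6) 13 (-3) (-3)]

/-- the solutions with a central involution and all the values of involutions for them -/
def invTab : List (V4 × List (ℕ × V4)) :=
  [
    (q4 (-384) (-21) (-21) 320, inv0), (q4 (-384) (-21) 210 210, inv1),
    (q4 (-384) (-21) 210 320, inv2), (q4 (-252) (-120) (-21) 56, inv3),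
    (q4 (-252) (-120) 56 210, inv4), (q4 (-252) (-32) (-32) (-21), inv5),
    (q4 (-120) (-120) (-10) 144, inv6), (q4 (-120) (-120) 45 210, inv7),
    (q4 (-120) (-120) 45 320, inv8), (q4 (-120) (-32) (-10) 56, inv9),
    (q4 (-120) (-21) (-21) 56, inv10), (q4 (-120) (-21) (-10) 45, inv11),
    (q4 (-120) (-21) 56 210, inv12), (q4 (-120) (-21) 210 210, inv13),
    (q4 (-120) (-10) 12 12, inv14), (q4 (-120) (-10) 12 45, inv15),
    (q4 (-120) (-10) 45 144, inv16), (q4 (-120) (-10) 45 210, inv17), (q4 (-120) 45 56 144, inv18),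
    (q4 (-120) 45 56 210, inv19), (q4 (-120) 45 144 210, inv20),
    (q4 (-32) (-32) (-21) (-21), inv21), (q4 (-32) (-32) (-21) 210, inv22),
    (q4 (-32) (-10) 45 56, inv23), (q4 (-21) (-21) (-21) 56, inv24), (q4 (-21) 45 45 56, inv25),
    (q4 (-21) 45 45 210, inv26), (q4 (-10) (-10) (-10) 45, inv27), (q4 (-10) 12 12 45, inv28),
    (q4 (-10) 45 45 45, inv29)]

/-- the solutions with an involution commuting with an element of order five -/
def fiveZ : List V4 :=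
  [
    q4 (-384) (-21) (-21) 320, q4 (-384) (-21) 210 320, q4 (-252) (-120) (-21) 56,
    q4 (-252) (-32) (-32) (-21), q4 (-120) (-120) 45 320, q4 (-120) (-21) (-21) 56,
    q4 (-120) (-21) 56 210, q4 (-120) 45 56 144, q4 (-32) (-32) (-21) (-21),
    q4 (-32) (-32) (-21) 210, q4 (-21) (-21) (-21) 56]

/-- those of them with an involution commuting with an element of order seven too -/
def bothZ : List V4 :=
  [
    q4 (-120) (-120) 45 320, q4 (-120) 45 56 144]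

/-- the orders of centralisers that are considered for a solution in the table -/
def needC (z : V4) (C : ℕ) : Bool :=
  C % 128 == 0 ||
    if z = zSp then true
    else if fiveZ.contains z then C == 320 || C == 1920 || (!bothZ.contains z && C % 14 == 0)
    else C % 10 == 0

/-- the table holds for a solution -/
def invRow (z : V4) : Bool :=
  match invTab.lookup z with
  | some rows => (evenDvs.filter (needC z)).all fun C => (invSols z C).all fun r => rows.contains (C, r)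
  | none => (evenDvs.filter fun C => C % 128 == 0).all fun C => (invSols z C).isEmpty

theorem invTab_flags : invTab.all (fun p =>
    if fiveZ.contains p.1 then bothZ.contains p.1 || p.2.all (fun r => r.1 % 14 != 0)
    else p.2.all fun r => r.1 % 10 != 0) = true := by decide +kernel

end Cfsg.Lib.M22Order
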