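import Cfsg.Agent.M22Order.TablesInv
import Cfsg.Agent.M22Order.TablesBlocks

/-!
No involution commutes with an element of order five: the finite searches.
-/

set_option autoImplicit false
set_option maxRecDepth 100000

namespace Cfsg.Lib.M22Order

/-- the rows of the table for a solution -/
def rowsOf (z : V4) : List (ℕ × V4) := (invTab.lookup z).getD []

/-- the option at five with a self-centralising subgroup -/
def o5last : Opt :=
  ⟨22176, 4, 1, [-504, -384, -264, -224, -154, -144, -99, -84, -64, -44, -24, -14, -9, -4, 6, 11, 16, 21, 36, 56, 66, 96, 126, 176, 231, 336, 396, 576, 616],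
      [-616, -576, -396, -336, -231, -176, -126, -96, -66, -56, -36, -21, -16, -11, -6, 4, 9, 14, 24, 44, 64, 84, 99, 144, 154, 224, 264, 384, 504]⟩

/-- the option at seven with a self-centralising subgroup -/
def o7last : Opt :=
  ⟨21120, 3, 1, [-440, -384, -160, -132, -90, -55, -48, -20, -6, 8, 15, 22, 36, 64, 99, 120, 176, 288, 330],
      [-480, -396, -165, -144, -88, -60, -32, -18, -11, -4, 10, 24, 45, 66, 80, 192, 220, 360, 528, 640]⟩

theorem opts5_last : opts5.getLast? = some o5last := rfl
theorem opts7_last : opts7.getLast? = some o7last := rfl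

/-- the candidates at five when an involution commutes with an element of order five -/
def evenOpts (z : V4) (o : Opt) : List (List ℤ) :=
  (bopts z 5 o).filter fun c =>
    bothZ.contains z || (bopts z 7 o7last).any fun c7 => sub 7 (Lp 5 o.e c) (Lp 7 3 c7)

/-- possible values on an element of order divisible by five -/
def ys (C : ℕ) (t : ℤ) (d : ℕ) : List ℤ :=
  if d % 5 = 0 then [0]
  else ((List.range (2 * rbd C + 1)).map fun i : ℕ => (i : ℤ) - rbd C).filter fun x =>
    decide (x * x < C) && ((x - t) % 5 == 0) && ((((443520 / C : ℕ) : ℤ) * x) % (d : ℤ) == 0)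

/-- the columns at an element of order divisible by five with given values modulo five -/
def yCol (z : V4) (C : ℕ) (t : V4) (tw : ℤ) : List V4 :=
  search (C : ℤ) (sgn z.1) (sgn z.2.1) (sgn z.2.2.1) (sgn z.2.2.2)
    (fun _ r =>
      let w := lin z 1 r
      ((aOf z).natAbs % 5 != 0 || w == 0) && ((w - tw) % 5 == 0) &&
        ((((443520 / C : ℕ) : ℤ) * w) % ((aOf z).natAbs : ℤ) == 0) && decide (blockSq z 1 r ≤ C) && multOK z 1 C r)
    (ys C t.1 z.1.natAbs) (ys C t.2.1 z.2.1.natAbs) (ys C t.2.2.1 z.2.2.1.natAbs) (ys C t.2.2.2 z.2.2.2.natAbs)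

/-- the absolute values -/
def absV (z : V4) : V4 := ((z.1.natAbs : ℤ), (z.2.1.natAbs : ℤ), (z.2.2.1.natAbs : ℤ), (z.2.2.2.natAbs : ℤ))

/-- the sum for the pairs with product of order eleven -/
def mix (z ra rb : V4) : ℤ :=
  den z + (sgn z.1 * ra.1 * rb.1 * (den z / z.1.natAbs) + sgn z.2.1 * ra.2.1 * rb.2.1 * (den z / z.2.1.natAbs) +
    sgn z.2.2.1 * ra.2.2.1 * rb.2.2.1 * (den z / z.2.2.1.natAbs) +
    sgn z.2.2.2 * ra.2.2.2 * rb.2.2.2 * (den z / z.2.2.2.natAbs)) -
    sgn (aOf z) * lin z 1 ra * lin z 1 rb * (den z / (aOf z).natAbs)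

/-- the number of pairs with product of order eleven is a multiple of eleven -/
def qqOK (z : V4) (Ca : ℕ) (ra : V4) (Cb : ℕ) (rb : V4) : Bool :=
  decide (0 ≤ mix z ra rb) &&
    ((((443520 / Ca : ℕ) : ℤ) * ((443520 / Cb : ℕ) : ℤ) * mix z ra rb) % (11 * 443520 * den z) == 0)

/-- the degrees with the values in the block at eleven -/
def colPairs (z r : V4) : List (ℕ × ℤ) :=
  [(z.1.natAbs, r.1), (z.2.1.natAbs, r.2.1), (z.2.2.1.natAbs, r.2.2.1), (z.2.2.2.natAbs, r.2.2.2),
    ((aOf z).natAbs, lin z 1 r)]

/-- the signed degrees of the characters other than the trivial one in a block with one exceptional character -/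
def slotsOf (c : List ℤ) : List ℤ := c ++ [-(1 + c.sum)]

/-- the values of the block at five fit in the column -/
def slotsOK (z r : V4) (C : ℕ) (c : List ℤ) : Bool :=
  ((slotsOf c).all fun s => s.natAbs % 11 == 0 || (colPairs z r).contains (s.natAbs, sgn s)) &&
    decide (blockSq z 1 r + (((slotsOf c).filter fun s => s.natAbs % 11 == 0).length : ℤ) ≤ C)

/-- congruent modulo two -/
def parOK (u r : V4) : Bool :=
  ((u.1 - r.1) % 2 == 0) && ((u.2.1 - r.2.1) % 2 == 0) && ((u.2.2.1 - r.2.2.1) % 2 == 0) &&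
    ((u.2.2.2 - r.2.2.2) % 2 == 0)

/-- no column at an element of order five survives -/
def evenKill (z : V4) (o : Opt) : Bool :=
  (evenOpts z o).isEmpty || o.e == 4 && (yCol z (5 * o.v) (absV z) (aOf z).natAbs).all fun r =>
    !qqOK z (5 * o.v) r (5 * o.v) r || !(evenOpts z o).any (slotsOK z r (5 * o.v)) ||
      o.N == 1386 && o.v == 16 && !bothZ.contains z &&
        ((rowsOf z).filter fun q => q.1 % 320 == 0 && q.1 / 320 % 5 == 1).all fun q =>
          !qqOK z q.1 q.2 80 r || (yCol z 80 q.2 (lin z 1 q.2)).all fun u =>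
            !parOK u r || !qqOK z q.1 q.2 80 u

theorem even_num : fiveZ.all (fun z => opts5.all fun o => o.v == 1 || evenKill z o) = true := by decide +kernel

theorem rowsOf_zSp_seven : (rowsOf zSp).all (fun q => q.1 % 14 != 0) = true := by decide +kernel

theorem fiveZ_ne : fiveZ.all (fun z => z != zSp) = true := by decide +kernel

end Cfsg.Lib.M22Order
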