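import Cfsg.Agent.M22Order.TablesInvD

/-!
The values of involutions in a simple group of order 443520: one share of the solutions.
-/

set_option autoImplicit false
set_option maxRecDepth 100000

namespace Cfsg.Lib.M22Order

set_option maxHeartbeats 0 in
theorem invTab_numF : ((zOpts.drop 96).take 6).all invRow = true := by decide +kernel

end Cfsg.Lib.M22Order
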