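import Cfsg.Agent.M22Order.TablesInvA
import Cfsg.Agent.M22Order.TablesInvB
import Cfsg.Agent.M22Order.TablesInvC
import Cfsg.Agent.M22Order.TablesInvD
import Cfsg.Agent.M22Order.TablesInvE
import Cfsg.Agent.M22Order.TablesInvF
import Cfsg.Agent.M22Order.TablesInvG
import Cfsg.Agent.M22Order.TablesInvH

/-!
The values of involutions in a simple group of order 443520: all the solutions.
-/

set_option autoImplicit false
set_option maxRecDepth 100000

namespace Cfsg.Lib.M22Order

theorem invTab_num : zOpts.all invRow = true := by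
  have h : zOpts = (zOpts.drop 0).take 33 ++ (zOpts.drop 33).take 15 ++ (zOpts.drop 48).take 14 ++ (zOpts.drop 62).take 10 ++ (zOpts.drop 72).take 24 ++ (zOpts.drop 96).take 6 ++ (zOpts.drop 102).take 15 ++ (zOpts.drop 117).take 6 := by decide +kernel
  rw [h]
  simp only [List.all_append, Bool.and_eq_true]
  exact ⟨⟨⟨⟨⟨⟨⟨invTab_numA, invTab_numB⟩, invTab_numC⟩, invTab_numD⟩, invTab_numE⟩, invTab_numF⟩, invTab_numG⟩, invTab_numH⟩

end Cfsg.Lib.M22Order
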