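import Cfsg.Agent.M22Order.Invol
import Cfsg.Agent.M22Order.TablesEven
import Cfsg.Agent.M22Order.PBlk

/-!
The table of values of involutions and relations between the columns.
-/

set_option autoImplicit false
set_option linter.unusedSectionVars false
set_option linter.style.haveILetI false
set_option maxRecDepth 100000

namespace Cfsg.Lib.M22Order

open Cfsg.Lib.Chars Cfsg.Lib.Blocks Cfsg.Lib.Blocks.SmallOrder Cfsg.Lib.Blocks.SylowCount
  Cfsg.Lib.Blocks.DegreeEquation
open scoped ComplexConjugate _root_.Classical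

universe u

variable {G : Type u} [Group G] [Fintype G]

theorem mem_of_lookup {α β : Type*} [BEq α] [LawfulBEq α] {a : α} {b : β} :
    ∀ {l : List (α × β)}, l.lookup a = some b → (a, b) ∈ l
  | [], h => by simp at h
  | (x, y) :: l, h => by
    rw [List.lookup_cons] at h
    by_cases e : a = x
    · subst e
      simp at h
      simp [h]
    · rw [show (a == x) = false from beq_eq_false_iff_ne.2 e] at h
      exact List.mem_cons_of_mem _ (mem_of_lookup h)

theorem orderOf_two {u : G} (h : u * u = 1) (h1 : u ≠ 1) : orderOf u = 2 :=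
  orderOf_eq_prime (p := 2) (by rw [pow_two, h]) h1

theorem need128 {z : V4} {C : ℕ} (h : C % 128 = 0) : needC z C = true := by simp [needC, h]

theorem needSp {C : ℕ} : needC zSp C = true := by simp [needC]

theorem need10 {z : V4} {C : ℕ} (hz : fiveZ.contains z = false) (h : C % 10 = 0) : needC z C = true := by
  simp only [needC, hz, h]
  by_cases e : z = zSp <;> simp [e]

theorem need14 {z : V4} {C : ℕ} (h0 : z ≠ zSp) (h5 : fiveZ.contains z = true) (hb : bothZ.contains z = false)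
    (h : C % 14 = 0) : needC z C = true := by
  simp only [needC, if_neg h0, h5, hb, h]
  simp

variable [IsSimpleGroup G]

/-- An involution in the centre of a Sylow subgroup for two. -/
theorem exists_central (hG : Nat.card G = 443520) :
    ∃ t : G, orderOf t = 2 ∧ 128 ∣ Nat.card ↥(Subgroup.centralizer ({t} : Set G)) := by
  haveI : Fact (Nat.Prime 2) := ⟨Nat.prime_two⟩
  obtain ⟨S⟩ : Nonempty (Sylow 2 G) := inferInstance
  have hS : Nat.card ↥(S : Subgroup G) = 128 := by
    simpa using Cfsg.Lib.Small.card_sylow_of_factor S (a := 7) (m := 3465) (by rw [hG]; norm_num) (by norm_num)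
  haveI : Nontrivial ↥(S : Subgroup G) := Finite.one_lt_card_iff_nontrivial.1 (by rw [hS]; norm_num)
  have hZ := S.isPGroup'.center_nontrivial
  obtain ⟨w, hw⟩ := exists_prime_orderOf_dvd_card' (G := ↥(Subgroup.center ↥(S : Subgroup G))) 2 (by
    obtain ⟨n, hn⟩ := IsPGroup.iff_card.1 (S.isPGroup'.to_subgroup (Subgroup.center ↥(S : Subgroup G)))
    rw [hn]
    refine dvd_pow_self 2 fun e => ?_
    rw [e, pow_zero] at hn
    exact (Finite.one_lt_card_iff_nontrivial.2 hZ).ne' hn)
  refine ⟨((w : ↥(S : Subgroup G)) : G), by rw [Subgroup.orderOf_coe, Subgroup.orderOf_coe, hw], ?_⟩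
  rw [← hS]
  exact Subgroup.card_dvd_of_le fun a ha => Subgroup.mem_centralizer_singleton_iff.2
    (congrArg Subtype.val (Subgroup.mem_center_iff.1 w.2 ⟨a, ha⟩))

variable [Fact (Nat.Prime 11)]

namespace Blk

variable (B : Blk G)

/-- The values of an involution with a considered centraliser are in the table. -/
theorem mem_rows {t : G} (ht : t * t = 1) (ht1 : t ≠ 1)
    (hC : needC (v4 B.z) (Nat.card ↥(Subgroup.centralizer ({t} : Set G))) = true) :
    ∃ r : Fin 4 → ℤ, (∀ i, (B.c i : G → ℂ) t = (r i : ℂ)) ∧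
      (B.ν 1 : G → ℂ) t = (lin (v4 B.z) 1 (v4 r) : ℂ) ∧
      (Nat.card ↥(Subgroup.centralizer ({t} : Set G)), v4 r) ∈ rowsOf (v4 B.z) := by
  have hz := List.all_eq_true.1 invTab_num _ B.zv_mem
  simp only [invRow] at hz
  rcases hl : invTab.lookup (v4 B.z) with _ | rows
  · rw [hl] at hz
    simp only at hz
    obtain ⟨t0, ht0, h128⟩ := exists_central B.card
    have ht0' : t0 * t0 = 1 := by rw [← pow_two, ← ht0, pow_orderOf_eq_one]
    obtain ⟨r0, -, -, hd, hr⟩ := mem_invSols (B := B) ht0' (fun e => by rw [e, orderOf_one] at ht0; norm_num at ht0)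
    have := List.all_eq_true.1 hz _ (List.mem_filter.2 ⟨hd, by rw [beq_iff_eq]; exact Nat.mod_eq_zero_of_dvd h128⟩)
    rw [List.isEmpty_iff] at this
    rw [this] at hr
    exact absurd hr List.not_mem_nil
  · rw [hl] at hz
    simp only at hz
    obtain ⟨r, hr, hw, hd, hmem⟩ := mem_invSols (B := B) ht ht1
    refine ⟨r, hr, hw, ?_⟩
    have := List.all_eq_true.1 (List.all_eq_true.1 hz _ (List.mem_filter.2 ⟨hd, hC⟩)) _ hmem
    rw [List.contains_iff_mem] at this
    rw [rowsOf, hl]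
    exact this

theorem lookup_rows : ∃ rows, (v4 B.z, rows) ∈ invTab ∧ rowsOf (v4 B.z) = rows := by
  rcases hl : invTab.lookup (v4 B.z) with _ | rows
  · obtain ⟨t0, ht0, h128⟩ := exists_central B.card
    obtain ⟨r, -, -, hr⟩ := B.mem_rows (t := t0) (by rw [← pow_two, ← ht0, pow_orderOf_eq_one])
      (fun e => by rw [e, orderOf_one] at ht0; norm_num at ht0)
      (need128 (Nat.mod_eq_zero_of_dvd h128))
    rw [rowsOf, hl] at hr
    exact absurd hr List.not_mem_nil
  · exact ⟨rows, mem_of_lookup hl, by rw [rowsOf, hl]; rfl⟩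

/-- An involution commutes with an element of order five only for eleven solutions. -/
theorem fiveZ_of_commute {y t : G} (hy : orderOf y = 5) (ht : orderOf t = 2) (hc : y * t = t * y) :
    fiveZ.contains (v4 B.z) = true := by
  by_contra hn
  rw [Bool.not_eq_true] at hn
  obtain ⟨rows, hrows, he⟩ := B.lookup_rows
  have h5 : 5 ∣ Nat.card ↥(Subgroup.centralizer ({t} : Set G)) := hy ▸ Cfsg.Lib.M12Nse.dvd_centralizer_orderOf hc
  have h2 : 2 ∣ Nat.card ↥(Subgroup.centralizer ({t} : Set G)) :=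
    ht ▸ Cfsg.Lib.M12Nse.dvd_centralizer_orderOf (v := t) (a := t) rfl
  have h10 : Nat.card ↥(Subgroup.centralizer ({t} : Set G)) % 10 = 0 :=
    Nat.mod_eq_zero_of_dvd (Nat.Coprime.mul_dvd_of_dvd_of_dvd (by norm_num : Nat.Coprime 2 5) h2 h5)
  obtain ⟨r, -, -, hr⟩ := B.mem_rows (t := t) (by rw [← pow_two, ← ht, pow_orderOf_eq_one])
    (fun e => by rw [e, orderOf_one] at ht; norm_num at ht) (need10 hn h10)
  have hf := List.all_eq_true.1 invTab_flags _ hrows
  simp only [hn, Bool.false_eq_true, if_false, List.all_eq_true] at hf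
  have := hf _ (he ▸ hr)
  simp only [h10, bne_self_eq_false, Bool.false_eq_true] at this

/-- An involution commutes with an element of order seven only for two of these. -/
theorem bothZ_of_commute (hz : fiveZ.contains (v4 B.z) = true ∨ v4 B.z = zSp) {y t : G} (hy : orderOf y = 7)
    (ht : orderOf t = 2) (hc : y * t = t * y) : bothZ.contains (v4 B.z) = true ∧ v4 B.z ≠ zSp := by
  have h7 : 7 ∣ Nat.card ↥(Subgroup.centralizer ({t} : Set G)) := hy ▸ Cfsg.Lib.M12Nse.dvd_centralizer_orderOf hc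
  have h2 : 2 ∣ Nat.card ↥(Subgroup.centralizer ({t} : Set G)) :=
    ht ▸ Cfsg.Lib.M12Nse.dvd_centralizer_orderOf (v := t) (a := t) rfl
  have h14 : Nat.card ↥(Subgroup.centralizer ({t} : Set G)) % 14 = 0 :=
    Nat.mod_eq_zero_of_dvd (Nat.Coprime.mul_dvd_of_dvd_of_dvd (by norm_num : Nat.Coprime 2 7) h2 h7)
  have ht2 : t * t = 1 := by rw [← pow_two, ← ht, pow_orderOf_eq_one]
  have ht1 : t ≠ 1 := fun e => by rw [e, orderOf_one] at ht; norm_num at ht
  have hne : v4 B.z ≠ zSp := fun e => by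
    obtain ⟨r, -, -, hr⟩ := B.mem_rows ht2 ht1 (by rw [e]; exact needSp)
    rw [e] at hr
    have := List.all_eq_true.1 rowsOf_zSp_seven _ hr
    simp only [h14, bne_self_eq_false, Bool.false_eq_true] at this
  refine ⟨?_, hne⟩
  have hf5 := hz.resolve_right hne
  by_contra hb
  rw [Bool.not_eq_true] at hb
  obtain ⟨rows, hrows, he⟩ := B.lookup_rows
  obtain ⟨r, -, -, hr⟩ := B.mem_rows ht2 ht1 (need14 hne hf5 hb h14)
  have hf := List.all_eq_true.1 invTab_flags _ hrows
  simp only [hf5, hb, if_true, Bool.false_or, List.all_eq_true] at hf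
  have := hf _ (he ▸ hr)
  simp only [h14, bne_self_eq_false, Bool.false_eq_true] at this

variable {B}

theorem vals_one {g : G} (hg : ¬ 11 ∣ orderOf g) {r : Fin 4 → ℤ} (hr : ∀ i, (B.c i : G → ℂ) g = (r i : ℂ)) :
    B.Vals {g} r ∧ (B.ν 1 : G → ℂ) g = (lin (v4 B.z) 1 (v4 r) : ℂ) := by
  have hV : B.Vals {g} r := ⟨fun h hh => by rw [Finset.mem_singleton.1 hh]; exact hg,
    fun i => by rw [Finset.sum_singleton, hr i]⟩
  refine ⟨hV, ?_⟩
  have := hV.exc
  rwa [Finset.sum_singleton, Finset.card_singleton, Nat.cast_one] at this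

/-- The squares of the values split along the block. -/
theorem sq_split {g : G} (hg : ¬ 11 ∣ orderOf g) {r : Fin 4 → ℤ} (hr : ∀ i, (B.c i : G → ℂ) g = (r i : ℂ)) :
    (blockSq (v4 B.z) 1 (v4 r) : ℝ) + ∑ η ∈ B.rest, Complex.normSq ((η : G → ℂ) g) =
      (Nat.card ↥(Subgroup.centralizer ({g} : Set G)) : ℝ) := by
  have hw := (vals_one hg hr).2
  have h := second_orthogonality g g
  rw [if_pos (IsConj.refl _), B.sum_split,
    Finset.sum_congr rfl (g := fun i : Fin 4 => ((r i * r i : ℤ) : ℂ))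
      (fun i _ => by rw [hr i, map_intCast]; push_cast; ring),
    Finset.sum_congr rfl (g := fun _ : IrrCharacter G => ((lin (v4 B.z) 1 (v4 r) * lin (v4 B.z) 1 (v4 r) : ℤ) : ℂ))
      (fun η hη => by rw [B.apply_exc hη hg, hw, map_intCast]; push_cast; ring),
    Finset.sum_const, B.card_exc, oneG_apply, map_one, mul_one, nsmul_eq_mul,
    Finset.sum_congr rfl (g := fun η : IrrCharacter G => ((Complex.normSq ((η : G → ℂ) g) : ℝ) : ℂ))
      (fun η _ => Complex.mul_conj _), ← Complex.ofReal_sum] at h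
  have hre := congrArg Complex.re h
  simp only [Complex.add_re, Complex.ofReal_re, Complex.natCast_re, Complex.mul_re, Complex.intCast_re,
    Complex.natCast_im, Complex.intCast_im, Complex.re_sum, Complex.one_re, mul_zero, sub_zero, zero_mul] at hre
  simp only [blockSq, v4, Fin.sum_univ_four] at hre ⊢
  push_cast at hre ⊢
  linarith

/-- Squares of integral values outside the block. -/
theorem blockSq_add_le {g : G} (hg : ¬ 11 ∣ orderOf g) {r : Fin 4 → ℤ} (hr : ∀ i, (B.c i : G → ℂ) g = (r i : ℂ))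
    (S : Finset (IrrCharacter G)) (hS : S ⊆ B.rest) (x : IrrCharacter G → ℤ)
    (hx : ∀ η ∈ S, (η : G → ℂ) g = (x η : ℂ)) :
    blockSq (v4 B.z) 1 (v4 r) + ∑ η ∈ S, x η * x η ≤ (Nat.card ↥(Subgroup.centralizer ({g} : Set G)) : ℤ) := by
  have h := sq_split hg hr
  have h1 : (∑ η ∈ S, Complex.normSq ((η : G → ℂ) g)) ≤ ∑ η ∈ B.rest, Complex.normSq ((η : G → ℂ) g) :=
    Finset.sum_le_sum_of_subset_of_nonneg hS fun η _ _ => Complex.normSq_nonneg _
  rw [Finset.sum_congr rfl (g := fun η => ((x η : ℝ) * (x η : ℝ))) (fun η hη => by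
    rw [hx η hη]; exact Complex.normSq_intCast (x η))] at h1
  have h2 : (((blockSq (v4 B.z) 1 (v4 r) + ∑ η ∈ S, x η * x η : ℤ)) : ℝ) ≤
      (((Nat.card ↥(Subgroup.centralizer ({g} : Set G)) : ℤ)) : ℝ) := by
    push_cast
    linarith
  exact_mod_cast h2

/-- The values on degrees prime to eleven. -/
theorem mem_colPairs {g : G} (hg : ¬ 11 ∣ orderOf g) {r : Fin 4 → ℤ} (hr : ∀ i, (B.c i : G → ℂ) g = (r i : ℂ))
    {χ : IrrCharacter G} (hd : ¬ 11 ∣ deg (χ : G → ℂ)) (hne : χ ≠ oneG G) {x : ℤ} (hx : (χ : G → ℂ) g = (x : ℂ)) :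
    (deg (χ : G → ℂ), x) ∈ colPairs (v4 B.z) (v4 r) := by
  by_cases h1 : χ ∈ Finset.univ.image B.c
  · obtain ⟨i, -, rfl⟩ := Finset.mem_image.1 h1
    obtain rfl : x = r i := Int.cast_injective (hx.symm.trans (hr i))
    rw [← (B.sign_eq i).2]
    fin_cases i <;> simp [colPairs, v4]
  by_cases h2 : χ ∈ Finset.univ.image B.ν
  · have := B.apply_exc h2 hg
    rw [hx, (vals_one hg hr).2] at this
    obtain rfl := Int.cast_injective this
    rw [B.deg_exc_eq h2, ← B.exc_sign.2]
    simp [colPairs, v4]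
  refine absurd (B.rest_dvd_deg (η := χ) (Finset.mem_sdiff.2 ⟨Finset.mem_univ _, fun hu => ?_⟩)) hd
  rcases Finset.mem_union.1 hu with h | h
  · exact h1 ((Finset.mem_insert.1 h).resolve_left hne)
  · exact h2 h

/-- Pairs of regular elements with product of order eleven. -/
theorem qq_ok {a b : G} (ha : ¬ 11 ∣ orderOf a) (ha1 : a ≠ 1) (hb : ¬ 11 ∣ orderOf b) {ra rb : Fin 4 → ℤ}
    (hra : ∀ i, (B.c i : G → ℂ) a = (ra i : ℂ)) (hrb : ∀ i, (B.c i : G → ℂ) b = (rb i : ℂ)) :
    qqOK (v4 B.z) (Nat.card ↥(Subgroup.centralizer ({a} : Set G))) (v4 ra)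
      (Nat.card ↥(Subgroup.centralizer ({b} : Set G))) (v4 rb) = true := by
  have hwa := (vals_one ha hra).2
  have hwb := (vals_one hb hrb).2
  have h1 := class_mult_formula a b B.x
  obtain ⟨q, hq⟩ := dvd_card_pairs (a := a) (b := b) (c := B.x) (fun g hg a' ha' hga => by
    by_contra hg1
    have ho : orderOf g = 11 := by
      have hd : orderOf g ∣ 11 := by
        rw [← B.card_x]
        exact Subgroup.orderOf_dvd_natCard _ (Subgroup.mem_centralizer_singleton_iff.2 hg)
      rcases (Nat.dvd_prime (by norm_num : Nat.Prime 11)).1 hd with e | e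
      · exact absurd (orderOf_eq_one_iff.1 e) hg1
      · exact e
    obtain ⟨c, hc⟩ := isConj_iff.1 ha'
    have hoa : orderOf a' = orderOf a := by rw [← hc]; exact MulEquiv.orderOf_eq (MulAut.conj c) a
    refine eleven_not_dvd B.card (g := a') (fun e => ?_) (hoa ▸ ha)
      (ho ▸ Cfsg.Lib.M12Nse.dvd_centralizer_orderOf hga)
    rw [e, orderOf_one] at hoa
    exact ha1 (orderOf_eq_one_iff.1 hoa.symm))
  rw [B.card_x] at hq
  rw [hq, card_class_eq, card_class_eq, B.card, B.sum_split,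
    Finset.sum_congr rfl (g := fun i : Fin 4 =>
      ((sgn (B.z i) * ra i * rb i : ℤ) : ℂ) / (deg (B.c i : G → ℂ) : ℂ))
      (fun i _ => by rw [irr_apply_one_eq_deg, B.apply_x, map_intCast, hra i, hrb i]; push_cast; ring),
    Finset.sum_congr rfl (g := fun η : IrrCharacter G =>
      ((lin (v4 B.z) 1 (v4 ra) * lin (v4 B.z) 1 (v4 rb) : ℤ) : ℂ) / (deg (B.ν 1 : G → ℂ) : ℂ) *
        conj ((η : G → ℂ) B.x))
      (fun η hη => by
        rw [B.apply_exc hη ha, B.apply_exc hη hb, irr_apply_one_eq_deg, B.deg_exc_eq hη, hwa, hwb]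
        push_cast; ring),
    Finset.sum_eq_zero (s := B.rest) (fun η hη => by rw [B.rest_apply_x hη, map_zero, mul_zero, zero_div]),
    ← Finset.mul_sum, ← map_sum, B.sum_exc_x, oneG_apply, oneG_apply, oneG_apply] at h1
  simp only [map_neg, map_intCast, map_one, mul_one, div_one, add_zero] at h1
  set Ka := 443520 / Nat.card ↥(Subgroup.centralizer ({a} : Set G))
  set Kb := 443520 / Nat.card ↥(Subgroup.centralizer ({b} : Set G))
  have hKa : 0 < Ka := Nat.div_pos (Nat.le_of_dvd (by norm_num) (B.card ▸ Subgroup.card_subgroup_dvd_card _)) Nat.card_pos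
  have hKb : 0 < Kb := Nat.div_pos (Nat.le_of_dvd (by norm_num) (B.card ▸ Subgroup.card_subgroup_dvd_card _)) Nat.card_pos
  have hmix : (mix (v4 B.z) (v4 ra) (v4 rb) : ℂ) = (den (v4 B.z) : ℂ) *
      (1 + ∑ i, ((sgn (B.z i) * ra i * rb i : ℤ) : ℂ) / (deg (B.c i : G → ℂ) : ℂ) +
        ((lin (v4 B.z) 1 (v4 ra) * lin (v4 B.z) 1 (v4 rb) : ℤ) : ℂ) / (deg (B.ν 1 : G → ℂ) : ℂ) * -(B.δ : ℂ)) := by
    have h0 := den_div_z (B := B) 0
    have h1 := den_div_z (B := B) 1
    have h2 := den_div_z (B := B) 2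
    have h3 := den_div_z (B := B) 3
    have h4 := den_div_a (B := B)
    have hs := B.exc_sign.1
    simp only [v4] at h0 h1 h2 h3 h4 hs ⊢
    simp only [mix, Fin.sum_univ_four]
    rw [← hs]
    push_cast at h0 h1 h2 h3 h4 ⊢
    rw [h0, h1, h2, h3, h4]
    ring
  have key : ((Ka : ℤ) * (Kb : ℤ)) * mix (v4 B.z) (v4 ra) (v4 rb) = 11 * 443520 * den (v4 B.z) * (q : ℤ) := by
    apply Int.cast_injective (α := ℂ)
    push_cast at h1 hmix ⊢
    rw [hmix]
    rw [oneG_apply, div_one] at h1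
    linear_combination -(443520 * (den (v4 B.z) : ℂ)) * h1
  have hpos : 0 < den (v4 B.z) := lt_of_le_of_ne (by simp only [den]; positivity) den_ne.symm
  simp only [qqOK, Bool.and_eq_true, decide_eq_true_eq, beq_iff_eq]
  refine ⟨?_, by rw [key]; exact Int.mul_emod_right _ _⟩
  have h0 : 0 ≤ 11 * 443520 * den (v4 B.z) * (q : ℤ) := by positivity
  exact nonneg_of_mul_nonneg_right (key ▸ h0) (by positivity)

end Blk

end Cfsg.Lib.M22Order
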